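import Cfsg.Agent.H63.Tits.NumEMain_mg_m3
import Cfsg.Agent.H263.TW.Pol_m3
import Cfsg.Agent.H384.TwoTransMain
import Cfsg.Agent.S0000
import Cfsg.Agent.H437.Tits.Cnt_m3
import Cfsg.Agent.H384.AsOut
import Cfsg.Agent.H384.TwoTrans
import Cfsg.Agent.H248.DichChev
import Cfsg.Agent.H499.TTSmall
import Cfsg.Agent.S0280
import Cfsg.Agent.LieRecognition.ReeFinal
import Cfsg.Agent.S1163
import Cfsg.Agent.S0245
import Cfsg.Agent.S0246
import Cfsg.Agent.S0364
import Cfsg.Agent.H807.El.Mathieu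
import Cfsg.Agent.H946.ExcNum_m3
import Cfsg.Agent.H363.PSL2Spec
import Cfsg.Agent.H933.HT.U33T
import Cfsg.Agent.S5758
import Cfsg.Agent.S1142
import Cfsg.Agent.H482.Tab.Six_mg_m3
import Cfsg.Agent.OrdDiv.Table
import Mathlib
import Cfsg.Agent.Lib.Cores
import Cfsg.Agent.AschCrit.CommFour.Orbits_m3
import Cfsg.Agent.H115.Tits.AsmFinal
import Cfsg.Agent.H934.OutAll
import Cfsg.Agent.H95.Hig.Num
import Cfsg.Agent.FastGrp
import Cfsg.Agent.Prune
set_option linter.all false

section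
prune_inst 0x7ffcfcf9aeb835deffff7e7ffff8dffe39d4dfffffdff94bffece3ffafdf23062be1fbaf0de058ff0ed6e09410b87813f97eceffeb6bdc7ffffd5ff45ffbee1fe5ffbf8171d79c340f7c6ffffbf077ce7f3fffffffffffffffffffffffffffbeffffffffffff

-- part: H813/TT/StLocFin
section
set_option linter.all false
open scoped Cfsg.Agent.FastGrp

-- part: H813/TT/Aff
section
/-!
# S3414, E-LOC: the affine 2-transitive groups of degree `p ^ k + 1` (helper813)
-/

set_option autoImplicit false

namespace Cfsg.Agent.H813.TT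

open Subgroup MulAction
open Cfsg.Agent.H873.Tits (Spec)

universe u v

variable {G : Type u} {Ω : Type v} [Group G] [MulAction G Ω] {a b : Ω} {p k : ℕ}

theorem card_regular {N : Subgroup G} [Nonempty Ω] (htr : ∀ x y : Ω, ∃ n ∈ N, n • x = y)
    (hreg : ∀ x : Ω, ∀ n ∈ N, n • x = x → n = 1) : Nat.card N = Nat.card Ω := by
  obtain ⟨x⟩ := ‹Nonempty Ω›
  apply Nat.card_congr
  refine Equiv.ofBijective (fun n => (n : G) • x) ⟨?_, ?_⟩
  · intro m n h
    have h1 := hreg x ((n : G)⁻¹ * m) (mul_mem (inv_mem n.2) m.2) (by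
      rw [mul_smul, inv_smul_eq_iff]
      exact h)
    exact Subtype.ext (inv_mul_eq_one.1 h1).symm
  · intro y
    obtain ⟨n, hn, h⟩ := htr x y
    exact ⟨⟨n, hn⟩, h⟩

theorem card_stab_dvd_aut [Finite G] [FaithfulSMul G Ω] (N : Subgroup G) [hN : N.Normal]
    (htr : ∀ x y : Ω, ∃ n ∈ N, n • x = y) (a : Ω) : Nat.card ↥(stabilizer G a) ∣ Nat.card (MulAut N) := by
  let f : ↥(stabilizer G a) →* MulAut N := (MulAut.conjNormal (H := N)).comp (stabilizer G a).subtype
  have hf : Function.Injective f := by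
    rw [injective_iff_map_eq_one]
    rintro ⟨g, hga⟩ hg
    apply Subtype.ext
    show g = 1
    refine FaithfulSMul.eq_of_smul_eq_smul (α := Ω) fun c => ?_
    rw [one_smul]
    obtain ⟨n, hn, rfl⟩ := htr a c
    have h0 := DFunLike.congr_fun hg (⟨n, hn⟩ : N)
    have h1 : g * n * g⁻¹ = n := congrArg Subtype.val h0
    have h2 : g * n = n * g := mul_inv_eq_iff_eq_mul.1 h1
    rw [← mul_smul, h2, mul_smul, show g • a = a from hga]
  exact Subgroup.card_dvd_of_injective f hf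

/-- **the affine groups** -/
theorem aff_spec [Finite G] [Finite Ω] [FaithfulSMul G Ω] (h2 : T2 G Ω) (N : Subgroup G) [N.Normal]
    (hexp : ∃ r : ℕ, r.Prime ∧ ∀ n ∈ N, n ^ r = 1)
    (htr : ∀ x y : Ω, ∃ n ∈ N, n • x = y) (hreg : ∀ x : Ω, ∀ n ∈ N, n • x = x → n = 1)
    (hp : p.Prime) (hk : 1 ≤ k) (hn : Nat.card Ω = p ^ k + 1) (Q : Subgroup G)
    (hQp : IsPGroup p Q) (hQ1 : Q ≠ ⊥) (hfix : ∀ x ∈ Q, x • a = a)
    (hnorm : ∀ g : G, g • a = a → ∀ x ∈ Q, g * x * g⁻¹ ∈ Q) (hab : a ≠ b) :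
    Spec p k (Nat.card ↥(stabilizer G a ⊓ stabilizer G b)) := by
  obtain ⟨r, hr, hexp⟩ := hexp
  have := Fact.mk hr
  have : Nonempty Ω := ⟨a⟩
  have hpk : 2 ≤ p ^ k := hp.two_le.trans (Nat.le_self_pow (by omega) p)
  have hNc : Nat.card N = p ^ k + 1 := by rw [card_regular htr hreg, hn]
  have hNp : IsPGroup r N := fun x => ⟨1, by
    rw [pow_one]
    exact Subtype.ext (hexp x x.2)⟩
  obtain ⟨m, hm⟩ := IsPGroup.iff_card.1 hNp
  have hst := card_stab h2 hab
  have hdv := card_stab_dvd_aut N htr a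
  rw [hst, hn, Nat.add_sub_cancel] at hdv
  set c := Nat.card ↥(stabilizer G a ⊓ stabilizer G b) with hc
  rw [hNc] at hm
  by_cases hp2 : p = 2
  · subst hp2
    -- `N` of prime order
    have hone : m = 1 → Spec 2 k c := by
      intro h1
      rw [h1, pow_one] at hm
      left
      refine ⟨rfl, by rw [hm]; exact hr, ?_⟩
      have hcyc : IsCyclic N := isCyclic_of_prime_card (p := r) (by rw [hNc, hm])
      rw [hcyc.card_mulAut, hNc, hm, Nat.totient_prime hr] at hdv
      have h3 : r - 1 = 2 ^ k * 1 := by omega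
      rw [h3] at hdv
      exact Nat.dvd_one.1 (Nat.dvd_of_mul_dvd_mul_left (by positivity) hdv)
    rcases Nat.lt_or_ge k 2 with hk2 | hk2
    · have hk1 : k = 1 := by omega
      apply hone
      rw [hk1] at hm
      have h3 : r ^ m = 3 ^ 1 := by rw [← hm]; norm_num
      have hm1 : 1 ≤ m := by
        by_contra h0
        have h4 : m = 0 := by omega
        rw [h4] at h3
        norm_num at h3
      have h4 : r ∣ 3 ^ 1 := h3 ▸ dvd_pow_self r (by omega)
      have h5 : r = 3 := (Nat.prime_dvd_prime_iff_eq hr Nat.prime_three).1 (by rwa [pow_one] at h4)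
      rw [h5] at h3
      exact Nat.pow_right_injective (le_refl 3 |>.trans' (by norm_num)) h3
    · rcases H705.UArith.two_pow_add_one hr hm.symm hk2 with h1 | h9
      · exact hone h1
      · right; left
        have h8 : 2 ^ k = 2 ^ 3 := by
          have : (2 : ℕ) ^ 3 = 8 := by norm_num
          omega
        have hk3 : k = 3 := Nat.pow_right_injective le_rfl h8
        refine ⟨rfl, hk3, ?_⟩
        have h3 : Nat.card N = 3 ^ 2 := by
          rw [hNc, hm, h9]
          norm_num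
        have := Fact.mk Nat.prime_three
        have h4 := hdv.trans (Cfsg.Agent.SmallSimple.BurnsideNC.card_mulAut_dvd_of_card_eq_sq h3)
        rw [h8] at h4
        have h5 : 8 * c ∣ 8 * 6 := h4
        exact Nat.dvd_of_mul_dvd_mul_left (by norm_num) h5
  · -- `p` odd
    have hodd : Odd (p ^ k) := (hp.odd_of_ne_two hp2).pow
    have hr2 : r = 2 := by
      by_contra hne
      have h1 : Odd (r ^ m) := (hr.odd_of_ne_two hne).pow
      rw [← hm] at h1
      exact (Nat.not_even_iff_odd.2 h1) (hodd.add_odd odd_one)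
    rw [hr2] at hm
    have hk1 := two_pow_eq hp hk hm.symm
    rw [hk1, pow_one] at hn hm
    right; right; left
    exact ⟨hk1, ⟨m, hm⟩, prime_dvd hp hn Q hQp hQ1 hfix hnorm hab⟩

end Cfsg.Agent.H813.TT
end

-- part: H813/TT/StLoc
section
/-!
# S3414, E-LOC: `StLoc` from the list of the 2-transitive groups (helper813)
-/

set_option autoImplicit false
open Cfsg

namespace Cfsg.Agent.H813.TT

open Subgroup MulAction Cfsg.Agent.H384.TwoTrans Cfsg.Agent.H361.Tits
open Cfsg.Agent.H873.Tits (Spec TBd StLoc Stb LQ TwoTr SimpTwo)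

universe u v

section

variable {G : Type u} {Ω : Type v} [Group G] [MulAction G Ω] {a b : Ω} {p k : ℕ}

theorem TT2.t2 {T : Subgroup G} (h : TT2 T Ω) : T2 T Ω := by
  intro x y x' y' hxy hxy'
  obtain ⟨g, hg, h1, h2⟩ := h x y x' y' hxy hxy'
  exact ⟨⟨g, hg⟩, h1, h2⟩

theorem bd_le {e T : ℕ} (hp : p.Prime) (hk : 1 ≤ k) (hd : p ^ e ∣ T) (h : TBd p k T) : p ^ e ≤ k := by
  rcases h with h | ⟨f, hf, h⟩
  · have h1 := hd.trans h
    have hco : Nat.Coprime (p ^ e) (p ^ k - 1) := by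
      apply Nat.Coprime.pow_left
      rw [hp.coprime_iff_not_dvd]
      intro h2
      have h3 : p ∣ p ^ k := dvd_pow_self p (by omega)
      have h4 : 1 ≤ p ^ k := Nat.one_le_pow _ _ hp.pos
      have h5 := (Nat.dvd_sub h3 h2)
      rw [show p ^ k - (p ^ k - 1) = 1 by omega] at h5
      exact hp.one_lt.ne' (Nat.dvd_one.1 h5)
    exact Nat.le_of_dvd (by omega) (hco.dvd_of_dvd_mul_left h1)
  · have h1 := hd.trans h
    have hf1 : 1 ≤ f := by omega
    have hco : Nat.Coprime (p ^ e) (p ^ (2 * f) - 1) := by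
      apply Nat.Coprime.pow_left
      rw [hp.coprime_iff_not_dvd]
      intro h2
      have h3 : p ∣ p ^ (2 * f) := dvd_pow_self p (by omega)
      have h4 : 1 ≤ p ^ (2 * f) := Nat.one_le_pow _ _ hp.pos
      have h5 := (Nat.dvd_sub h3 h2)
      rw [show p ^ (2 * f) - (p ^ (2 * f) - 1) = 1 by omega] at h5
      exact hp.one_lt.ne' (Nat.dvd_one.1 h5)
    have := Nat.le_of_dvd (by omega) (hco.dvd_of_dvd_mul_left h1)
    omega

theorem loc [Finite G] [Finite Ω] [FaithfulSMul G Ω]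
    (hK : ∀ T : Subgroup G, AS G Ω T → Known2 ↥T (Nat.card Ω)) (h2 : T2 G Ω) (hp : p.Prime) (hk : 1 ≤ k)
    (hn : Nat.card Ω = p ^ k + 1) (hab : a ≠ b) (Q : Subgroup G) (hQp : IsPGroup p ↥Q) (hQ1 : Q ≠ ⊥)
    (hfix : ∀ x ∈ Q, x • a = a) (hnorm : ∀ g : G, g • a = a → ∀ x ∈ Q, g * x * g⁻¹ ∈ Q)
    (H : Subgroup G) (hH2 : TT2 H Ω) (hHi : ∃ e, H.index = p ^ e) :
    ((2 ≤ k ∨ 5 ≤ p) ∧ (∃ T : Subgroup G, T.Normal ∧ IsSimpleGroup ↥T ∧ ¬ IsMulCommutative ↥T ∧ TT2 T Ω ∧ T ≤ H) ∧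
      TBd p k (Nat.card ↥(stabilizer G a ⊓ stabilizer G b))) ∨
      Spec p k (Nat.card ↥(stabilizer G a ⊓ stabilizer G b)) := by
  have hpk : 2 ≤ p ^ k := hp.two_le.trans (Nat.le_self_pow (by omega) p)
  have h3 : 3 ≤ Nat.card Ω := by omega
  have hpre : IsMultiplyPretransitive G Ω 2 := by
    rw [is_two_pretransitive_iff]
    intro a b c d hab hcd
    exact h2 a b c d hab hcd
  rcases reduction hpre h3 with ⟨N, hN, -, hNc, hexp, htr, hreg⟩ | ⟨T, A⟩
  · right
    exact aff_spec h2 N hexp htr hreg hp hk hn Q hQp hQ1 hfix hnorm hab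
  obtain ⟨Z, hZQ, hZ⟩ := exists_EA hp Q hQp hQ1 hfix hnorm
  by_cases hnsr : ∃ n ∈ Z, n ≠ 1 ∧ ∃ y : Ω, y ≠ a ∧ n • y = y
  · exfalso
    obtain ⟨f, d, hp', hf, hd, hcd, -⟩ := pslT_of_nsr hpre hp ⟨Z, hZ.fix, hZ.norm, hZ.comm, hnsr, hZ.isPGroup⟩
    rw [hn] at hcd
    have := psl_arith hp hp' hf (by omega) hcd
    omega
  · have hSR : SR a p Z := ⟨hZ, by
      intro x hx hx1 b hb
      by_contra hba
      exact hnsr ⟨x, hx, hx1, b, hba, hb⟩⟩
    rcases rows A (hK T A) hSR hn hab with hg | ⟨hp3, hk3, hc⟩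
    · left
      refine ⟨hg.big, ⟨T, A.normal, A.simple, A.nonab, hg.two, ?_⟩, hg.bd⟩
      obtain ⟨e, he⟩ := hHi
      have hT := A.normal
      have hTs := A.simple
      have cG := card_two (G := G) h3 h2 hab
      have cH := card_two (G := H) h3 hH2.t2 hab
      have cT := card_two (G := T) h3 hg.two.t2 hab
      rw [hn, Nat.add_sub_cancel] at cG cH cT
      have hGH := H.card_mul_index
      rw [cG, cH, he] at hGH
      have hd : p ^ e ∣ Nat.card ↥(stabilizer G a ⊓ stabilizer G b) := by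
        refine ⟨Nat.card ↥(stabilizer H a ⊓ stabilizer H b), ?_⟩
        have h0 : 0 < (p ^ k + 1) * p ^ k := by positivity
        apply Nat.eq_of_mul_eq_mul_left h0
        calc (p ^ k + 1) * p ^ k * Nat.card ↥(stabilizer G a ⊓ stabilizer G b)
            = (p ^ k + 1) * (p ^ k * Nat.card ↥(stabilizer G a ⊓ stabilizer G b)) := by ring
          _ = _ := hGH.symm
          _ = _ := by ring
      have hle := bd_le hp hk hd hg.bd
      exact le_of_small T H (p := p) (k := k) hp ⟨(p ^ k + 1) * Nat.card ↥(stabilizer T a ⊓ stabilizer T b), by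
        rw [cT]; ring⟩ (by rw [he]; exact hle)
    · right; right; right; right
      exact ⟨hp3, hk3, by rw [hc]⟩

end

/-- **E-LOC** -/
theorem st_loc_of (hK : ∀ {G Ω : Type v} [Group G] [MulAction G Ω] {T : Subgroup G}, AS G Ω T →
    Known2 ↥T (Nat.card Ω)) : StLoc.{v} := by
  intro Ω _ L L' s p k a b Q hLQ hL' hle hs hidx
  have hc := hLQ.card
  have hs2 := hLQ.two_le
  have hQL : Q ≤ L := hLQ.Q_le.trans inf_le_left
  have hQa : ∀ x ∈ Q, x a = a := fun x hx => (hLQ.Q_le hx).2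
  have hk : 1 ≤ k := by
    rcases Nat.eq_zero_or_pos k with h | h
    · rw [h, pow_zero] at hs
      omega
    · exact h
  have hcard : Nat.card ↥(Stb L a ⊓ Stb L b) = Nat.card ↥(stabilizer L a ⊓ stabilizer L b) := by
    apply Nat.card_congr
    exact ⟨fun g => ⟨⟨g.1, g.2.1.1⟩, g.2.1.2, g.2.2.2⟩, fun g => ⟨g.1.1, ⟨g.1.2, g.2.1⟩, ⟨g.1.2, g.2.2⟩⟩,
      fun _ => rfl, fun _ => rfl⟩
  have h2 : T2 L Ω := by
    intro x y x' y' hxy hxy'
    obtain ⟨g, hg, h1, h2⟩ := hLQ.two x y x' y' hxy hxy'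
    exact ⟨⟨g, hg⟩, h1, h2⟩
  have hloc := loc (G := L) (Ω := Ω) (k := k) (b := b) (fun T A => hK A) h2 hLQ.prime hk (by rw [hc, hs]) hLQ.ne
    (Q.subgroupOf L)
    (hLQ.Q_p.comap_of_injective L.subtype L.subtype_injective)
    (by
      intro h
      rw [subgroupOf_eq_bot, disjoint_iff, inf_eq_left.2 hQL] at h
      exact hLQ.Q_ne h)
    (fun x hx => hQa x hx)
    (by
      intro g hg x hx
      have hgS : (g : Equiv.Perm Ω) ∈ Stb L a := ⟨g.2, hg⟩
      have h1 := hLQ.Q_normal.conj_mem ⟨x, hLQ.Q_le hx⟩ hx ⟨g, hgS⟩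
      exact h1)
    (L'.subgroupOf L)
    (by
      intro x y x' y' hxy hxy'
      obtain ⟨g, hg, h1, h2⟩ := hL' x y x' y' hxy hxy'
      exact ⟨⟨g, hle hg⟩, hg, h1, h2⟩)
    hidx
  rw [hcard]
  rcases hloc with ⟨hbig, ⟨T, hT, hTs, hTa, hT2, hTH⟩, hbd⟩ | hsp
  · left
    refine ⟨hbig, ⟨T.map L.subtype, ?_, ?_, ?_, ?_, ?_⟩, hbd⟩
    · rintro _ ⟨x, hx, rfl⟩
      exact hTH hx
    · constructor
      rintro ⟨x, hxL'⟩ hx ⟨g, hg⟩
      obtain ⟨y, hy, hyx⟩ := hx
      refine ⟨(⟨g, hle hg⟩ * y * ⟨g, hle hg⟩⁻¹ :), hT.conj_mem y hy _, ?_⟩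
      have hyx' : (y : Equiv.Perm Ω) = x := hyx
      show g * (y : Equiv.Perm Ω) * g⁻¹ = g * x * g⁻¹
      rw [hyx']
    · exact (T.equivMapOfInjective _ L.subtype_injective).symm.isSimpleGroup
    · intro hcm
      apply hTa
      let e : T ≃* T.map L.subtype := T.equivMapOfInjective _ L.subtype_injective
      exact ⟨⟨fun x y => e.injective (by rw [map_mul, map_mul, hcm.is_comm.comm])⟩⟩
    · intro x y x' y' hxy hxy'
      obtain ⟨g, hg, h1, h2⟩ := hT2 x y x' y' hxy hxy'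
      exact ⟨g, ⟨g, hg, rfl⟩, h1, h2⟩
  · exact Or.inr hsp

end Cfsg.Agent.H813.TT
end

-- part: H813/TT/StLocFin
section
/-!
# S3414, E-LOC: `st_loc` (helper813)
-/

set_option autoImplicit false

namespace Cfsg.Agent.H813.TT

open Cfsg.Agent.H873.Tits

universe v

/-- **E-LOC** -/
theorem st_loc : StLoc.{v} :=
  st_loc_of fun A => Cfsg.Agent.H384.TwoTransMain.main (fun _ _ _ _ => Cfsg.Agent.S0000.result) A

end Cfsg.Agent.H813.TT
end
end

-- part: H437/Tits/Big
section
set_option linter.all false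
open scoped Cfsg.Agent.FastGrp

/-!
# S3414 [E3]: `r₀ ≥ 31` does not occur
-/

set_option autoImplicit false

namespace Cfsg.Agent.H437.Tits

open Subgroup Module Cfsg.Agent.H873.Tits Cfsg.Agent.H482.Tab

universe u v

theorem four_mul_lt {k : ℕ} (hk : 6 ≤ k) : 4 * k + 1 ≤ 2 ^ (k - 1) - 1 := by
  obtain ⟨c, rfl⟩ : ∃ c, k = c + 6 := ⟨k - 6, by omega⟩
  rw [show c + 6 - 1 = c + 5 by omega]
  clear hk
  induction c with
  | zero => norm_num
  | succ c ih =>
    have : 2 ^ (c + 1 + 5) = 2 * 2 ^ (c + 5) := by ring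
    omega

/-- affine, degree `2 ^ c + 1`: the two point stabilizer is trivial or the degree is `9` -/
theorem aff_two_pow {Ω : Type v} [Finite Ω] {L : Subgroup (Equiv.Perm Ω)} (h2 : TwoTr L) (hAff : Aff L) {a b : Ω}
    (hab : a ≠ b) {c : ℕ} (hc : 1 ≤ c) (hn : Nat.card Ω = 2 ^ c + 1) :
    Nat.card ↥(Stb L a ⊓ Stb L b) = 1 ∨ 2 ^ c = 8 := by
  obtain ⟨r, hr, V, i1, i2, i3, φ, w₁, β, H, h0, hb, hβ⟩ := exists_TL h2 hAff hab
  have hV : Nat.card V = r ^ finrank (ZMod r) V := by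
    rw [Module.natCard_eq_pow_finrank (K := ZMod r), Nat.card_zmod]
  rw [Nat.card_congr β, hn] at hV
  rcases two_pow_add_one (Fact.out : r.Prime) hc hV with h | h
  · left
    rw [← card_stab_eq hb hβ]
    have := H.card_stab_dvd (d := 0) (by rw [h])
    simpa using this
  · exact Or.inr h

/-- the `3`-part of the order of the two point stabilizer, degree `r₁ ^ 2` -/
theorem fact_three {r₁ t T : ℕ} (hr₁ : r₁.Prime) (h7 : 7 ≤ r₁) (ht : t + 1 = r₁ ^ 2) (hT : T ∣ r₁ ^ 2 - r₁) :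
    T.factorization 3 ≤ t.factorization 3 := by
  have h1 : r₁ ^ 2 - r₁ = r₁ * (r₁ - 1) := by rw [pow_two, Nat.mul_sub_one]
  have h2 : t = (r₁ - 1) * (r₁ + 1) := by
    obtain ⟨m, rfl⟩ : ∃ m, r₁ = m + 1 := ⟨r₁ - 1, by omega⟩
    have : (m + 1) ^ 2 = m * (m + 1 + 1) + 1 := by ring
    rw [Nat.add_sub_cancel]
    omega
  have h3 : r₁.factorization 3 = 0 := by
    apply Nat.factorization_eq_zero_of_not_dvd
    intro h
    have := (Nat.prime_dvd_prime_iff_eq Nat.prime_three hr₁).1 h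
    omega
  have h4 : T.factorization 3 ≤ (r₁ ^ 2 - r₁).factorization 3 :=
    (Nat.factorization_le_iff_dvd (by
      rintro rfl
      rw [zero_dvd_iff, h1] at hT
      have := mul_eq_zero.1 hT
      omega) (by
      rw [h1]
      exact mul_ne_zero (by omega) (by omega))).2 hT 3
  rw [h1, Nat.factorization_mul (by omega) (by omega), Finsupp.add_apply, h3, zero_add] at h4
  rw [h2, Nat.factorization_mul (by omega) (by omega), Finsupp.add_apply]
  omega

theorem big (hH : HerTwo.{v}) (hK2 : K2.{v}) (hStar : StStar.{u, v}) (hKA : StKeyAff.{u, v}) (hKN : StKeyNonaff.{u, v})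
    (hK0 : StKeyEasy.{u, v}) (hZ : StZstar.{u, v}) (h1c : StTab1c.{v}) (h2 : StTab2.{v}) (hE4 : StE4.{u, v})
    {G : Type u} [Group G] [Finite G] {V : Type v} [Finite V] [MulAction G V] {P : Pol G V} (F : Facts P) (N : Num P)
    (hO : NoOdd G) (hA : CaseA P 2) {x y : V} (hxy : P.adj x y) (hAff : Aff (P.L x)) {r₀ k : ℕ} (hr₀ : r₀.Prime)
    (hk : 5 ≤ k) (hrk : r₀ + 1 = 2 ^ k) (hs : P.q (P.tp x) + 1 = r₀ ^ 2)
    (hy : Aff (P.L y) ∨ ∃ k, P.q (P.tp y) = 2 ^ k) : False := by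
  have h32 : 2 ^ 5 ≤ 2 ^ k := Nat.pow_le_pow_right (by norm_num) hk
  have h31 : 31 ≤ r₀ := by omega
  have hs960 : 960 ≤ P.q (P.tp x) := by
    have : 31 ^ 2 ≤ r₀ ^ 2 := Nat.pow_le_pow_left h31 2
    omega
  obtain ⟨z, hxz, hyz⟩ := exists_other (P := P) (x := x) (y := y)
  obtain ⟨w, hyw, hxw⟩ := exists_other (P := P) (x := y) (y := x)
  have hyx : P.adj y x := P.symm hxy
  have htp : P.tp y = !P.tp x := P.tp_adj hxy
  have h3s : 3 ∣ P.q (P.tp x) := three_dvd hr₀ (by omega) hrk hs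
  have hs0 : P.q (P.tp x) ≠ 0 := by omega
  have hs3 : 1 ≤ (P.q (P.tp x)).factorization 3 := (Nat.prime_three.dvd_iff_one_le_factorization hs0).1 h3s
  have hT3 : 3 ≤ P.T2 x y z := by
    have h1 := key_all hKA hKN hK0 hZ h2 hE4 F N hO hA hxy hxz hyz hy Nat.prime_three (by norm_num) (Or.inl (by norm_num))
    have h4 : 3 ∣ P.T2 x y z := (Nat.prime_three.dvd_iff_one_le_factorization T2_ne_zero).2 (hs3.trans h1)
    exact Nat.le_of_dvd (Nat.pos_of_ne_zero T2_ne_zero) h4
  have hOrb : Orb2 P x y := orb2_of hH F hxy hxz hyz hAff hr₀ hk hrk hs hT3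
  obtain ⟨y', hy'⟩ := F.exists_opp y
  have hm : 1 ≤ P.n / 2 - 1 := by have := P.hn; omega
  have hidx : ∀ {r : ℕ}, r.Prime → r ≠ 2 →
      (P.q (P.tp y)).factorization r + (P.q (P.tp x)).factorization r ≤ (P.idx y y').factorization r := by
    intro r hr hr2
    exact (Nat.le_mul_of_pos_left _ hm).trans (idx_ge hStar F hA hxy hOrb hy' hr hr2)
  have hT : ∀ r, (P.idx y y').factorization r ≤ (P.T2 y x w).factorization r :=
    factorization_idx_le F hy' hyx hyw hxw
  have hne : (⟨x, hyx⟩ : {w : V // P.adj y w}) ≠ ⟨w, hyw⟩ := fun h => hxw (congrArg Subtype.val h)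
  have hcard : Nat.card {w : V // P.adj y w} = P.q (P.tp y) + 1 := P.card_nb y
  have h3T : 1 ≤ (P.T2 y x w).factorization 3 := by
    have h5 := hidx Nat.prime_three (by norm_num)
    have h6 := hT 3
    omega
  have hNum := num_all N (b := P.tp x) rfl rfl
  rw [← htp] at hNum
  obtain ⟨Q, hQ⟩ := lq F hA hyx hyw hxw
  by_cases hay : Aff (P.L y)
  · rcases h1c (P.L y) _ _ _ _ _ hQ hay (fun r hr hr2 => by
      rw [← T2_eq]
      have h5 := hidx hr hr2
      have h6 := hT r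
      omega) with ⟨c, hc⟩ | ⟨-, r₁, k₁, hr₁, h7, hk₁, ht⟩
    · have hc1 : 1 ≤ c := by
        rcases Nat.eq_zero_or_pos c with h | h
        · rw [h, pow_zero] at hc
          have := P.two_le (P.tp y)
          omega
        · exact h
      rcases aff_two_pow (twoTr_L F y) hay hne hc1 (by rw [hcard, hc]) with h | h
      · rw [T2_eq hyx hyw, h] at h3T
        simp at h3T
      · rw [hc, h] at hNum
        obtain ⟨h4, h6, h8⟩ := hNum
        rcases P.hn with hn | hn | hn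
        · have := (h4 hn).1
          norm_num at this
          omega
        · have := (h6 hn).1
          norm_num at this
          omega
        · have := (h8 hn).1
          norm_num at this
          omega
    · have h5 := card_two_dvd (twoTr_L F y) hay hne hr₁ (by rw [hcard, ht])
      rw [← T2_eq] at h5
      have h6 := fact_three hr₁ h7 ht h5
      have h8 := hidx Nat.prime_three (by norm_num)
      have h9 := hT 3
      omega
  · obtain ⟨j, hj⟩ := hy.resolve_left hay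
    have hn4 : P.n = 4 := n_eq_four N (b := P.tp x) rfl (by rw [← htp, hj]) (by omega) hrk hs
    obtain ⟨h5, h6, h7⟩ := hNum.1 hn4
    have hj5 : 5 ≤ j := by
      by_contra hcon
      have h8 : 2 ^ j ≤ 2 ^ 4 := Nat.pow_le_pow_right (by norm_num) (by omega)
      rw [hj] at h5
      have h9 : (2 ^ j) ^ 2 ≤ (2 ^ 4) ^ 2 := Nat.pow_le_pow_left h8 2
      norm_num at h9
      omega
    have hi3 : 3 ∣ (P.L' y y').relIndex (P.L y) := by
      have h8 := hidx Nat.prime_three (by norm_num)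
      by_contra hcon
      have h9 : (P.idx y y').factorization 3 = 0 := Nat.factorization_eq_zero_of_not_dvd hcon
      omega
    rcases h2 (P.L y) (P.L' y y') _ _ _ _ _ hQ (twoTr_L' F hy') L'_le_L ⟨j, hj⟩ hay Nat.prime_three (by norm_num) hi3 with
      ⟨X, hX1, hX2, hX3, hX4⟩ | ⟨e1, -⟩
    · have hXbot : X ≠ ⊥ := by
        rintro rfl
        obtain ⟨τ, hτ, h8, -⟩ := hX3 _ _ hne
        rw [mem_bot] at hτ
        rw [hτ] at h8
        exact hne h8
      have h8 : X.relIndex (P.L y) ∣ 2 * j := relIndex_dvd hK2 (twoTr_L F y) hay (by omega) (by rw [hcard, hj])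
        (hX1.trans L'_le_L) hX2 hXbot hX4
      have h9 : P.idx y y' ∣ 2 * j := (Subgroup.relIndex_dvd_of_le_left (P.L y) hX1).trans h8
      have hj0 : 2 * j ≠ 0 := by omega
      -- `u ∣ 2 j`
      have hsu := s_eq (by omega) hrk hs
      have humod := u_mod (k := k) (by omega)
      set u := 2 ^ (k - 1) - 1 with hu
      have hu0 : u ≠ 0 := by omega
      have hudvd : u ∣ 2 * j := by
        rw [← Nat.factorization_le_iff_dvd hu0 hj0]
        intro r
        by_cases hr : r.Prime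
        · by_cases hr2 : r = 2
          · subst hr2
            rw [Nat.factorization_eq_zero_of_not_dvd (by omega)]
            exact Nat.zero_le _
          · have h10 : u.factorization r ≤ (P.q (P.tp x)).factorization r :=
              (Nat.factorization_le_iff_dvd hu0 hs0).2 (hsu ▸ Dvd.intro_left _ rfl) r
            have h11 := hidx hr hr2
            have h12 : (P.idx y y').factorization r ≤ (2 * j).factorization r :=
              (Nat.factorization_le_iff_dvd (fun h => by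
                rw [h, zero_dvd_iff] at h9
                exact hj0 h9) hj0).2 h9 r
            omega
        · rw [Nat.factorization_eq_zero_of_not_prime u hr]
          exact Nat.zero_le _
      have hcop : Nat.Coprime u 2 := by
        rw [Nat.coprime_comm, Nat.prime_two.coprime_iff_not_dvd]
        omega
      have huj : u ∣ j := hcop.dvd_of_dvd_mul_left hudvd
      have hule : u ≤ j := Nat.le_of_dvd (by omega) huj
      -- `j < 4 k`
      have hj4k : j < 4 * k := by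
        by_contra hcon
        push Not at hcon
        have h10 : 2 ^ (4 * k) ≤ 2 ^ j := Nat.pow_le_pow_right (by norm_num) hcon
        have h11 : P.q (P.tp x) < 2 ^ (2 * k) := by
          have h12 : r₀ ^ 2 ≤ (2 ^ k) ^ 2 := Nat.pow_le_pow_left (by omega) 2
          rw [mul_comm 2 k, pow_mul]
          omega
        have h12 : P.q (P.tp x) ^ 2 < (2 ^ (2 * k)) ^ 2 := Nat.pow_lt_pow_left h11 (by norm_num)
        have h13 : (2 ^ (2 * k)) ^ 2 = 2 ^ (4 * k) := by rw [← pow_mul]; congr 1; ring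
        rw [hj] at h6
        omega
      have hk5 : k = 5 := by
        by_contra hcon
        have := four_mul_lt (k := k) (by omega)
        omega
      subst hk5
      have hr31 : r₀ = 31 := by omega
      subst hr31
      have hs' : P.q (P.tp x) = 960 := by omega
      have hu15 : u = 15 := hu.trans (by norm_num)
      rw [hu15] at huj
      obtain ⟨c, hc⟩ := huj
      have hj15 : j = 15 := by omega
      subst hj15
      rw [hj, hs'] at h7
      norm_num at h7
    · rw [e1] at h5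
      norm_num at h5
      omega

end Cfsg.Agent.H437.Tits
end

-- part: H437/Tits/Glob
section
set_option linter.all false
open scoped Cfsg.Agent.FastGrp

/-!
# S3414 [E3]: the order of `G`
-/

set_option autoImplicit false

namespace Cfsg.Agent.H437.Tits

open Subgroup Cfsg Cfsg.Agent.H873.Tits Cfsg.Agent.OrdDiv

universe u v

/-- existence of a large simple normal subgroup (helper482) -/
def ExSimple : Prop := ∀ {G : Type u} [Group G] [Finite G] {V : Type v} [Finite V] [MulAction G V] (P : Pol G V), Facts P →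
  NoOdd G → (∀ b, 2 ∣ P.q b) → ∀ {p : ℕ}, p.Prime → p ∣ ch P.n (P.q true) (P.q false) → ¬ p ^ 2 ∣ Nat.card G →
  ∃ T : Subgroup G, T.Normal ∧ IsSimpleGroup ↥T ∧ ¬ IsMulCommutative ↥T ∧ ch P.n (P.q true) (P.q false) ∣ Nat.card T

section

variable {G : Type u} [Group G] [Finite G] {V : Type v} [Finite V] [MulAction G V] {P : Pol G V}

omit [Finite G] in
theorem T2_dvd_factorial (F : Facts P) {y x w : V} (hyx : P.adj y x) (hyw : P.adj y w) (hxw : x ≠ w) :
    P.T2 y x w ∣ (P.q (P.tp y) - 1).factorial := by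
  have hq := P.two_le (P.tp y)
  rw [T2_eq hyx hyw]
  have hcard : Nat.card {w : V // P.adj y w} = P.q (P.tp y) + 1 := P.card_nb y
  set Ω := {w : V // P.adj y w}
  have hne : (⟨x, hyx⟩ : Ω) ≠ ⟨w, hyw⟩ := fun h => hxw (congrArg Subtype.val h)
  generalize (⟨x, hyx⟩ : Ω) = a at hne ⊢
  generalize (⟨w, hyw⟩ : Ω) = b at hne ⊢
  have h2 : H813.TT.T2 ↥(P.L y) Ω := by
    intro x y x' y' hxy hxy'
    obtain ⟨g, hg, h1, h2⟩ := twoTr_L F _ x y x' y' hxy hxy'
    exact ⟨⟨g, hg⟩, h1, h2⟩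
  have h3 := H813.TT.card_two (by rw [hcard]; omega) h2 hne
  have h4 : Nat.card ↥(Stb (P.L y) a ⊓ Stb (P.L y) b) =
      Nat.card ↥(MulAction.stabilizer ↥(P.L y) a ⊓ MulAction.stabilizer ↥(P.L y) b) := by
    apply Nat.card_congr
    exact ⟨fun g => ⟨⟨g.1, g.2.1.1⟩, g.2.1.2, g.2.2.2⟩, fun g => ⟨g.1.1, ⟨g.1.2, g.2.1⟩, ⟨g.1.2, g.2.2⟩⟩,
      fun _ => rfl, fun _ => rfl⟩
  have h5 : Nat.card ↥(P.L y) ∣ (P.q (P.tp y) + 1).factorial := by
    rw [← hcard, ← Nat.card_perm]
    exact Subgroup.card_subgroup_dvd_card _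
  rw [h3, hcard, Nat.add_sub_cancel, ← h4] at h5
  obtain ⟨m, hm⟩ : ∃ m, P.q (P.tp y) = m + 1 := ⟨P.q (P.tp y) - 1, by omega⟩
  rw [hm, Nat.add_sub_cancel]
  rw [hm, Nat.factorial_succ (m + 1), Nat.factorial_succ m] at h5
  exact Nat.dvd_of_mul_dvd_mul_left (by omega) (Nat.dvd_of_mul_dvd_mul_left (by omega) h5)

omit [Finite G] [Finite V] in
theorem ch_symm {b : Bool} {s t : ℕ} (hs : P.q b = s) (ht : P.q (!b) = t) : ch P.n (P.q true) (P.q false) = ch P.n s t ∧
    P.q true * P.q false = s * t := by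
  cases b
  · rw [Bool.not_false] at ht
    rw [hs, ht]
    refine ⟨?_, mul_comm _ _⟩
    unfold ch
    rw [mul_comm t s, mul_comm (1 + t)]
  · rw [Bool.not_true] at ht
    rw [hs, ht]
    exact ⟨rfl, rfl⟩

/-- **the order of `G`** -/
theorem glob (hX : ExSimple.{u, v}) (hT : OrderTable.{u})
    (hS0 : ∀ (S : Type u) [Group S] [Finite S] [IsSimpleGroup S], IsKnownSimple' S) (F : Facts P) (hO : NoOdd G)
    {x y : V} (hxy : P.adj x y) {n s t A B p : ℕ} {l : List (ℕ × ℕ)} (hn : P.n = n) (hs : P.q (P.tp x) = s)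
    (ht : P.q (P.tp y) = t) (h2s : 2 ∣ s) (h2t : 2 ∣ t)
    (hTx : ∀ {a b : V}, P.adj x a → P.adj x b → a ≠ b → P.T2 x a b ∣ A)
    (hTy : ∀ {a b : V}, P.adj y a → P.adj y b → a ≠ b → P.T2 y a b ∣ B) (hp : p.Prime) (hpd : p ∣ ch n s t)
    (hp2 : ¬ p ^ 2 ∣ ch n s t * (s * t) ^ (n / 2) * (A * B))
    (hE : Emp l (ch n s t * (s * t) ^ (n / 2) * (A * B)) (ch n s t) = true) : False := by
  have htp : P.tp y = !P.tp x := P.tp_adj hxy
  obtain ⟨w, hyw, hxw⟩ := exists_other (P := P) (x := y) (y := x)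
  obtain ⟨γ, hγ, h1, h2, h3⟩ := F.extend3 hxy hyw hxw
  have FE := Cfsg.Agent.H736.Tits.factsE P F
  have hG := FE.card_G hγ
  have hH := FE.card_H hγ
  obtain ⟨e1, e2⟩ := ch_symm (P := P) (t := t) hs (by rw [← htp]; exact ht)
  have h4 := P.hn
  have hadj0 : P.adj x (γ 0) := by
    have := P.symm (hγ.1 0 (by omega))
    rwa [zero_add, h1] at this
  have hne0 : γ 0 ≠ y := by
    have := hγ.2 0 (by omega)
    rw [zero_add, h2] at this
    exact this.symm
  rw [h1, h2, h3] at hH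
  have hHd : Nat.card ↥(P.H γ) ∣ A * B := hH.trans (Nat.mul_dvd_mul (hTx hadj0 hxy hne0) (hTy (P.symm hxy) hyw hxw))
  have hGd : Nat.card G ∣ ch n s t * (s * t) ^ (n / 2) * (A * B) := by
    rw [hG, e1, e2, hn]
    exact Nat.mul_dvd_mul_left _ hHd
  obtain ⟨T, hTn, hTs, hTa, hTd⟩ := hX P F hO (by
    intro b
    rcases Bool.eq_or_eq_not b (P.tp x) with h | h
    · rw [h, hs]; exact h2s
    · rw [h, ← htp, ht]; exact h2t) hp (by rw [e1, hn]; exact hpd) (fun h => hp2 (h.trans hGd))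
  rw [e1, hn] at hTd
  exact no_simple hT (hS0 ↥T) hTa hE ((Subgroup.card_subgroup_dvd_card T).trans hGd) hTd

end

end Cfsg.Agent.H437.Tits
end

-- part: H437/Tits/Seven
section
set_option linter.all false
open scoped Cfsg.Agent.FastGrp

/-!
# S3414 [E3]: `r₀ = 7`, `s = 48` does not occur
-/

set_option autoImplicit false

namespace Cfsg.Agent.H437.Tits

open Subgroup Cfsg Cfsg.Agent.H873.Tits Cfsg.Agent.OrdDiv

universe u v

theorem not_sq {c m g : ℕ} (h1 : m ^ 2 < c) (h2 : c < (m + 1) ^ 2) (h : c = g ^ 2) : False := by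
  rcases Nat.lt_or_ge m g with h3 | h3
  · have := Nat.pow_le_pow_left (show m + 1 ≤ g from h3) 2
    omega
  · have := Nat.pow_le_pow_left h3 2
    omega

theorem j_cases : ∀ j < 12, 48 ≤ (2 ^ j) ^ 2 → (48 + 2 ^ j) ∣ 2 * 48 * 2 ^ j * (1 + 48) * (1 + 2 ^ j) →
    j = 3 ∨ j = 4 ∨ j = 6 := by
  decide +kernel

theorem k_le {k c : ℕ} (h : 2 ^ k ≤ c) {m : ℕ} (hm : c < 2 ^ (m + 1)) : k ≤ m := by
  by_contra hcon
  have := Nat.pow_le_pow_right (n := 2) (by norm_num) (show m + 1 ≤ k by omega)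
  omega

/-- the possible `r₁` -/
theorem r_cases {r₁ k₁ : ℕ} (hr₁ : r₁.Prime) (h7 : 7 ≤ r₁) (hk₁ : r₁ + 1 = 2 ^ k₁) (hk : k₁ ≤ 8) :
    (k₁ = 3 ∧ r₁ = 7) ∨ (k₁ = 5 ∧ r₁ = 31) ∨ (k₁ = 7 ∧ r₁ = 127) := by
  have h3 : 3 ≤ k₁ := by
    by_contra hcon
    have := Nat.pow_le_pow_right (n := 2) (by norm_num) (show k₁ ≤ 2 by omega)
    omega
  interval_cases k₁
  · left; exact ⟨rfl, by omega⟩
  · exfalso
    have : r₁ = 15 := by omega
    subst this
    norm_num at hr₁
  · right; left; exact ⟨rfl, by omega⟩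
  · exfalso
    have : r₁ = 63 := by omega
    subst this
    norm_num at hr₁
  · right; right; exact ⟨rfl, by omega⟩
  · exfalso
    have : r₁ = 255 := by omega
    subst this
    norm_num at hr₁

theorem seven (hX : ExSimple.{u, v}) (hT : OrderTable.{u})
    (hS0 : ∀ (S : Type u) [Group S] [Finite S] [IsSimpleGroup S], IsKnownSimple' S)
    (hKA : StKeyAff.{u, v}) (hKN : StKeyNonaff.{u, v})
    (hK0 : StKeyEasy.{u, v}) (hZ : StZstar.{u, v}) (h1c : StTab1c.{v}) (h2 : StTab2.{v}) (hE4 : StE4.{u, v})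
    {G : Type u} [Group G] [Finite G] {V : Type v} [Finite V] [MulAction G V] {P : Pol G V} (F : Facts P) (N : Num P)
    (hO : NoOdd G) (hA : CaseA P 2) {x y : V} (hxy : P.adj x y) (hAff : Aff (P.L x)) (hs : P.q (P.tp x) = 48)
    (hy : Aff (P.L y) ∨ ∃ k, P.q (P.tp y) = 2 ^ k) : False := by
  obtain ⟨w, hyw, hxw⟩ := exists_other (P := P) (x := y) (y := x)
  have hyx : P.adj y x := P.symm hxy
  have htp : P.tp y = !P.tp x := P.tp_adj hxy
  have hTx : ∀ {a b : V}, P.adj x a → P.adj x b → a ≠ b → P.T2 x a b ∣ 42 := by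
    intro a b ha hb hab
    have hne : (⟨a, ha⟩ : {w : V // P.adj x w}) ≠ ⟨b, hb⟩ := fun h => hab (congrArg Subtype.val h)
    have h1 := card_two_dvd (twoTr_L F x) hAff hne (r₀ := 7) (by norm_num) (by rw [P.card_nb x, hs]; norm_num)
    rw [← T2_eq] at h1
    exact h1
  have hcard : Nat.card {w : V // P.adj y w} = P.q (P.tp y) + 1 := P.card_nb y
  have hNum := num_all N (b := P.tp x) (s := 48) (t := P.q (P.tp y)) hs (by rw [htp])
  -- the types of `y`
  have hy' : (∃ j, P.q (P.tp y) = 2 ^ j) ∨ (Aff (P.L y) ∧ ∃ r₁ k₁ : ℕ, r₁.Prime ∧ 7 ≤ r₁ ∧ r₁ + 1 = 2 ^ k₁ ∧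
      P.q (P.tp y) + 1 = r₁ ^ 2) := by
    rcases hy with hay | h
    · obtain ⟨Q, hQ⟩ := lq F hA hyx hyw hxw
      rcases h1c (P.L y) _ _ _ _ _ hQ hay (fun r hr hr2 => by
        rw [← T2_eq]
        exact key_all hKA hKN hK0 hZ h2 hE4 F N hO hA hyx hyw hxw (Or.inl hAff) hr hr2 (Or.inl hr2)) with h | ⟨-, h⟩
      · exact Or.inl h
      · exact Or.inr ⟨hay, h⟩
    · exact Or.inl h
  rcases hy' with ⟨j, hj⟩ | ⟨hay, r₁, k₁, hr₁, h7, hk₁, ht⟩
  · have hn4 : P.n = 4 := n_eq_four N (b := P.tp x) (k := 3) (r₀ := 7) hs (by rw [← htp, hj]) (by norm_num) (by norm_num)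
      (by norm_num)
    obtain ⟨h3, h4, h5⟩ := hNum.1 hn4
    have hTy : ∀ {a b : V}, P.adj y a → P.adj y b → a ≠ b → P.T2 y a b ∣ (2 ^ j - 1).factorial := by
      intro a b ha hb hab
      rw [← hj]
      exact T2_dvd_factorial F ha hb hab
    rw [hj] at h3 h4 h5
    have hj12 : j < 12 := by
      by_contra hcon
      have := Nat.pow_le_pow_right (n := 2) (by norm_num) (show 12 ≤ j by omega)
      norm_num at this h4
      omega
    rcases j_cases j hj12 h3 h5 with rfl | rfl | rfl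
    · refine glob hX hT hS0 F hO hxy (n := 4) (s := 48) (t := 8) (A := 42) (B := 5040) (p := 11)
        (l := [(2, 19), (3, 7), (5, 2), (7, 5), (11, 1)]) hn4 hs hj (by norm_num) (by norm_num) hTx ?_
        (by norm_num) (by decide +kernel) (by decide +kernel) (by decide +kernel)
      exact hTy
    · refine glob hX hT hS0 F hO hxy (n := 4) (s := 48) (t := 16) (A := 42) (B := 1307674368000) (p := 769)
        (l := [(2, 28), (3, 9), (5, 3), (7, 5), (11, 1), (13, 1), (17, 1), (769, 1)]) hn4 hs hj (by norm_num)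
        (by norm_num) hTx ?_ (by norm_num) (by decide +kernel) (by decide +kernel) (by decide +kernel)
      intro a b ha hb hab
      exact (hTy ha hb hab).trans (by decide +kernel)
    · refine glob hX hT hS0 F hO hxy (n := 4) (s := 48) (t := 64) (A := 42)
        (B := 1982608315404440064116146708361898137544773690227268628106279599612729753600000000000000) (p := 439)
        (l := [(2, 78), (3, 33), (5, 15), (7, 14), (11, 5), (13, 5), (17, 3), (19, 3), (23, 2), (29, 2), (31, 2), (37, 1),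
          (41, 1), (43, 1), (47, 1), (53, 1), (59, 1), (61, 1), (439, 1)]) hn4 hs hj (by norm_num)
        (by norm_num) hTx ?_ (by norm_num) (by decide +kernel) (by decide +kernel) (by decide +kernel)
      intro a b ha hb hab
      exact (hTy ha hb hab).trans (by decide +kernel)
  · have hTy : ∀ {a b : V}, P.adj y a → P.adj y b → a ≠ b → P.T2 y a b ∣ r₁ ^ 2 - r₁ := by
      intro a b ha hb hab
      have hne : (⟨a, ha⟩ : {w : V // P.adj y w}) ≠ ⟨b, hb⟩ := fun h => hab (congrArg Subtype.val h)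
      have h1 := card_two_dvd (twoTr_L F y) hay hne hr₁ (by rw [P.card_nb y, ht])
      rw [← T2_eq] at h1
      exact h1
    have hr₁r : r₁ ^ 2 = r₁ * r₁ := pow_two r₁
    rcases P.hn with hn | hn | hn
    · obtain ⟨-, h4, -⟩ := hNum.1 hn
      have hr50 : r₁ < 49 := by
        by_contra hcon
        have := Nat.pow_le_pow_left (show 49 ≤ r₁ by omega) 2
        norm_num at h4
        omega
      have hk5 : k₁ ≤ 5 := k_le (c := 49) (by omega) (by norm_num)
      rcases r_cases hr₁ h7 hk₁ (by omega) with ⟨-, rfl⟩ | ⟨-, rfl⟩ | ⟨rfl, -⟩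
      · exact glob hX hT hS0 F hO hxy (n := 4) (s := 48) (t := 48) (A := 42) (B := 42) (p := 461)
          (l := [(2, 18), (3, 6), (5, 1), (7, 6), (461, 1)]) hn hs (by omega) (by norm_num) (by norm_num) hTx hTy
          (by norm_num) (by decide +kernel) (by decide +kernel) (by decide +kernel)
      · exact glob hX hT hS0 F hO hxy (n := 4) (s := 48) (t := 960) (A := 42) (B := 930) (p := 227)
          (l := [(2, 22), (3, 6), (5, 3), (7, 4), (29, 1), (31, 3), (227, 1)]) hn hs (by omega) (by norm_num)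
          (by norm_num) hTx hTy (by norm_num) (by decide +kernel) (by decide +kernel) (by decide +kernel)
      · omega
    · obtain ⟨-, h4, g, hg⟩ := hNum.2.1 hn
      have hr50 : r₁ < 333 := by
        by_contra hcon
        have := Nat.pow_le_pow_left (show 333 ≤ r₁ by omega) 2
        norm_num at h4
        omega
      have hk8 : k₁ ≤ 8 := k_le (c := 333) (by omega) (by norm_num)
      rcases r_cases hr₁ h7 hk₁ hk8 with ⟨-, rfl⟩ | ⟨-, rfl⟩ | ⟨-, rfl⟩
      · exact glob hX hT hS0 F hO hxy (n := 6) (s := 48) (t := 48) (A := 42) (B := 42) (p := 181)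
          (l := [(2, 26), (3, 8), (7, 6), (13, 1), (37, 1), (61, 1), (181, 1)]) hn hs (by omega) (by norm_num)
          (by norm_num) hTx hTy (by norm_num) (by decide +kernel) (by decide +kernel) (by decide +kernel)
      · have h960 : P.q (P.tp y) = 960 := by omega
        rw [h960] at hg
        exact not_sq (m := 214) (by norm_num) (by norm_num) hg
      · have h960 : P.q (P.tp y) = 16128 := by omega
        rw [h960] at hg
        exact not_sq (m := 879) (by norm_num) (by norm_num) hg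
    · obtain ⟨-, h4, g, hg⟩ := hNum.2.2 hn
      have hr50 : r₁ < 49 := by
        by_contra hcon
        have := Nat.pow_le_pow_left (show 49 ≤ r₁ by omega) 2
        norm_num at h4
        omega
      have hk5 : k₁ ≤ 5 := k_le (c := 49) (by omega) (by norm_num)
      rcases r_cases hr₁ h7 hk₁ (by omega) with ⟨-, rfl⟩ | ⟨-, rfl⟩ | ⟨rfl, -⟩
      · have h48 : P.q (P.tp y) = 48 := by omega
        rw [h48] at hg
        exact not_sq (m := 67) (by norm_num) (by norm_num) hg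
      · have h960 : P.q (P.tp y) = 960 := by omega
        rw [h960] at hg
        exact not_sq (m := 303) (by norm_num) (by norm_num) hg
      · omega

end Cfsg.Agent.H437.Tits
end

-- part: H437/Tits/E3
section
set_option linter.all false

/-!
# S3414 [E3]: `StE3` from its pieces
-/

set_option autoImplicit false

namespace Cfsg.Agent.H437.Tits

open Cfsg Cfsg.Agent.H873.Tits Cfsg.Agent.OrdDiv

universe u v

/-- E3 -/
theorem st_e3_of (hH : HerTwo.{v}) (hK2 : K2.{v}) (hX : ExSimple.{u, v}) (hT : OrderTable.{u})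
    (hS0 : ∀ (S : Type u) [Group S] [Finite S] [IsSimpleGroup S], IsKnownSimple' S) (hStar : StStar.{u, v})
    (hKA : StKeyAff.{u, v}) (hKN : StKeyNonaff.{u, v})
    (hK0 : StKeyEasy.{u, v}) (hZ : StZstar.{u, v}) (h1c : StTab1c.{v}) (h2 : StTab2.{v}) (hE4 : StE4.{u, v}) :
    StE3.{u, v} := by
  intro G _ _ V _ _ P F N hO hA x y hxy hAff r₀ k hr₀ h7 hrk hs hy
  rcases Nat.lt_or_ge k 5 with hk | hk
  · have h3 : 3 ≤ k := by
      by_contra hcon
      have := Nat.pow_le_pow_right (n := 2) (by norm_num) (show k ≤ 2 by omega)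
      omega
    have h48 : P.q (P.tp x) = 48 := by
      interval_cases k
      · have : r₀ = 7 := by omega
        subst this
        omega
      · exfalso
        have : r₀ = 15 := by omega
        subst this
        norm_num at hr₀
    exact seven hX hT hS0 hKA hKN hK0 hZ h1c h2 hE4 F N hO hA hxy hAff h48 hy
  · exact big hH hK2 hStar hKA hKN hK0 hZ h1c h2 hE4 F N hO hA hxy hAff hr₀ hk hrk hs hy

end Cfsg.Agent.H437.Tits
end

-- part: H361/Tits/Tab2_mg
section
prune_inst 0x1000011004a0000000000000100000002000000000200001000000000000810040000100000001020020a20000040028120000400000000000000000000001200002800000000008000000000080000000000000000000000000000000000000000000000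
set_option linter.all false
open scoped Cfsg.Agent.FastGrp

-- part: H361/Tits/T2/Gp
section
/-!
# Subgroups of index prime to `p` contain the normal `p`-subgroups of the point stabilizers (helper361)
-/

set_option autoImplicit false

namespace Cfsg.Agent.H361.Tits

open Subgroup MulAction Cfsg.Agent.H384.TwoTrans

universe u v

variable {G : Type u} {Ω : Type v} [Group G] [MulAction G Ω]

/-- `Q ≠ 1` is a `p`-group, normal in the stabilizer of `a` -/
structure PQ (a : Ω) (p : ℕ) (Q : Subgroup G) : Prop where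
  prime : p.Prime
  ne_bot : Q ≠ ⊥
  isP : IsPGroup p ↥Q
  fix : ∀ x ∈ Q, x • a = a
  norm : ∀ g : G, g • a = a → ∀ x ∈ Q, g * x * g⁻¹ ∈ Q

namespace PQ

variable {a : Ω} {p : ℕ} {Q : Subgroup G}

theorem le [Finite G] (h : PQ a p Q) {H : Subgroup G} (hH : ∀ x y : Ω, ∃ g ∈ H, g • x = y) (hi : ¬ p ∣ H.index) :
    Q ≤ H := by
  have := Fact.mk h.prime
  obtain ⟨c, hc⟩ := h.isP.nonempty_fixed_point_of_prime_not_dvd_card (G ⧸ H) hi
  obtain ⟨g, rfl⟩ := QuotientGroup.mk_surjective c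
  obtain ⟨k, hk, hka⟩ := hH a (g⁻¹ • a)
  have h1 : (g * k) • a = a := by rw [mul_smul, hka, smul_inv_smul]
  intro x hx
  have h2 : (g * k) * ((g * k)⁻¹ * x * (g * k)) * (g * k)⁻¹ = x := by group
  have h3 : (g * k)⁻¹ * x * (g * k) ∈ Q := by
    have h4 : (g * k)⁻¹ • a = a := by rw [inv_smul_eq_iff, h1]
    have h5 := h.norm _ h4 x hx
    rwa [inv_inv] at h5
  -- every element of `Q` is conjugate under `g k` into `H`
  have key : ∀ y ∈ Q, (g * k)⁻¹ * y * (g * k) ∈ H := by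
    intro y hy
    have h4 : ((y * g : G) : G ⧸ H) = (g : G ⧸ H) := hc ⟨y, hy⟩
    have h5 := QuotientGroup.eq.1 h4.symm
    have h6 : (g * k)⁻¹ * y * (g * k) = k⁻¹ * (g⁻¹ * (y * g)) * k := by group
    rw [h6]
    exact mul_mem (mul_mem (inv_mem hk) h5) hk
  have h4 : (g * k) * x * (g * k)⁻¹ ∈ Q := h.norm _ h1 x hx
  have h5 := key _ h4
  have h6 : (g * k)⁻¹ * ((g * k) * x * (g * k)⁻¹) * (g * k) = x := by group
  rwa [h6] at h5

theorem conj (h : PQ a p Q) (g : G) : PQ (g • a) p (Q.map (MulAut.conj g).toMonoidHom) where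
  prime := h.prime
  ne_bot := by
    intro hc
    exact h.ne_bot ((Subgroup.map_eq_bot_iff_of_injective _ (MulAut.conj g).injective).1 hc)
  isP := h.isP.map _
  fix := by
    rintro _ ⟨x, hx, rfl⟩
    change (g * x * g⁻¹) • g • a = g • a
    rw [mul_smul, mul_smul, inv_smul_smul, h.fix x hx]
  norm := by
    rintro k hk _ ⟨x, hx, rfl⟩
    refine ⟨(g⁻¹ * k * g) * x * (g⁻¹ * k * g)⁻¹, h.norm _ ?_ x hx, ?_⟩
    · rw [mul_smul, mul_smul, hk, inv_smul_smul]
    · change g * (g⁻¹ * k * g * x * (g⁻¹ * k * g)⁻¹) * g⁻¹ = k * (g * x * g⁻¹) * k⁻¹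
      group

/-- **the general principle** -/
theorem socle_le (h : PQ a p Q) {T : Subgroup G} (A : AS G Ω T) {H : Subgroup G}
    (hH : ∀ x y : Ω, ∃ g ∈ H, g • x = y) (hi : ¬ p ∣ H.index) : T ≤ H := by
  have := A.finG
  refine (A.le_of_normal (normalClosure (Q : Set G)) inferInstance ?_).trans ?_
  · intro hc
    apply h.ne_bot
    rw [eq_bot_iff, ← hc]
    exact subset_normalClosure
  · rw [normalClosure, closure_le]
    intro x hx
    rw [Group.mem_conjugatesOfSet_iff] at hx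
    obtain ⟨y, hy, hyx⟩ := hx
    obtain ⟨g, rfl⟩ := isConj_iff.1 hyx
    exact (h.conj g).le hH hi ⟨y, hy, rfl⟩

end PQ

/-- `(n - 1) ∣ |H|`, hence a power of `p` -/
theorem dvd_card_of_two [Finite G] [Finite Ω] {H : Subgroup G} (h2 : IsMultiplyPretransitive H Ω 2)
    (hc : 2 ≤ Nat.card Ω) : Nat.card Ω * (Nat.card Ω - 1) ∣ Nat.card H := by
  have h := Cfsg.Agent.H499.TT.desc_dvd_card (G := H) (Ω := Ω) 2 hc h2
  simpa only [Nat.descFactorial, mul_comm, _root_.tsub_zero, _root_.mul_one] using h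

/-- if `p ^ (k + 1)` does not divide `|G|` and `p ^ k` divides `|H|` then `p` does not divide the index of `H` -/
theorem not_dvd_index [Finite G] {H : Subgroup G} {p k : ℕ} (h1 : ¬ p ^ (k + 1) ∣ Nat.card G) (h2 : p ^ k ∣ Nat.card H) :
    ¬ p ∣ H.index := by
  intro h
  apply h1
  rw [← H.card_mul_index, pow_succ]
  exact Nat.mul_dvd_mul h2 h

end Cfsg.Agent.H361.Tits
end

-- part: H361/Tits/T2/Sch
section
/-!
# Simple subgroups of an almost simple group lie in the socle (helper361)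
-/

set_option autoImplicit false

namespace Cfsg.Agent.H361.Tits

open Subgroup MulAction Cfsg.Agent.H384.TwoTrans

universe u v

variable {G : Type u} {Ω : Type v} [Group G] [MulAction G Ω]

/-- the map to the outer automorphism group of the socle has kernel the socle -/
theorem exists_out (T : Subgroup G) [T.Normal] (hc : centralizer (T : Set G) = ⊥) :
    ∃ φ : G →* Cfsg.Out ↥T, φ.ker ≤ T := by
  refine ⟨(QuotientGroup.mk' (Cfsg.Inn ↥T)).comp (MulAut.conjNormal : G →* MulAut ↥T), ?_⟩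
  intro g hg
  rw [MonoidHom.mem_ker, MonoidHom.comp_apply] at hg
  have h1 : (MulAut.conjNormal g : MulAut ↥T) ∈ Cfsg.Inn ↥T := (QuotientGroup.eq_one_iff _).1 hg
  obtain ⟨t, ht⟩ := h1
  have h2 : (t : G)⁻¹ * g ∈ centralizer (T : Set G) := by
    rw [mem_centralizer_iff]
    intro x hx
    have h3 := congrArg Subtype.val (DFunLike.congr_fun ht (⟨x, hx⟩ : ↥T))
    rw [MulAut.conjNormal_apply] at h3
    have h4 : (t : G) * x * (t : G)⁻¹ = g * x * g⁻¹ := h3
    have h5 : g * x = (t : G) * x * (t : G)⁻¹ * g := by rw [h4]; group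
    calc x * ((t : G)⁻¹ * g) = (t : G)⁻¹ * ((t : G) * x * (t : G)⁻¹ * g) := by group
      _ = (t : G)⁻¹ * (g * x) := by rw [h5]
      _ = (t : G)⁻¹ * g * x := by group
  rw [hc, mem_bot] at h2
  have h3 : g = t := by
    have := congrArg (fun z => (t : G) * z) h2
    simpa using this
  rw [h3]
  exact t.2

/-- a nonabelian simple subgroup lies in the socle, if the outer automorphism group of the socle is solvable -/
theorem le_of_solvable {T S : Subgroup G} [T.Normal] (hc : centralizer (T : Set G) = ⊥)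
    (hs : Group.IsSolvable (Cfsg.Out ↥T)) [IsSimpleGroup ↥S] (hna : ¬ IsMulCommutative ↥S) : S ≤ T := by
  obtain ⟨φ, hφ⟩ := exists_out T hc
  let ψ : S →* Cfsg.Out ↥T := φ.comp S.subtype
  rcases Subgroup.Normal.eq_bot_or_eq_top (inferInstance : ψ.ker.Normal) with h | h
  · exfalso
    apply hna
    have h1 : Group.IsSolvable ↥S := Group.isSolvable_of_isSolvable_injective (f := ψ) ((MonoidHom.ker_eq_bot_iff ψ).1 h)
    exact ⟨⟨IsSimpleGroup.comm_iff_isSolvable.2 h1⟩⟩
  · intro x hx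
    apply hφ
    have h1 : (⟨x, hx⟩ : S) ∈ ψ.ker := by rw [h]; trivial
    exact h1

/-- **Schreier** -/
theorem AS_le_of_simple {T : Subgroup G} (A : AS G Ω T)
    (hSch : ∀ (X : Type u) [Group X] [Finite X] [IsSimpleGroup X], Group.IsSolvable (Cfsg.Out X))
    {S : Subgroup G} (hS : IsSimpleGroup ↥S) (hna : ¬ IsMulCommutative ↥S) : S ≤ T := by
  have := A.normal
  have := A.finT
  have := A.simple
  exact le_of_solvable A.cent (hSch ↥T) hna

end Cfsg.Agent.H361.Tits
end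

-- part: H361/Tits/T2/Types
section
/-!
# Rank one groups of Lie type in natural degree (helper361)
-/

set_option autoImplicit false
open Cfsg

namespace Cfsg.Agent.H361.Tits

open Subgroup

universe u v

/-- `T` is a rank one group of Lie type of characteristic `p`, whose natural degree is `p ^ k + 1` -/
inductive R1 (p k : ℕ) (T : Type u) [Group T] : Prop
  | psl (F : Type) [Field F] [Fintype F] (h4 : 4 ≤ Fintype.card F) (hF : Fintype.card F = p ^ k)
      (e : Nonempty (T ≃* Matrix.ProjectiveSpecialLinearGroup (Fin 2) F)) : R1 p k T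
  | psu (F : Type) [Field F] [Fintype F] (q : ℕ) (hq : 3 ≤ q) (hF : Fintype.card F = q ^ 2) (hk : q ^ 3 = p ^ k)
      (e : Nonempty (T ≃* Cfsg.PSU 3 F q)) : R1 p k T
  | sz (F : Type) [Field F] [Fintype F] (m : ℕ) (hp : p = 2) (hm : 1 ≤ m) (hF : Fintype.card F = 2 ^ (2 * m + 1))
      (hk : (2 ^ (2 * m + 1)) ^ 2 = 2 ^ k) (e : Nonempty (T ≃* ↥(Cfsg.Lie.Sz F (2 ^ (m + 1))))) : R1 p k T
  | ree (K : Type) [Field K] [Fintype K] (m : ℕ) (hp : p = 3) (hm : 1 ≤ m) (hK : Fintype.card K = 3 ^ (2 * m + 1))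
      (hk : (3 ^ (2 * m + 1)) ^ 3 = 3 ^ k) (e : Nonempty (T ≃* ↥(Cfsg.Lie.twistedG2 K (3 ^ m)))) : R1 p k T

theorem card_psl2_dvd {F : Type*} [Field F] [Fintype F] :
    Nat.card (Matrix.ProjectiveSpecialLinearGroup (Fin 2) F) ∣ Fintype.card F * (Fintype.card F ^ 2 - 1) := by
  rw [Cfsg.Agent.H499.TT.card_psl2 rfl]
  apply Nat.div_dvd_of_dvd
  have h1 : Nat.gcd 2 (Fintype.card F - 1) ∣ Fintype.card F - 1 := Nat.gcd_dvd_right _ _
  have h2 : Fintype.card F - 1 ∣ Fintype.card F ^ 2 - 1 := by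
    have := Nat.sub_dvd_pow_sub_pow (Fintype.card F) 1 2
    rwa [one_pow] at this
  exact (h1.trans h2).mul_left _

theorem card_psu3 {F : Type*} [Field F] [Fintype F] {q : ℕ} (hF : Fintype.card F = q ^ 2) (hq : 1 ≤ q) :
    Nat.gcd 3 (q + 1) * Nat.card (Cfsg.PSU 3 F q) = q ^ 3 * (q ^ 2 - 1) * (q ^ 3 + 1) := by
  have h := Cfsg.Agent.S0280.result hF 3 (by norm_num)
  rw [Finset.prod_range_succ, Finset.prod_range_succ, Finset.prod_range_one] at h
  have e0 : Even 0 := Even.zero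
  have e1 : ¬ Even 1 := by decide
  have e2 : Even 2 := by decide
  rw [if_pos e0, if_neg e1, if_pos e2] at h
  norm_num only [_root_.pow_one] at h
  have h1 : (q + 1) * (Nat.gcd 3 (q + 1) * Nat.card (Cfsg.PSU 3 F q)) =
      (q + 1) * (q ^ 3 * (q ^ 2 - 1) * (q ^ 3 + 1)) := by
    calc _ = Nat.gcd 3 (q + 1) * ((q + 1) * Nat.card (Cfsg.PSU 3 F q)) := by ring
      _ = _ := h
      _ = _ := by ring
  exact Nat.eq_of_mul_eq_mul_left (by omega) h1

theorem not_dvd_of_mul {p k N M : ℕ} (hp : p.Prime) (hN : N ∣ p ^ k * M) (hM : ¬ p ∣ M) : ¬ p ^ (k + 1) ∣ N := by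
  intro h
  have h1 := h.trans hN
  rw [pow_succ] at h1
  exact hM (Nat.dvd_of_mul_dvd_mul_left (pow_pos hp.pos k) h1)

theorem not_dvd_pow_sub_one {p q : ℕ} (hp : p.Prime) (hq : p ∣ q) (hq1 : 1 ≤ q) {j : ℕ} (hj : j ≠ 0) : ¬ p ∣ q ^ j - 1 := by
  intro h
  have h1 : 1 ≤ q ^ j := Nat.one_le_pow _ _ hq1
  have h2 : p ∣ q ^ j := hq.trans (dvd_pow_self _ hj)
  exact hp.one_lt.ne' (Nat.dvd_one.1 ((Nat.dvd_sub_iff_right h1 h2).1 h))

theorem not_dvd_pow_add_one {p q : ℕ} (hp : p.Prime) (hq : p ∣ q) {j : ℕ} (hj : j ≠ 0) : ¬ p ∣ q ^ j + 1 := by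
  intro h
  have h2 : p ∣ q ^ j := hq.trans (dvd_pow_self _ hj)
  exact hp.one_lt.ne' (Nat.dvd_one.1 ((Nat.dvd_add_right h2).1 h))

namespace R1

variable {p k : ℕ} {T : Type u} [Group T]

theorem not_dvd (hp : p.Prime) (hk1 : 1 ≤ k) (h : R1 p k T) : ¬ p ^ (k + 1) ∣ Nat.card T := by
  cases h with
  | psl F h4 hF e =>
    obtain ⟨e⟩ := e
    rw [Nat.card_congr e.toEquiv]
    refine not_dvd_of_mul hp (M := Fintype.card F ^ 2 - 1) ?_ ?_
    · rw [← hF]
      exact card_psl2_dvd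
    · exact not_dvd_pow_sub_one hp (hF ▸ dvd_pow_self p (by omega)) (by omega) (by norm_num)
  | psu F q hq hF hk e =>
    obtain ⟨e⟩ := e
    have hpq : p ∣ q := hp.dvd_of_dvd_pow (n := 3) (by rw [hk]; exact dvd_pow_self p (by omega))
    rw [Nat.card_congr e.toEquiv]
    refine not_dvd_of_mul hp (M := (q ^ 2 - 1) * (q ^ 3 + 1)) ?_ ?_
    · rw [← hk, ← mul_assoc, ← card_psu3 hF (by omega)]
      exact dvd_mul_left _ _
    · rw [hp.dvd_mul]
      rintro (h | h)
      · exact not_dvd_pow_sub_one hp hpq (by omega) (by norm_num) h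
      · exact not_dvd_pow_add_one hp hpq (by norm_num) h
  | sz F m hp' hm hF hk e =>
    obtain ⟨e⟩ := e
    subst hp'
    rw [Nat.card_congr e.toEquiv]
    have hq : 2 ∣ 2 ^ (2 * m + 1) := dvd_pow_self 2 (by omega)
    have hc := (Cfsg.Agent.S1163.result hm hF).1
    refine not_dvd_of_mul Nat.prime_two (M := (2 ^ (2 * m + 1) - 1) * ((2 ^ (2 * m + 1)) ^ 2 + 1)) ?_ ?_
    · rw [← hk, hc]
      exact dvd_of_eq (by ring)
    · rw [Nat.prime_two.dvd_mul]
      rintro (h | h)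
      · exact not_dvd_pow_sub_one Nat.prime_two dvd_rfl (by norm_num) (j := 2 * m + 1) (by omega) h
      · exact not_dvd_pow_add_one Nat.prime_two hq (by norm_num) h
  | ree K m hp' hm hK hk e =>
    obtain ⟨e⟩ := e
    subst hp'
    rw [Nat.card_congr e.toEquiv]
    have hq : 3 ∣ 3 ^ (2 * m + 1) := dvd_pow_self 3 (by omega)
    have hc := Cfsg.Agent.LieRecognition.ReeFinal.card hK
    refine not_dvd_of_mul Nat.prime_three (M := (3 ^ (2 * m + 1) - 1) * ((3 ^ (2 * m + 1)) ^ 3 + 1)) ?_ ?_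
    · rw [← hk, ← mul_assoc, ← hc]
    · rw [Nat.prime_three.dvd_mul]
      rintro (h | h)
      · exact not_dvd_pow_sub_one Nat.prime_three dvd_rfl (by norm_num) (j := 2 * m + 1) (by omega) h
      · exact not_dvd_pow_add_one Nat.prime_three hq (by norm_num) h

theorem isLie [hp : Fact p.Prime] (h : R1 p k T) : IsLieTypeChar p T := by
  cases h with
  | psl F h4 hF e =>
    have : CharP F p := charP_of_card_eq_prime_pow hF
    exact Or.inl ⟨F, inferInstance, inferInstance, inferInstance, 2, le_rfl, fun _ => h4, e⟩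
  | psu F q hq hF hk e =>
    have h1 : q ∣ p ^ k := by
      rw [← hk]; exact dvd_pow_self q (by norm_num)
    obtain ⟨j, -, hj⟩ := (Nat.dvd_prime_pow hp.out).1 h1
    have : CharP F p := charP_of_card_eq_prime_pow (f := j * 2) (by rw [hF, hj, ← pow_mul])
    exact Or.inr (Or.inr (Or.inl ⟨F, inferInstance, inferInstance, inferInstance, 3, q, hF, le_rfl, by omega, e⟩))
  | sz F m hp' hm hF hk e =>
    exact Or.inr (Or.inr (Or.inr (Or.inr (Or.inr (Or.inr (Or.inr (Or.inr (Or.inl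
      ⟨hp', F, inferInstance, inferInstance, m, hm, hF, e⟩))))))))
  | ree K m hp' hm hK hk e =>
    exact Or.inr (Or.inr (Or.inr (Or.inr (Or.inr (Or.inr (Or.inr (Or.inr (Or.inr (Or.inr
      ⟨hp', K, inferInstance, inferInstance, m, hm, hK, e⟩)))))))))

theorem dich [Fact p.Prime] [Finite T] (h : R1 p k T) : H248.Ovg.Dich p T :=
  H248.Ovg.dich_of_chev (Or.inl h.isLie)

end R1

end Cfsg.Agent.H361.Tits
end

-- part: H361/Tits/T2/Dvd
section
/-!
# The degree minus one divides the order of the socle (helper361)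
-/

set_option autoImplicit false
open Cfsg

namespace Cfsg.Agent.H361.Tits

open Subgroup Cfsg.Agent.H384.TwoTrans Cfsg.Agent.H499.TT

universe u v

/-- a power of a prime is not divisible by two primes -/
theorem no_pp {p k r s : ℕ} (hp : p.Prime) (hr : r.Prime) (hs : s.Prime) (hrs : r ≠ s) {N : ℕ} (hN : N = p ^ k)
    (h1 : r ∣ N) (h2 : s ∣ N) : False := by
  rw [hN] at h1 h2
  have e1 := (Nat.prime_dvd_prime_iff_eq hr hp).1 (hr.dvd_of_dvd_pow h1)
  have e2 := (Nat.prime_dvd_prime_iff_eq hs hp).1 (hs.dvd_of_dvd_pow h2)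
  exact hrs (e1.trans e2.symm)

/-- `n - 1` is not a prime power for `n = (q ^ d - 1) / (q - 1)`, `d ≥ 3` -/
theorem psl_no {p k r f d n : ℕ} (hp : p.Prime) (hr : r.Prime) (hf : 1 ≤ f) (hd : 3 ≤ d)
    (hn : n * (r ^ f - 1) = (r ^ f) ^ d - 1) (hk : n = p ^ k + 1) : False := by
  have hq2 : 2 ≤ r ^ f := le_trans hr.two_le (Nat.le_self_pow (by omega) r)
  obtain ⟨q, hq⟩ : ∃ q, q = r ^ f := ⟨_, rfl⟩
  rw [← hq] at hn hq2
  obtain ⟨e, rfl⟩ : ∃ e, d = e + 1 := ⟨d - 1, by omega⟩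
  have h1 : 1 ≤ q ^ e := Nat.one_le_pow _ _ (by omega)
  have h2 : p ^ k * (q - 1) = q * (q ^ e - 1) := by
    rw [hk, add_mul, one_mul, pow_succ] at hn
    obtain ⟨a, ha⟩ : ∃ a, q = a + 1 := ⟨q - 1, by omega⟩
    obtain ⟨b, hb⟩ : ∃ b, q ^ e = b + 1 := ⟨q ^ e - 1, by omega⟩
    rw [hb, ha] at hn ⊢
    rw [Nat.add_sub_cancel] at hn ⊢
    have e1 : (b + 1) * (a + 1) - 1 = (a + 1) * b + a := by
      have : (b + 1) * (a + 1) = (a + 1) * b + a + 1 := by ring
      omega
    rw [e1] at hn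
    rw [Nat.add_sub_cancel]
    omega
  -- `r = p`
  have hrq : r ∣ q := by rw [hq]; exact dvd_pow_self r (by omega)
  have hrp : r = p := by
    have h3 : r ∣ p ^ k * (q - 1) := by rw [h2]; exact hrq.mul_right _
    rcases hr.dvd_mul.1 h3 with h | h
    · exact (Nat.prime_dvd_prime_iff_eq hr hp).1 (hr.dvd_of_dvd_pow h)
    · exfalso
      have h4 := (Nat.dvd_sub_iff_right (by omega : 1 ≤ q) hrq).1 h
      exact hr.one_lt.ne' (Nat.dvd_one.1 h4)
  subst hrp
  have h3 : Nat.Coprime (q ^ e - 1) (r ^ k) := by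
    apply Nat.Coprime.pow_right
    rw [Nat.coprime_comm, hr.coprime_iff_not_dvd]
    exact not_dvd_pow_sub_one hr hrq (by omega) (by omega)
  have h4 : q ^ e - 1 ∣ q - 1 := by
    apply h3.dvd_of_dvd_mul_left
    rw [h2]
    exact dvd_mul_left _ _
  have h5 := Nat.le_of_dvd (by omega) h4
  have h6 : q ^ 2 ≤ q ^ e := Nat.pow_le_pow_right (by omega) (by omega)
  have h7 : 2 * q ≤ q ^ 2 := by nlinarith only [hq2]
  omega

theorem psl2_dvd {F : Type*} [Field F] [Fintype F] :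
    Fintype.card F ∣ Nat.card (Matrix.ProjectiveSpecialLinearGroup (Fin 2) F) := by
  have h := Cfsg.Agent.ClassicalGeometry.PSL2Basic.card_PSL2_gcd (F := F)
  have h1 : Nat.Coprime (Fintype.card F) (Nat.gcd 2 (Fintype.card F - 1)) := by
    have h2 : Nat.Coprime (Fintype.card F) (Fintype.card F - 1) := by
      have h3 : 0 < Fintype.card F := Fintype.card_pos
      obtain ⟨a, ha⟩ : ∃ a, Fintype.card F = a + 1 := ⟨Fintype.card F - 1, by omega⟩
      rw [ha, Nat.add_sub_cancel]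
      simp
    exact h2.coprime_dvd_right (Nat.gcd_dvd_right _ _)
  apply h1.dvd_of_dvd_mul_right
  rw [h]
  exact dvd_mul_right _ _

theorem psu3_dvd {F : Type*} [Field F] [Fintype F] {q : ℕ} (hF : Fintype.card F = q ^ 2) (hq : 1 ≤ q) :
    q ^ 3 ∣ Nat.card (Cfsg.PSU 3 F q) := by
  have h := card_psu3 hF hq
  have h1 : Nat.Coprime (q ^ 3) (Nat.gcd 3 (q + 1)) := by
    apply Nat.Coprime.pow_left
    have h2 : Nat.Coprime q (q + 1) := by simp
    exact h2.coprime_dvd_right (Nat.gcd_dvd_right _ _)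
  apply h1.dvd_of_dvd_mul_left
  rw [h, mul_assoc]
  exact dvd_mul_right _ _

theorem psp_dvd {F : Type*} [Field F] [Fintype F] {m n : ℕ} (hF : Fintype.card F = 2) (hm : 3 ≤ m)
    (hn : n = 2 ^ (m - 1) * (2 ^ m + 1) ∨ n = 2 ^ (m - 1) * (2 ^ m - 1)) : n - 1 ∣ Nat.card (Cfsg.PSp m F) := by
  have h1 := S0245.result (F := F) hF m
  have h2 := S0246.result (F := F) hF m (by omega)
  have h3 := Subgroup.card_eq_card_quotient_mul_card_subgroup
    (Subgroup.center (Matrix.symplecticGroup (Fin m) F))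
  rw [h1, h2] at h3
  norm_num only [_root_.mul_one] at h3
  have h4 : Nat.card (Cfsg.PSp m F) = 2 ^ (m ^ 2) * ∏ i ∈ Finset.range m, (2 ^ (2 * (i + 1)) - 1) := h3.symm
  rw [h4]
  apply Dvd.dvd.mul_left
  obtain ⟨e, rfl⟩ : ∃ e, m = e + 2 := ⟨m - 2, by omega⟩
  rw [Finset.prod_range_succ, Finset.prod_range_succ, mul_assoc]
  apply Dvd.dvd.mul_left
  obtain ⟨a, ha⟩ : ∃ a, 2 ^ (e + 1) = a + 1 := ⟨2 ^ (e + 1) - 1, by
    have : 1 ≤ 2 ^ (e + 1) := Nat.one_le_two_pow
    omega⟩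
  have hb : 2 ^ (e + 2) = 2 * a + 2 := by rw [pow_succ, ha]; ring
  have e1 : 2 ^ (2 * (e + 1)) - 1 = a * (a + 2) := by
    have h5 : 2 ^ (2 * (e + 1)) = (a + 1) ^ 2 := by rw [mul_comm, pow_mul, ha]
    have h6 : (a + 1) ^ 2 = a * (a + 2) + 1 := by ring
    omega
  have e2 : 2 ^ (2 * (e + 1 + 1)) - 1 = (2 * a + 1) * (2 * a + 3) := by
    have h5 : 2 ^ (2 * (e + 1 + 1)) = (2 * a + 2) ^ 2 := by rw [mul_comm, pow_mul, hb]
    have h6 : (2 * a + 2) ^ 2 = (2 * a + 1) * (2 * a + 3) + 1 := by ring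
    omega
  rw [e1, e2]
  have e3 : e + 2 - 1 = e + 1 := rfl
  rw [e3, ha, hb] at hn
  rcases hn with hn | hn
  · have h5 : n - 1 = (2 * a + 1) * (a + 2) := by
      have : (a + 1) * (2 * a + 2 + 1) = (2 * a + 1) * (a + 2) + 1 := by ring
      omega
    rw [h5]
    exact ⟨a * (2 * a + 3), by ring⟩
  · have h5 : n - 1 = (2 * a + 3) * a := by
      have h6 : 2 * a + 2 - 1 = 2 * a + 1 := by (clear * -; omega)
      have : (a + 1) * (2 * a + 1) = (2 * a + 3) * a + 1 := by ring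
      rw [h6] at hn
      omega
    rw [h5]
    exact ⟨(a + 2) * (2 * a + 1), by ring⟩

/-- `n - 1` divides the order of the socle, if it is a prime power, except for `PSL₂(8)` on 28 points -/
theorem dvd_or {T : Type u} [Group T] {n p k : ℕ} (h : Known2 T n) (hp : p.Prime) (hn : n = p ^ k + 1) :
    p ^ k ∣ Nat.card T ∨ (n = 28 ∧ Nat.card T = 504) := by
  have hN : n - 1 = p ^ k := by omega
  rw [← hN]
  cases h with
  | alt n h5 e =>
    obtain ⟨e⟩ := e
    left
    rw [Nat.card_congr e.toEquiv]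
    have h1 := card_alt h5
    obtain ⟨c, rfl⟩ : ∃ c, n = c + 2 := ⟨n - 2, by omega⟩
    have h2 : 2 ∣ c.factorial := Nat.dvd_factorial (by norm_num) (by omega)
    obtain ⟨b, hb⟩ := h2
    rw [Nat.factorial_succ, Nat.factorial_succ, hb] at h1
    refine ⟨(c + 2) * b, ?_⟩
    have e1 : c + 2 - 1 = c + 1 := rfl
    rw [e1]
    have h3 : 2 * Nat.card ↥(alternatingGroup (Fin (c + 2))) = 2 * ((c + 1) * ((c + 2) * b)) := by
      rw [h1]; ring
    omega
  | psl F d n hd hd2 e hn' =>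
    obtain ⟨e⟩ := e
    left
    obtain ⟨r, hchar⟩ := CharP.exists F
    obtain ⟨⟨f, hf0⟩, hr, hF⟩ := FiniteField.card F r
    simp only [PNat.mk_coe] at hF
    rcases Nat.lt_or_ge 2 d with h3 | h3
    · exact (psl_no hp hr hf0 h3 (by rw [← hF]; exact hn') hn).elim
    · obtain rfl : d = 2 := by omega
      have h4 := hd2 rfl
      have hnq : n = Fintype.card F + 1 := by
        have h5 : Fintype.card F ^ 2 - 1 = (Fintype.card F + 1) * (Fintype.card F - 1) := by
          have := Nat.sq_sub_sq (Fintype.card F) 1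
          rwa [one_pow] at this
        rw [h5] at hn'
        exact Nat.eq_of_mul_eq_mul_right (by omega) hn'
      rw [Nat.card_congr e.toEquiv, hnq, Nat.add_sub_cancel]
      exact psl2_dvd
  | sp F m n hF hm e hn' =>
    obtain ⟨e⟩ := e
    left
    rw [Nat.card_congr e.toEquiv]
    exact psp_dvd hF hm hn'
  | psu F q n hq hF e hn' =>
    obtain ⟨e⟩ := e
    left
    rw [Nat.card_congr e.toEquiv, hn', Nat.add_sub_cancel]
    exact psu3_dvd hF (by omega)
  | sz F m n hm hF e hn' =>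
    obtain ⟨e⟩ := e
    left
    rw [Nat.card_congr e.toEquiv, hn', Nat.add_sub_cancel, (Cfsg.Agent.S1163.result hm hF).1, hF, mul_assoc]
    exact dvd_mul_right _ _
  | ree K m n hm hK e hn' =>
    obtain ⟨e⟩ := e
    left
    rw [Nat.card_congr e.toEquiv, hn', Nat.add_sub_cancel, Cfsg.Agent.LieRecognition.ReeFinal.card hK, hK, mul_assoc]
    exact dvd_mul_right _ _
  | psl2_8 F hF e =>
    obtain ⟨e⟩ := e
    right
    refine ⟨rfl, ?_⟩
    rw [Nat.card_congr e.toEquiv, card_psl2 hF]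
    norm_num
  | psl2_9 F hF e =>
    obtain ⟨e⟩ := e
    left
    rw [Nat.card_congr e.toEquiv, card_psl2 hF]
    norm_num
  | psl2_11 F hF e =>
    exact (no_pp hp (r := 2) (s := 5) (by norm_num) (by norm_num) (by norm_num) hN (by norm_num) (by norm_num)).elim
  | psl4_2 F hF e =>
    obtain ⟨e⟩ := e
    left
    rw [Nat.card_congr e.toEquiv, card_psl4_2 hF]
    norm_num
  | a7 e =>
    exact (no_pp hp (r := 2) (s := 7) (by norm_num) (by norm_num) (by norm_num) hN (by norm_num) (by norm_num)).elim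
  | m11 h' =>
    exact (no_pp hp (r := 2) (s := 5) (by norm_num) (by norm_num) (by norm_num) hN (by norm_num) (by norm_num)).elim
  | m11' h' =>
    obtain ⟨e⟩ := h'
    left
    rw [Nat.card_congr e.toEquiv, Cfsg.Agent.H994.TwoGen.M11.card_M11]
    norm_num
  | m12 h' =>
    obtain ⟨e⟩ := h'
    left
    rw [Nat.card_congr e.toEquiv]
    have h1 : Nat.card Spor.M12 = 95040 := Cfsg.Agent.MTwelveType.SylowModel.card_M12
    rw [h1]
    norm_num
  | m22 h' =>
    exact (no_pp hp (r := 3) (s := 7) (by norm_num) (by norm_num) (by norm_num) hN (by norm_num) (by norm_num)).elim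
  | m23 h' =>
    exact (no_pp hp (r := 2) (s := 11) (by norm_num) (by norm_num) (by norm_num) hN (by norm_num) (by norm_num)).elim
  | m24 h' =>
    obtain ⟨e⟩ := h'
    left
    rw [Nat.card_congr e.toEquiv]
    have h1 : Nat.card M24 = 244823040 := Cfsg.Agent.S0364.result
    rw [h1]
    norm_num
  | hs h' =>
    exact (no_pp hp (r := 5) (s := 7) (by norm_num) (by norm_num) (by norm_num) hN (by norm_num) (by norm_num)).elim
  | co3 h' =>
    exact (no_pp hp (r := 5) (s := 11) (by norm_num) (by norm_num) (by norm_num) hN (by norm_num) (by norm_num)).elim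

end Cfsg.Agent.H361.Tits
end

-- part: H361/Tits/T2/Cls
section
/-!
# The socle of a 2-transitive group of degree `p ^ k + 1` with a normal `p`-subgroup of the point stabilizer (helper361)
-/

set_option autoImplicit false
open Cfsg

namespace Cfsg.Agent.H361.Tits

open Subgroup MulAction Cfsg.Agent.H384.TwoTrans Cfsg.Agent.H384 Cfsg.Agent.H499.TT

universe u v w

variable {G : Type u} {Ω : Type v} [Group G] [MulAction G Ω] {T : Subgroup G} {a : Ω} {p : ℕ} {Z : Subgroup G}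

/-- `A_n`, `n ≥ 7`, has no such subgroup -/
theorem SR.alt_no (A : AS G Ω T) (h : SR a p Z) (hT : 2 * Nat.card T = (Nat.card Ω).factorial)
    (h7 : 7 ≤ Nat.card Ω) : False := by
  classical
  have := A.finG
  have := A.finΩ
  have := A.faithful
  have := Fintype.ofFinite Ω
  have halt := alt_le_range A hT
  obtain ⟨z, hz, hz1⟩ := h.exists_ne
  have hza : z • a = a := h.fix z hz
  have havoid : ∀ s : Finset Ω, s.card ≤ 6 → ∃ w, w ∉ s := by
    intro s hs
    by_contra hcon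
    push Not at hcon
    have h1 : s = Finset.univ := Finset.eq_univ_iff_forall.2 hcon
    rw [h1, Finset.card_univ, ← Nat.card_eq_fintype_card] at hs
    omega
  obtain ⟨x, hx⟩ := havoid {a} (by simp)
  have hxa : x ≠ a := by simpa using hx
  have hzx : z • x ≠ x := fun hc => hxa (h.free z hz hz1 x hc)
  have hzxa : z • x ≠ a := by
    intro hc
    apply hxa
    have h1 : z • x = z • a := by rw [hc, hza]
    exact smul_left_cancel z h1
  obtain ⟨w, hw⟩ := havoid {a, x, z • x, z • z • x} (Finset.card_le_four.trans (by norm_num))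
  simp only [Finset.mem_insert, Finset.mem_singleton, not_or] at hw
  obtain ⟨hwa, hwx, hwy, hwz⟩ := hw
  -- the 3-cycle `x ↦ z x ↦ w ↦ x`
  let t : Equiv.Perm Ω := Equiv.swap x (z • x) * Equiv.swap (z • x) w
  have htalt : t ∈ alternatingGroup Ω := by
    rw [Equiv.Perm.mem_alternatingGroup, Equiv.Perm.sign_mul, Equiv.Perm.sign_swap (Ne.symm hzx),
      Equiv.Perm.sign_swap (Ne.symm hwy)]
    norm_num
  obtain ⟨g, hg⟩ := halt htalt
  have hgs : ∀ u, g • u = t u := fun u => DFunLike.congr_fun hg u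
  have htx : g • x = z • x := by
    rw [hgs]
    change Equiv.swap x (z • x) (Equiv.swap (z • x) w x) = _
    rw [Equiv.swap_apply_of_ne_of_ne (Ne.symm hzx) (Ne.symm hwx), Equiv.swap_apply_left]
  have htzx : g • z • x = w := by
    rw [hgs]
    change Equiv.swap x (z • x) (Equiv.swap (z • x) w (z • x)) = _
    rw [Equiv.swap_apply_left, Equiv.swap_apply_of_ne_of_ne hwx hwy]
  have htu : ∀ u, u ≠ x → u ≠ z • x → u ≠ w → g • u = u := by
    intro u h1 h2 h3
    rw [hgs]
    change Equiv.swap x (z • x) (Equiv.swap (z • x) w u) = _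
    rw [Equiv.swap_apply_of_ne_of_ne h2 h3, Equiv.swap_apply_of_ne_of_ne h1 h2]
  have hga : g • a = a := htu a (Ne.symm hxa) (Ne.symm hzxa) (Ne.symm hwa)
  have hmem : z * (g * z⁻¹ * g⁻¹) ∈ Z := mul_mem hz (h.norm g hga _ (inv_mem hz))
  obtain ⟨b, hb⟩ := havoid {a, x, z • x, w, z • z • x, z • w} (Finset.card_le_six)
  simp only [Finset.mem_insert, Finset.mem_singleton, not_or] at hb
  obtain ⟨hba, hbx, hby, hbw, hb1, hb2⟩ := hb
  have hgb : g • b = b := htu b hbx hby hbw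
  have hzb : g • z⁻¹ • b = z⁻¹ • b := by
    apply htu
    · intro hc
      rw [inv_smul_eq_iff] at hc
      exact hby hc
    · intro hc
      rw [inv_smul_eq_iff] at hc
      exact hb1 hc
    · intro hc
      rw [inv_smul_eq_iff] at hc
      exact hb2 hc
  have hone : z * (g * z⁻¹ * g⁻¹) = 1 := by
    by_contra hne
    apply hba
    apply h.free _ hmem hne
    have h1 : g⁻¹ • b = b := by rw [inv_smul_eq_iff, hgb]
    rw [mul_smul, mul_smul, mul_smul, h1, hzb, smul_inv_smul]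
  have hcomm : z * g = g * z := by
    have h1 : z * g = z * (g * z⁻¹ * g⁻¹) * (g * z) := by group
    rw [h1, hone, one_mul]
  apply hwz
  have h1 : z • g • x = g • z • x := by rw [← mul_smul, ← mul_smul, hcomm]
  rw [htx, htzx] at h1
  exact h1.symm

theorem no_sq {N k : ℕ} (hN : N.Prime) (h : N = p ^ k) (hk : 2 ≤ k) (hp : p.Prime) : False := by
  rw [h] at hN
  exact Nat.Prime.not_prime_pow hk hN

/-- **the types**, `k ≥ 2`, degree not 5 -/
theorem SR.types (A : AS G Ω T) (h : SR a p Z) (hK : Known2 ↥T (Nat.card Ω)) {k : ℕ} (hc : Nat.card Ω = p ^ k + 1)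
    (hk : 2 ≤ k) (hn5 : Nat.card Ω ≠ 5) :
    R1 p k ↥T ∨ (p = 3 ∧ k = 3 ∧ Nat.card ↥T = 504 ∧ Nat.card Ω = 28) := by
  have hfin := A.finG
  have hfinΩ := A.finΩ
  have hff := A.faithful
  have hp := h.prime
  have hN : Nat.card Ω - 1 = p ^ k := by omega
  have h4 : 4 ≤ p ^ k := by
    calc 4 = 2 ^ 2 := by norm_num
      _ ≤ p ^ 2 := Nat.pow_le_pow_left hp.two_le 2
      _ ≤ p ^ k := Nat.pow_le_pow_right hp.pos hk
  have h7 : 7 ≤ Nat.card Ω := by
    by_contra hcon
    have h6 : Nat.card Ω = 6 := by omega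
    exact no_sq (N := 5) (by norm_num) (by omega : 5 = p ^ k) hk hp
  generalize hn : Nat.card Ω = n at hK
  rw [hn] at hN h7 hc
  rw [← hn]
  cases hK with
  | alt n h5 e =>
    obtain ⟨e⟩ := e
    exact (h.alt_no A (by rw [hn, Nat.card_congr e.toEquiv, card_alt h5]) (by omega)).elim
  | psl F d n hd hd2 e hn' =>
    obtain ⟨r, hchar⟩ := CharP.exists F
    obtain ⟨⟨f, hf0⟩, hr, hF⟩ := FiniteField.card F r
    simp only [PNat.mk_coe] at hF
    rcases Nat.lt_or_ge 2 d with h3 | h3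
    · exact (psl_no hp hr hf0 h3 (by rw [← hF]; exact hn') hc).elim
    · left
      obtain rfl : d = 2 := by omega
      have h4' := hd2 rfl
      have hnq : n = Fintype.card F + 1 := by
        have h5 : Fintype.card F ^ 2 - 1 = (Fintype.card F + 1) * (Fintype.card F - 1) := by
          have := Nat.sq_sub_sq (Fintype.card F) 1
          rwa [one_pow] at this
        rw [h5] at hn'
        exact Nat.eq_of_mul_eq_mul_right (by omega) hn'
      exact R1.psl F h4' (by omega) e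
  | sp F m n hF hm e hn' =>
    obtain ⟨e⟩ := e
    exact (h.sp_row A hF hm e (by rw [hn]; exact hn')).elim
  | psu F q n hq hF e hn' => exact Or.inl (R1.psu F q hq hF (by omega) e)
  | sz F m n hm hF e hn' =>
    left
    have h5 : p = 2 := by
      have h6 : p ∣ (2 ^ (2 * m + 1)) ^ 2 := by
        rw [← hF]
        have : Fintype.card F ^ 2 = p ^ k := by omega
        rw [this]
        exact dvd_pow_self p (by omega)
      exact (Nat.prime_dvd_prime_iff_eq hp Nat.prime_two).1 (hp.dvd_of_dvd_pow (hp.dvd_of_dvd_pow h6))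
    subst h5
    exact R1.sz F m rfl hm hF (by rw [← hF]; omega) e
  | ree K m n hm hK e hn' =>
    left
    have h5 : p = 3 := by
      have h6 : p ∣ (3 ^ (2 * m + 1)) ^ 3 := by
        rw [← hK]
        have : Fintype.card K ^ 3 = p ^ k := by omega
        rw [this]
        exact dvd_pow_self p (by omega)
      exact (Nat.prime_dvd_prime_iff_eq hp Nat.prime_three).1 (hp.dvd_of_dvd_pow (hp.dvd_of_dvd_pow h6))
    subst h5
    exact R1.ree K m rfl hm hK (by rw [← hK]; omega) e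
  | psl2_8 F hF e =>
    obtain ⟨e⟩ := e
    right
    have h5 : p ^ k = 3 ^ 3 := by omega
    have h6 : p = 3 := by
      have h7 : p ∣ 3 ^ 3 := by rw [← h5]; exact dvd_pow_self p (by omega)
      exact (Nat.prime_dvd_prime_iff_eq hp Nat.prime_three).1 (hp.dvd_of_dvd_pow h7)
    subst h6
    refine ⟨rfl, Nat.pow_right_injective (le_refl 2 |>.trans (by norm_num)) h5, ?_, hn⟩
    rw [Nat.card_congr e.toEquiv, card_psl2 hF]
    norm_num
  | psl2_9 F hF e => exact (no_sq (N := 5) (by norm_num) hN hk hp).elim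
  | psl2_11 F hF e =>
    exact (no_pp hp (r := 2) (s := 5) (by norm_num) (by norm_num) (by norm_num) hN (by norm_num) (by norm_num)).elim
  | psl4_2 F hF e => exact (no_sq (N := 7) (by norm_num) hN hk hp).elim
  | a7 e =>
    exact (no_pp hp (r := 2) (s := 7) (by norm_num) (by norm_num) (by norm_num) hN (by norm_num) (by norm_num)).elim
  | m11 h' =>
    exact (no_pp hp (r := 2) (s := 5) (by norm_num) (by norm_num) (by norm_num) hN (by norm_num) (by norm_num)).elim
  | m11' h' => exact (no_sq (N := 11) (by norm_num) hN hk hp).elim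
  | m12 h' => exact (no_sq (N := 11) (by norm_num) hN hk hp).elim
  | m22 h' =>
    exact (no_pp hp (r := 3) (s := 7) (by norm_num) (by norm_num) (by norm_num) hN (by norm_num) (by norm_num)).elim
  | m23 h' =>
    exact (no_pp hp (r := 2) (s := 11) (by norm_num) (by norm_num) (by norm_num) hN (by norm_num) (by norm_num)).elim
  | m24 h' => exact (no_sq (N := 23) (by norm_num) hN hk hp).elim
  | hs h' =>
    exact (no_pp hp (r := 5) (s := 7) (by norm_num) (by norm_num) (by norm_num) hN (by norm_num) (by norm_num)).elim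
  | co3 h' =>
    exact (no_pp hp (r := 5) (s := 11) (by norm_num) (by norm_num) (by norm_num) hN (by norm_num) (by norm_num)).elim

end Cfsg.Agent.H361.Tits
end

-- part: H361/Tits/T2/Small
section
/-!
# 2-transitive subgroups: the small cases (helper361)
-/

set_option autoImplicit false
open Cfsg

namespace Cfsg.Agent.H361.Tits

open Subgroup MulAction Cfsg.Agent.H384.TwoTrans Cfsg.Agent.H384 Cfsg.Agent.H499.TT

universe u v w

variable {G : Type u} {Ω : Type v} [Group G] [MulAction G Ω] {T : Subgroup G} {a : Ω} {p : ℕ}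

/-- a subgroup of index at most four contains the socle -/
theorem le_of_index_le_four (A : AS G Ω T) {H : Subgroup G} (h4 : H.index ≤ 4) : T ≤ H := by
  have := A.finG
  have := A.finT
  have hs := A.simple
  let f := MulAction.toPermHom T (G ⧸ H)
  rcases Subgroup.Normal.eq_bot_or_eq_top (inferInstance : f.ker.Normal) with h | h
  · exfalso
    have h1 : Nat.card T ∣ Nat.card (Equiv.Perm (G ⧸ H)) :=
      Subgroup.card_dvd_of_injective f ((MonoidHom.ker_eq_bot_iff f).1 h)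
    rw [Nat.card_perm] at h1
    have h2 : (Nat.card (G ⧸ H)).factorial ∣ 24 := by
      have : (Nat.card (G ⧸ H)).factorial ∣ Nat.factorial 4 := Nat.factorial_dvd_factorial h4
      exact this
    have hsol := Cfsg.Agent.LieClassical.Order72.isSolvable_of_card_dvd (h1.trans (h2.trans (by norm_num)))
    exact A.nonab ⟨⟨IsSimpleGroup.comm_iff_isSolvable.2 hsol⟩⟩
  · intro t ht
    have h1 : (⟨t, ht⟩ : T) ∈ f.ker := by rw [h]; trivial
    have h2 : f ⟨t, ht⟩ ((1 : G) : G ⧸ H) = ((1 : G) : G ⧸ H) := by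
      rw [MonoidHom.mem_ker.1 h1]; rfl
    have h3 : ((t * 1 : G) : G ⧸ H) = ((1 : G) : G ⧸ H) := h2
    have h4 := QuotientGroup.eq.1 h3.symm
    simpa using h4

theorem card_dvd_factorial [Finite G] [Finite Ω] [FaithfulSMul G Ω] : Nat.card G ∣ (Nat.card Ω).factorial := by
  rw [← Nat.card_perm]
  exact Subgroup.card_dvd_of_injective (MulAction.toPermHom G Ω) MulAction.toPerm_injective

/-- `k = 1` -/
theorem not_sq_dvd [Finite G] [Finite Ω] [FaithfulSMul G Ω] (hp : p.Prime) (hc : Nat.card Ω = p + 1) :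
    ¬ p ^ (1 + 1) ∣ Nat.card G := by
  intro h
  have h1 := h.trans (card_dvd_factorial (G := G) (Ω := Ω))
  rw [hc, Nat.factorial_succ] at h1
  obtain ⟨b, hb⟩ : ∃ b, p = b + 1 := ⟨p - 1, by have := hp.pos; omega⟩
  have h2 : p.factorial = p * b.factorial := by
    conv_lhs => rw [hb, Nat.factorial_succ, ← hb]
  rw [h2, pow_succ, pow_one] at h1
  have h3 : (p + 1) * (p * b.factorial) = p * ((p + 1) * b.factorial) := by ring
  rw [h3] at h1
  have h4 := Nat.dvd_of_mul_dvd_mul_left hp.pos h1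
  rcases hp.dvd_mul.1 h4 with h5 | h5
  · have h6 := (Nat.dvd_add_right (dvd_refl p)).1 h5
    exact hp.one_lt.ne' (Nat.dvd_one.1 h6)
  · have h6 := (hp.dvd_factorial).1 h5
    omega

/-- degree five -/
theorem five (A : AS G Ω T) {H : Subgroup G} (hn : Nat.card Ω = 5) (hd : 20 ∣ Nat.card H) :
    T ≤ H ∨ (Nat.card G = 120 ∧ Nat.card H = 20) := by
  have := A.finG
  have := A.finΩ
  have := A.faithful
  have h1 := card_dvd_factorial (G := G) (Ω := Ω)
  have h2 : (5 : ℕ).factorial = 120 := rfl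
  rw [hn, h2] at h1
  have h3 := H.card_mul_index
  obtain ⟨c, hc⟩ := hd
  have h4 : H.index ∣ 6 := by
    have h5 : 20 * (c * H.index) ∣ 20 * 6 := by
      rw [← mul_assoc, ← hc, h3]
      exact h1
    exact (dvd_mul_left _ _).trans (Nat.dvd_of_mul_dvd_mul_left (by norm_num) h5)
  rcases Nat.lt_or_ge 4 H.index with h5 | h5
  · right
    have h6 : H.index = 6 := by
      have := Nat.le_of_dvd (by norm_num) h4
      interval_cases h : H.index
      · omega
      · rfl
    rw [h6] at h3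
    have h7 : Nat.card G ≤ 120 := Nat.le_of_dvd (by norm_num) h1
    have h8 : 0 < Nat.card H := Nat.card_pos
    omega
  · exact Or.inl (le_of_index_le_four A h5)

theorem pslTwo_sq {F : Type*} [Field F] [CharP F 2] {x : Matrix.ProjectiveSpecialLinearGroup (Fin 2) F} (hx : x ^ 4 = 1) :
    x ^ 2 = 1 := by
  obtain ⟨g, rfl⟩ := QuotientGroup.mk_surjective x
  have h1 : g ^ 4 ∈ Subgroup.center (Matrix.SpecialLinearGroup (Fin 2) F) := by
    rw [← QuotientGroup.eq_one_iff]
    exact hx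
  rw [Matrix.SpecialLinearGroup.mem_center_iff] at h1
  obtain ⟨r, hr, hr4⟩ := h1
  have hr1 : r = 1 := by
    have h3 : r ^ 2 = 1 := by simpa only [_root_.sq_eq_one_iff, _root_.Fintype.card_fin] using hr
    have h2 : (2 : F) = 0 := CharTwo.two_eq_zero
    have h4 : (r - 1) ^ 2 = 0 := by
      calc (r - 1) ^ 2 = r ^ 2 - 1 - 2 * (r - 1) := by ring
        _ = 0 := by rw [h3, h2]; ring
    exact sub_eq_zero.1 (pow_eq_zero_iff (by norm_num : (2 : ℕ) ≠ 0) |>.1 h4)
  have h5 : g ^ 4 = 1 := by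
    apply Subtype.ext
    rw [Matrix.SpecialLinearGroup.coe_one, ← hr4, hr1]
    simp
  have h6 := Cfsg.Agent.TIAbelian.IsolatedPSL.sq_eq_one_of_pow_four g h5
  have h7 : ((g ^ 2 : Matrix.SpecialLinearGroup (Fin 2) F) : Matrix.ProjectiveSpecialLinearGroup (Fin 2) F) = 1 := by
    rw [h6]; rfl
  exact h7

theorem pslTwo_pow {F : Type*} [Field F] [CharP F 2] (j : ℕ) {x : Matrix.ProjectiveSpecialLinearGroup (Fin 2) F}
    (hx : x ^ 2 ^ j = 1) : x ^ 2 = 1 := by
  induction j generalizing x with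
  | zero => rw [pow_zero, pow_one] at hx; rw [hx, one_pow]
  | succ j ih =>
    rcases j with _ | j
    · simpa only [_root_.zero_add, _root_.pow_one] using hx
    · apply ih
      have h1 : (x ^ 2 ^ j) ^ 4 = 1 := by
        rw [← pow_mul, ← hx]
        congr 1
        rw [pow_succ, pow_succ]; ring
      have h2 := pslTwo_sq h1
      rw [← pow_mul, ← pow_succ] at h2
      exact h2

end Cfsg.Agent.H361.Tits
end

-- part: H361/Tits/T2/Core
section
/-!
# 2-transitive subgroups of rank one groups contain the socle (helper361)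
-/

set_option autoImplicit false
open Cfsg

namespace Cfsg.Agent.H361.Tits

open Subgroup MulAction Cfsg.Agent.H384.TwoTrans Cfsg.Agent.H384 Cfsg.Agent.H499.TT

universe u v w

variable {G : Type u} {Ω : Type v} [Group G] [MulAction G Ω] {T : Subgroup G} {a : Ω} {p : ℕ}

/-- a simple nonabelian subgroup of index prime to `p` of a group with the dichotomy is the whole group -/
theorem eq_of_dich [Finite G] [hp : Fact p.Prime] {T S : Subgroup G} (hD : H248.Ovg.Dich p T) (hST : S ≤ T)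
    (hs : IsSimpleGroup ↥S) (hna : ¬ IsMulCommutative ↥S) (hi : ¬ p ∣ S.relIndex T) : T ≤ S := by
  have e : S.subgroupOf T ≃* S := Subgroup.subgroupOfEquivOfLe hST
  have h1 : Cfsg.pCore p ↥(S.subgroupOf T) = ⊥ := by
    have hnt : Nontrivial ↥(S.subgroupOf T) := e.toEquiv.nontrivial
    have hs' : IsSimpleGroup ↥(S.subgroupOf T) := IsSimpleGroup.isSimpleGroup_of_surjective e.symm.toMonoidHom e.symm.surjective
    rcases Subgroup.Normal.eq_bot_or_eq_top (Lib.Cores.pCore_normal (G := ↥(S.subgroupOf T)) p) with h | h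
    · exact h
    · exfalso
      have h2 : IsPGroup p (⊤ : Subgroup ↥(S.subgroupOf T)) := by
        rw [← h]; exact Lib.Cores.pCore_isPGroup p
      have h3 : IsPGroup p ↥(S.subgroupOf T) := h2.of_equiv Subgroup.topEquiv
      have h4 : IsPGroup p ↥S := h3.of_equiv e
      have := h4.isNilpotent
      exact hna ⟨⟨IsSimpleGroup.comm_iff_isSolvable.2 inferInstance⟩⟩
  have h2 := hD.eq_top (S.subgroupOf T) h1 hi
  rwa [subgroupOf_eq_top] at h2

/-- a regular normal subgroup -/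
theorem card_of_regular [Finite G] [Finite Ω] {N : Subgroup G} (htr : ∀ x y : Ω, ∃ n ∈ N, n • x = y)
    (hreg : ∀ x : Ω, ∀ n ∈ N, n • x = x → n = 1) (a : Ω) : Nat.card N = Nat.card Ω := by
  apply Nat.card_congr
  refine Equiv.ofBijective (fun n : N => (n : G) • a) ⟨fun m n hmn => ?_, fun x => ?_⟩
  · have h1 : (m : G) • a = (n : G) • a := hmn
    have h2 : ((n : G)⁻¹ * m) • a = a := by rw [mul_smul, inv_smul_eq_iff, h1]
    have h3 := hreg a _ (mul_mem (inv_mem n.2) m.2) h2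
    exact Subtype.ext (inv_mul_eq_one.1 h3).symm
  · obtain ⟨n, hn, h⟩ := htr a x
    exact ⟨⟨n, hn⟩, h⟩

/-- **`PSL₂(2^k)`, `2^k + 1` prime**: no affine 2-transitive subgroup for `k ≥ 3` -/
theorem no_fermat (A : AS G Ω T) {F : Type} [Field F] [Fintype F] {k : ℕ} (hk : 3 ≤ k) (hF : Fintype.card F = 2 ^ k)
    (e : ↥T ≃* Matrix.ProjectiveSpecialLinearGroup (Fin 2) F) (hc : Nat.card Ω = 2 ^ k + 1)
    (hprime : (Nat.card Ω).Prime) {H : Subgroup G} (hd : 2 ^ k ∣ Nat.card H) {N : Subgroup H} (hN : N.Normal)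
    (hNc : IsMulCommutative ↥N) (htr : ∀ x y : Ω, ∃ n ∈ N, n • x = y)
    (hreg : ∀ x : Ω, ∀ n ∈ N, n • x = x → n = 1) : False := by
  have := A.finG
  have := A.finΩ
  have := A.faithful
  have := A.nontrivialΩ
  obtain ⟨a⟩ : Nonempty Ω := inferInstance
  have hNcard := card_of_regular htr hreg a
  have : Fact (Nat.card N).Prime := ⟨hNcard ▸ hprime⟩
  have hcyc : IsCyclic N := isCyclic_of_prime_card rfl
  have := Fact.mk Nat.prime_two
  -- the action on `N`
  have hker : (MulAut.conjNormal : H →* MulAut N).ker ≤ N := by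
    intro c hc'
    rw [MonoidHom.mem_ker] at hc'
    obtain ⟨n, hn, hna⟩ := htr a (c • a)
    have h1 : ∀ m ∈ N, c * m = m * c := by
      intro m hm
      have h2 := congrArg Subtype.val (DFunLike.congr_fun hc' (⟨m, hm⟩ : N))
      rw [MulAut.conjNormal_apply] at h2
      have h3 : c * m * c⁻¹ = m := h2
      exact mul_inv_eq_iff_eq_mul.1 h3
    have h2 : n⁻¹ * c = 1 := by
      have h3 : ∀ x : Ω, (n⁻¹ * c) • x = x := by
        intro x
        obtain ⟨m, hm, hmx⟩ := htr a x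
        have h4 : n⁻¹ * c * m = m * (n⁻¹ * c) := by
          have h5 : n⁻¹ * m = m * n⁻¹ := by
            have h6 := hNc.is_comm.comm (⟨n⁻¹, inv_mem hn⟩ : N) ⟨m, hm⟩
            exact congrArg Subtype.val h6
          rw [mul_assoc, h1 m hm, ← mul_assoc, h5, mul_assoc]
        rw [← hmx, ← mul_smul, h4, mul_smul, mul_smul n⁻¹ c a, ← hna, inv_smul_smul]
      have hfH : FaithfulSMul H Ω := ⟨fun h => Subtype.ext (FaithfulSMul.eq_of_smul_eq_smul (α := Ω) h)⟩
      exact FaithfulSMul.eq_of_smul_eq_smul (α := Ω) fun x => by rw [h3, one_smul]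
    rw [inv_mul_eq_one] at h2
    rw [← h2]
    exact hn
  obtain ⟨P⟩ : Nonempty (Sylow 2 H) := inferInstance
  have hPN : ∀ x ∈ (P : Subgroup H), x ∈ N → x = 1 := by
    intro x hx hxN
    obtain ⟨j, hj⟩ := (IsPGroup.iff_orderOf.1 P.isPGroup') ⟨x, hx⟩
    rw [Subgroup.orderOf_mk] at hj
    have h1 : orderOf x ∣ Nat.card N := by
      have := _root_.orderOf_dvd_natCard (⟨x, hxN⟩ : N)
      rwa [Subgroup.orderOf_mk] at this
    rw [hNcard] at h1
    rcases (Nat.dvd_prime hprime).1 h1 with h2 | h2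
    · exact orderOf_eq_one_iff.1 h2
    · exfalso
      rw [hj, hc] at h2
      have h3 : 1 ≤ j := by
        by_contra h0
        have : j = 0 := by omega
        rw [this, pow_zero] at h2
        have := Nat.two_pow_pos k
        omega
      have h4 : 2 ∣ 2 ^ j := dvd_pow_self 2 (by omega)
      have h5 : 2 ∣ 2 ^ k := dvd_pow_self 2 (by omega)
      omega
  have hPcyc : IsCyclic P := by
    have h1 : IsCyclic (MulAut N) := by
      have e1 := IsCyclic.mulAutMulEquiv N
      have : IsCyclic (ZMod (Nat.card N))ˣ := inferInstance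
      exact isCyclic_of_surjective e1.symm.toMonoidHom e1.symm.surjective
    let f : P →* MulAut N := (MulAut.conjNormal : H →* MulAut N).comp (P : Subgroup H).subtype
    have hf : Function.Injective f := by
      rw [← MonoidHom.ker_eq_bot_iff, eq_bot_iff]
      intro x hx
      rw [Subgroup.mem_bot]
      apply Subtype.ext
      exact hPN x x.2 (hker hx)
    exact isCyclic_of_injective f hf
  obtain ⟨y, hy⟩ := hPcyc.exists_generator
  have hyo := orderOf_eq_card_of_forall_mem_zpowers hy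
  have hPd : 2 ^ k ∣ Nat.card P := P.pow_dvd_card_of_pow_dvd_card hd
  obtain ⟨j, hj⟩ := (IsPGroup.iff_card.1 P.isPGroup')
  -- the index
  have hCh : CharP F 2 := charP_of_card_eq_prime_pow hF
  have h8 : 8 ≤ 2 ^ k := by
    calc 8 = 2 ^ 3 := by norm_num
      _ ≤ 2 ^ k := Nat.pow_le_pow_right (by norm_num) hk
  have hi : T.index ∣ k := by
    have h1 := A.index_dvd_out e
    rw [card_out_psl2 Nat.prime_two (by omega) hF (by omega)] at h1
    have h2 : Nat.gcd 2 (2 ^ k - 1) = 1 := by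
      rw [← Nat.coprime_iff_gcd_eq_one, Nat.prime_two.coprime_iff_not_dvd]
      have : 2 ∣ 2 ^ k := dvd_pow_self 2 (by omega)
      omega
    rwa [h2, one_mul] at h1
  obtain ⟨g, hg⟩ : ∃ g : G, g = ((y : H) : G) := ⟨_, rfl⟩
  have hgo : orderOf g = 2 ^ j := by
    rw [hg, Subgroup.orderOf_coe, Subgroup.orderOf_coe, hyo, hj]
  have hT := A.pow_index_mem g
  have h1 : (e ⟨g ^ T.index, hT⟩) ^ 2 ^ j = 1 := by
    rw [← map_pow, MulEquivClass.map_eq_one_iff]
    apply Subtype.ext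
    change (g ^ T.index) ^ 2 ^ j = 1
    rw [← pow_mul, mul_comm, pow_mul, ← hgo, pow_orderOf_eq_one, one_pow]
  have h2 := pslTwo_pow j h1
  rw [← map_pow, MulEquivClass.map_eq_one_iff] at h2
  have h3 : (g ^ T.index) ^ 2 = 1 := congrArg Subtype.val h2
  rw [← pow_mul] at h3
  have h4 := orderOf_dvd_of_pow_eq_one h3
  rw [hgo, ← hj] at h4
  have h5 := hPd.trans h4
  have hi0 : 0 < T.index := Nat.pos_of_ne_zero T.index_ne_zero_of_finite
  have h6 := Nat.le_of_dvd (by omega) h5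
  have h7 := Nat.le_of_dvd (by omega) hi
  -- `2 ^ k > 2 k`
  have h9 : ∀ n : ℕ, 2 * (n + 3) < 2 ^ (n + 3) := by
    intro n
    induction n with
    | zero => norm_num
    | succ n ih =>
      have : 2 ^ (n + 1 + 3) = 2 * 2 ^ (n + 3) := by ring
      omega
  obtain ⟨n, rfl⟩ : ∃ n, k = n + 3 := ⟨k - 3, by omega⟩
  have := h9 n
  omega

end Cfsg.Agent.H361.Tits
end

-- part: H361/Tits/T2/Main
section
/-!
# 2-transitive subgroups of rank one groups contain the socle: main theorem (helper361)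
-/

set_option autoImplicit false
open Cfsg

namespace Cfsg.Agent.H361.Tits

open Subgroup MulAction Cfsg.Agent.H384.TwoTrans Cfsg.Agent.H384 Cfsg.Agent.H499.TT

universe u v w

variable {G : Type u} {Ω : Type v} [Group G] [MulAction G Ω] {T : Subgroup G} {a : Ω} {p : ℕ} {Q Z : Subgroup G}

/-- the affine subgroups -/
theorem affine_case (A : AS G Ω T) (hp : p.Prime) {k : ℕ} (hc : Nat.card Ω = p ^ k + 1) (hk : 2 ≤ k)
    (hn5 : Nat.card Ω ≠ 5) (hty : R1 p k ↥T ∨ (p = 3 ∧ k = 3 ∧ Nat.card ↥T = 504 ∧ Nat.card Ω = 28))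
    {H : Subgroup G} (hd : p ^ k ∣ Nat.card H) (gp : ¬ p ^ (k + 1) ∣ Nat.card G → T ≤ H)
    {N : Subgroup H} (hN : N.Normal) (hNc : IsMulCommutative ↥N) {l : ℕ} (hl : l.Prime) (hexp : ∀ n ∈ N, n ^ l = 1)
    (htr : ∀ x y : Ω, ∃ n ∈ N, n • x = y) (hreg : ∀ x : Ω, ∀ n ∈ N, n • x = x → n = 1) : T ≤ H := by
  have := A.finG
  have := A.finΩ
  have := A.faithful
  have := A.nontrivialΩ
  obtain ⟨a⟩ : Nonempty Ω := inferInstance
  have hNcard := card_of_regular htr hreg a
  have := Fact.mk hl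
  have hNl : IsPGroup l N := fun x => ⟨1, by rw [pow_one]; exact Subtype.ext (hexp x x.2)⟩
  obtain ⟨m, hm⟩ := (IsPGroup.iff_card.1 hNl)
  have hlm : p ^ k + 1 = l ^ m := by rw [← hm, hNcard, hc]
  have h4 : 4 ≤ p ^ k := by
    calc 4 = 2 ^ 2 := by norm_num
      _ ≤ p ^ 2 := Nat.pow_le_pow_left hp.two_le 2
      _ ≤ p ^ k := Nat.pow_le_pow_right hp.pos hk
  by_cases hp2 : p = 2
  · subst hp2
    rcases hty with hR | ⟨h3, -⟩
    swap
    · norm_num at h3
    have hk2 : k ≠ 2 := by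
      rintro rfl
      exact hn5 hc
    rcases Cfsg.Agent.H436.two_pow_add_one_eq hl (by omega) hlm with h1 | h1
    · subst h1
      rw [pow_one] at hlm
      have hprime : (Nat.card Ω).Prime := by rw [hc, hlm]; exact hl
      cases hR with
      | psl F h4 hF e =>
        obtain ⟨e⟩ := e
        exact (no_fermat A (by omega) hF e hc hprime hd hN hNc htr hreg).elim
      | psu F q hq hF hk' e =>
        exfalso
        have h5 : Nat.card Ω = (q + 1) * (q * (q - 1) + 1) := by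
          rw [hc, ← hk']
          obtain ⟨b, rfl⟩ : ∃ b, q = b + 1 := ⟨q - 1, by omega⟩
          rw [Nat.add_sub_cancel]; ring
        rw [h5] at hprime
        refine Nat.not_prime_mul (by omega) ?_ hprime
        have : 0 < q * (q - 1) := Nat.mul_pos (by omega) (by omega)
        omega
      | sz F m hp' hm hF hk' e =>
        exfalso
        have h5 : 5 ∣ Nat.card Ω := by
          rw [hc, ← hk', ← pow_mul]
          have h6 : (2 * m + 1) * 2 = 2 + 4 * m := by ring
          rw [h6, pow_add, pow_mul]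
          have h7 : (2 ^ 4) ^ m % 5 = 1 := by
            rw [Nat.pow_mod]; norm_num
          omega
        have h6 := (Nat.prime_dvd_prime_iff_eq (by norm_num) hprime).1 h5
        exact hn5 h6.symm
      | ree K m hp' hm hK hk' e => norm_num at hp'
    · subst h1
      apply gp
      cases hR with
      | psl F h4 hF e =>
        obtain ⟨e⟩ := e
        have h5 := A.index_dvd_out e
        rw [card_out_psl2 Nat.prime_two (by norm_num) hF (by norm_num)] at h5
        have h6 : T.index ∣ 3 := by simpa using h5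
        rw [card_eq A e, card_psl2 hF]
        rcases (Nat.dvd_prime Nat.prime_three).1 h6 with h7 | h7 <;> rw [h7] <;> norm_num
      | psu F q hq hF hk' e =>
        exfalso
        have : 3 ^ 3 ≤ q ^ 3 := Nat.pow_le_pow_left hq 3
        omega
      | sz F m hp' hm hF hk' e =>
        exfalso
        rw [← pow_mul] at hk'
        have := Nat.pow_right_injective (le_refl 2) hk'
        omega
      | ree K m hp' hm hK hk' e => norm_num at hp'
  · exfalso
    have hodd := hp.eq_two_or_odd'.resolve_left hp2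
    have h1 : 2 ∣ l ^ m := by
      rw [← hlm]
      exact (hodd.pow.add_one).two_dvd
    have h2 : l = 2 := ((Nat.prime_dvd_prime_iff_eq Nat.prime_two hl).1 (Nat.prime_two.dvd_of_dvd_pow h1)).symm
    subst h2
    have h3 : 2 ≤ m := by
      by_contra hcon
      have : 2 ^ m ≤ 2 ^ 1 := Nat.pow_le_pow_right (by norm_num) (by omega)
      omega
    have := Cfsg.Agent.H436.pow_add_one_eq hp h3 hlm
    omega

/-- **main theorem**, semiregular case -/
theorem core_sr (A : AS G Ω T) (hQ : PQ a p Q) (hSR : SR a p Z) (hK : Known2 ↥T (Nat.card Ω))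
    (hSch : ∀ (X : Type u) [Group X] [Finite X] [IsSimpleGroup X], Group.IsSolvable (Cfsg.Out X))
    {k : ℕ} (hc : Nat.card Ω = p ^ k + 1) (hk : 2 ≤ k) (hn5 : Nat.card Ω ≠ 5)
    {H : Subgroup G} (h2 : IsMultiplyPretransitive H Ω 2)
    (hKH : ∀ S : Subgroup H, AS H Ω S → Known2 ↥S (Nat.card Ω)) : T ≤ H := by
  have hfin := A.finG
  have hfinΩ := A.finΩ
  have hff := A.faithful
  have hnt := A.nontrivialΩ
  have hp := hQ.prime
  have := Fact.mk hp
  have hfH : FaithfulSMul H Ω := ⟨fun h => Subtype.ext (FaithfulSMul.eq_of_smul_eq_smul (α := Ω) h)⟩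
  have h5 := A.five_le
  have htr : ∀ x y : Ω, ∃ g ∈ H, g • x = y := by
    intro x y
    by_cases hxy : x = y
    · exact ⟨1, one_mem _, by rw [hxy, one_smul]⟩
    · obtain ⟨g, hg, -⟩ := two_pts h2 x y y x hxy (Ne.symm hxy)
      exact ⟨g, g.2, hg⟩
  have hd : p ^ k ∣ Nat.card H := by
    have h6 := dvd_card_of_two h2 (by omega)
    have h7 : Nat.card Ω - 1 = p ^ k := by omega
    rw [h7] at h6
    exact (dvd_mul_left _ _).trans h6
  have gp : ¬ p ^ (k + 1) ∣ Nat.card G → T ≤ H := fun h => hQ.socle_le A htr (not_dvd_index h hd)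
  have hty := hSR.types A hK hc hk hn5
  rcases reduction (G := H) h2 (by omega) with ⟨N, hN, -, hNc, ⟨l, hl, hexp⟩, hNtr, hreg⟩ | ⟨S, B⟩
  · exact affine_case A hp hc hk hn5 hty hd gp hN hNc hl hexp hNtr hreg
  have hTfin := A.finT
  have e : S ≃* S.map H.subtype := S.equivMapOfInjective _ H.subtype_injective
  have hS'H : S.map H.subtype ≤ H := by
    rintro _ ⟨x, -, rfl⟩
    exact x.2
  have hS1 : IsSimpleGroup ↥(S.map H.subtype) := by
    have := B.simple
    have : Nontrivial ↥(S.map H.subtype) := e.symm.toEquiv.nontrivial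
    exact IsSimpleGroup.isSimpleGroup_of_surjective e.toMonoidHom e.surjective
  have hS2 : ¬ IsMulCommutative ↥(S.map H.subtype) := by
    intro h
    apply B.nonab
    exact ⟨⟨fun x y => e.injective (by rw [map_mul, map_mul, h.is_comm.comm])⟩⟩
  have hST := AS_le_of_simple A hSch hS1 hS2
  have hcard : Nat.card ↥(S.map H.subtype) = Nat.card S := (Nat.card_congr e.toEquiv).symm
  have hdvd : Nat.card S ∣ Nat.card T := by
    rw [← hcard]
    exact Subgroup.card_dvd_of_le hST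
  rcases dvd_or (hKH S B) hp hc with hdS | ⟨hn28, hS504⟩
  · rcases hty with hR | ⟨rfl, rfl, hT504, -⟩
    · refine (eq_of_dich hR.dich hST hS1 hS2 ?_).trans hS'H
      intro hi
      apply hR.not_dvd hp (by omega)
      have h6 : Nat.card ↥(S.map H.subtype) * (S.map H.subtype).relIndex T = Nat.card T := by
        rw [← Subgroup.relIndex_bot_left, ← Subgroup.relIndex_bot_left]
        exact Subgroup.relIndex_mul_relIndex _ _ _ bot_le hST
      rw [← h6, pow_succ, hcard]
      exact Nat.mul_dvd_mul hdS hi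
    · exfalso
      have h6 := hdS.trans hdvd
      rw [hT504] at h6
      norm_num at h6
  · have h6 : p ^ k = 3 ^ 3 := by omega
    have h7 : p = 3 := by
      have h8 : p ∣ 3 ^ 3 := by rw [← h6]; exact dvd_pow_self p (by omega)
      exact (Nat.prime_dvd_prime_iff_eq hp Nat.prime_three).1 (hp.dvd_of_dvd_pow h8)
    subst h7
    have h8 : k = 3 := Nat.pow_right_injective (by norm_num) h6
    subst h8
    rcases hty with hR | ⟨-, -, hT504, -⟩
    · cases hR with
      | psl F h4 hF e' =>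
        exfalso
        obtain ⟨e'⟩ := e'
        rw [Nat.card_congr e'.toEquiv, card_psl2 hF, hS504] at hdvd
        norm_num at hdvd
      | psu F q hq hF hk' e' =>
        obtain ⟨e'⟩ := e'
        have hq3 : q = 3 := Nat.pow_left_injective (n := 3) (by norm_num) hk'
        subst hq3
        apply gp
        intro h
        have h9 := A.card_dvd_mulAut
        rw [Nat.card_congr (MulAut.congr e').toEquiv, Cfsg.Agent.H933.HT.u33_aut hF] at h9
        have := h.trans h9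
        norm_num at this
      | sz F m hp' hm hF hk' e' => norm_num at hp'
      | ree K m hp' hm hK hk' e' =>
        exfalso
        rw [← pow_mul] at hk'
        have := Nat.pow_right_injective (by norm_num : 2 ≤ 3) hk'
        omega
    · have h9 : S.map H.subtype = T := by
        apply Subgroup.eq_of_le_of_card_ge hST
        rw [hcard, hS504, hT504]
      rw [← h9]
      exact hS'H

/-- **main theorem** -/
theorem core (A : AS G Ω T) (hQ : PQ a p Q) (hK : Known2 ↥T (Nat.card Ω))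
    (hSch : ∀ (X : Type u) [Group X] [Finite X] [IsSimpleGroup X], Group.IsSolvable (Cfsg.Out X))
    {k : ℕ} (hc : Nat.card Ω = p ^ k + 1) (hk : 1 ≤ k)
    {H : Subgroup G} (h2 : IsMultiplyPretransitive H Ω 2)
    (hKH : ∀ S : Subgroup H, AS H Ω S → Known2 ↥S (Nat.card Ω)) :
    T ≤ H ∨ (Nat.card Ω = 5 ∧ p = 2 ∧ Nat.card G = 120 ∧ Nat.card H = 20) := by
  have hfin := A.finG
  have hfinΩ := A.finΩ
  have hff := A.faithful
  have hnt := A.nontrivialΩ
  have hp := hQ.prime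
  have h5 := A.five_le
  have hd0 := dvd_card_of_two h2 (by omega)
  have htr : ∀ x y : Ω, ∃ g ∈ H, g • x = y := by
    intro x y
    by_cases hxy : x = y
    · exact ⟨1, one_mem _, by rw [hxy, one_smul]⟩
    · obtain ⟨g, hg, -⟩ := two_pts h2 x y y x hxy (Ne.symm hxy)
      exact ⟨g, g.2, hg⟩
  by_cases hn5 : Nat.card Ω = 5
  · rcases five A hn5 (by rw [hn5] at hd0; exact hd0) with h | ⟨h, h'⟩
    · exact Or.inl h
    · refine Or.inr ⟨hn5, ?_, h, h'⟩
      have h6 : p ^ k = 2 ^ 2 := by omega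
      have h8 : p ∣ 2 ^ 2 := by rw [← h6]; exact dvd_pow_self p (by omega)
      exact (Nat.prime_dvd_prime_iff_eq hp Nat.prime_two).1 (hp.dvd_of_dvd_pow h8)
  left
  rcases Nat.lt_or_ge 1 k with hk2 | hk2
  · obtain ⟨Z, hZQ, hZ⟩ := exists_EA hp Q hQ.isP hQ.ne_bot hQ.fix hQ.norm
    by_cases hnsr : ∃ n ∈ Z, n ≠ 1 ∧ ∃ y : Ω, y ≠ a ∧ n • y = y
    · exfalso
      obtain ⟨f, n, hr, hf, hn, hcn, -⟩ := pslT_of_nsr A.two hp ⟨Z, hZ.fix, hZ.norm, hZ.comm, hnsr, hZ.isPGroup⟩
      exact psl_no hp hr hf hn hcn hc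
    · have hSR : SR a p Z := ⟨hZ, by
        intro x hx hx1 b hb
        by_contra hba
        exact hnsr ⟨x, hx, hx1, b, hba, hb⟩⟩
      exact core_sr A hQ hSR hK hSch hc hk2 hn5 h2 hKH
  · obtain rfl : k = 1 := by omega
    rw [pow_one] at hc
    refine hQ.socle_le A htr (not_dvd_index (k := 1) (not_sq_dvd hp hc) ?_)
    have h7 : Nat.card Ω - 1 = p := by omega
    rw [h7] at hd0
    rw [pow_one]
    exact (dvd_mul_left _ _).trans hd0

end Cfsg.Agent.H361.Tits
end

-- part: H361/Tits/T2/Tab2Core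
section
/-!
# S3414, TAB2 with the classification of the socles as hypothesis (helper361)
-/

set_option autoImplicit false
open Cfsg

namespace Cfsg.Agent.H361.Tits

open Subgroup MulAction Cfsg.Agent.H384.TwoTrans Cfsg.Agent.H384 Cfsg.Agent.H499.TT Cfsg.Agent.H873.Tits

universe u v w

variable {G : Type u} {Ω : Type v} [Group G] [MulAction G Ω] {T : Subgroup G}

/-- the socle swaps any two points -/
theorem swap_of_even (A : AS G Ω T) (h2 : 2 ∣ Nat.card T) {x y : Ω} (hxy : x ≠ y) :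
    ∃ t ∈ T, t • x = y ∧ t • y = x := by
  have := A.finG
  have := A.faithful
  have := A.normal
  have := A.finT
  have := Fact.mk Nat.prime_two
  obtain ⟨t, ht⟩ := exists_prime_orderOf_dvd_card' 2 h2
  have ht2 : (t : G) * t = 1 := by
    have h3 := pow_orderOf_eq_one t
    rw [ht, pow_two] at h3
    exact congrArg Subtype.val h3
  have ht1 : (t : G) ≠ 1 := by
    intro h
    have h3 : t = 1 := Subtype.ext h
    rw [h3, orderOf_one] at ht
    norm_num at ht
  obtain ⟨u, hu⟩ : ∃ u : Ω, (t : G) • u ≠ u := by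
    by_contra hcon
    push Not at hcon
    exact ht1 (FaithfulSMul.eq_of_smul_eq_smul (α := Ω) fun x => by rw [hcon, one_smul])
  obtain ⟨g, hg1, hg2⟩ := A.two' u ((t : G) • u) x y (Ne.symm hu) hxy
  refine ⟨g * t * g⁻¹, A.normal.conj_mem _ t.2 g, ?_, ?_⟩
  · rw [← hg1, mul_smul, mul_smul, inv_smul_smul, hg2]
  · rw [← hg2, mul_smul, mul_smul, inv_smul_smul, ← mul_smul (t : G), ht2, one_smul, hg1]

/-- the socle has even order -/
theorem even_card (A : AS G Ω T) (hK : Known2 ↥T (Nat.card Ω)) {p k : ℕ} (hp : p.Prime)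
    (hc : Nat.card Ω = p ^ k + 1) (hk : 1 ≤ k) : 2 ∣ Nat.card T := by
  rcases hp.eq_two_or_odd' with h | h
  · subst h
    rcases dvd_or hK hp hc with h1 | ⟨-, h1⟩
    · exact (dvd_pow_self 2 (by omega)).trans h1
    · rw [h1]; norm_num
  · have hodd : Odd (p ^ k) := h.pow
    have h1 : 2 ∣ Nat.card Ω := by rw [hc]; exact hodd.add_one.two_dvd
    have h5 := A.five_le
    have : Nonempty Ω := by
      have := A.nontrivialΩ
      infer_instance
    obtain ⟨a⟩ := this
    exact h1.trans (Dvd.intro _ (A.card_mul a))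

/-- **TAB2.** -/
theorem st_tab2_of (hK : ∀ {G Ω : Type v} [Group G] [MulAction G Ω] {T : Subgroup G}, AS G Ω T →
    Known2 ↥T (Nat.card Ω))
    (hSch : ∀ (X : Type v) [Group X] [Finite X] [IsSimpleGroup X], Group.IsSolvable (Cfsg.Out X)) : StTab2.{v} := by
  intro Ω _ L L' s p a b Q hLQ hL'2 hle hpow hAff r hr hrp hri
  obtain ⟨k, hk⟩ := hpow
  have h2 : IsMultiplyPretransitive L Ω 2 := by
    rw [is_two_pretransitive_iff]
    intro a b c d hab hcd
    obtain ⟨g, hg, h1, h2⟩ := hLQ.two a b c d hab hcd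
    exact ⟨⟨g, hg⟩, h1, h2⟩
  have h2' : IsMultiplyPretransitive (L'.subgroupOf L) Ω 2 := by
    rw [is_two_pretransitive_iff]
    intro a b c d hab hcd
    obtain ⟨g, hg, h1, h2⟩ := hL'2 a b c d hab hcd
    exact ⟨⟨⟨g, hle hg⟩, hg⟩, h1, h2⟩
  have hc := hLQ.card
  have hs2 := hLQ.two_le
  have hk1 : 1 ≤ k := by
    by_contra hcon
    have : k = 0 := by omega
    rw [this, pow_zero] at hk
    omega
  rw [hk] at hc
  have hQL : Q ≤ L := hLQ.Q_le.trans inf_le_left
  have hPQ : PQ (G := L) a p (Q.subgroupOf L) :=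
    { prime := hLQ.prime
      ne_bot := by
        intro h
        rw [subgroupOf_eq_bot, disjoint_iff, inf_eq_left.2 hQL] at h
        exact hLQ.Q_ne h
      isP := hLQ.Q_p.comap_of_injective L.subtype L.subtype_injective
      fix := fun x hx => (hLQ.Q_le hx).2
      norm := by
        intro g hg x hx
        have hgS : (g : Equiv.Perm Ω) ∈ Stb L a := ⟨g.2, hg⟩
        have h1 := hLQ.Q_normal.conj_mem ⟨x, hLQ.Q_le hx⟩ hx ⟨g, hgS⟩
        exact h1 }
  have h3 : 3 ≤ Nat.card Ω := by rw [hLQ.card]; omega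
  rcases reduction (G := L) h2 h3 with ⟨N, hN, -, hNc, -, htr, hreg⟩ | ⟨T, A⟩
  · exfalso
    apply hAff
    have hinj := L.subtype_injective
    let e : N ≃* N.map L.subtype := N.equivMapOfInjective _ hinj
    refine ⟨N.map L.subtype, ?_, ?_, ?_, ⟨?_⟩, ?_⟩
    · rintro _ ⟨x, -, rfl⟩
      exact x.2
    · have h1 : (N.map L.subtype).subgroupOf L = N := by
        ext x
        constructor
        · rintro ⟨y, hy, hyx⟩
          have : y = x := hinj hyx
          rwa [← this]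
        · intro hx
          exact ⟨x, hx, rfl⟩
      rw [h1]
      exact hN
    · exact ⟨⟨fun x y => e.symm.injective (by rw [map_mul, map_mul, hNc.is_comm.comm])⟩⟩
    · intro x y
      obtain ⟨n, hn, h⟩ := htr x y
      exact ⟨⟨n, ⟨n, hn, rfl⟩⟩, h⟩
    · intro x
      rw [eq_bot_iff]
      rintro ⟨_, n, hn, rfl⟩ hnx
      rw [mem_bot]
      have h1 := hreg x n hn hnx
      apply Subtype.ext
      change (n : Equiv.Perm Ω) = 1
      rw [h1]
      rfl
  rcases core A hPQ (hK A) hSch hc hk1 h2' (fun S B => hK B) with h | ⟨h5, hp2, h120, h20⟩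
  · left
    refine ⟨T.map L.subtype, ?_, ?_, ?_, ?_⟩
    · rintro _ ⟨x, hx, rfl⟩
      exact h hx
    · have h1 : (T.map L.subtype).subgroupOf L = T := by
        ext x
        constructor
        · rintro ⟨y, hy, hyx⟩
          have : y = x := L.subtype_injective hyx
          rwa [← this]
        · intro hx
          exact ⟨x, hx, rfl⟩
      rw [h1]
      exact A.normal
    · intro x y hxy
      obtain ⟨t, ht, h1, h2⟩ := swap_of_even A (even_card A (hK A) hLQ.prime hc hk1) hxy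
      exact ⟨t, ⟨t, ht, rfl⟩, h1, h2⟩
    · intro M hML hM hM1
      have h1 := A.le_of_normal (M.subgroupOf L) hM (by
        intro h
        rw [subgroupOf_eq_bot, disjoint_iff, inf_eq_left.2 hML] at h
        exact hM1 h)
      rintro _ ⟨x, hx, rfl⟩
      exact h1 hx
  · right
    have h20' : Nat.card L' = 20 := by
      rw [← h20]
      exact (Nat.card_congr (Subgroup.subgroupOfEquivOfLe hle).toEquiv).symm
    have h6 : Nat.card (L'.subgroupOf L) * (L'.subgroupOf L).index = Nat.card L := Subgroup.card_mul_index _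
    rw [h20, h120] at h6
    have h7 : L'.relIndex L = 6 := by
      change (L'.subgroupOf L).index = 6
      omega
    rw [h7] at hri
    refine ⟨?_, hp2, ?_, h120, h20'⟩
    · have := hLQ.card
      omega
    · have h8 : r ∣ 2 * 3 := hri
      rcases hr.dvd_mul.1 h8 with h9 | h9
      · exact (hrp (((Nat.prime_dvd_prime_iff_eq hr Nat.prime_two).1 h9).trans hp2.symm)).elim
      · exact (Nat.prime_dvd_prime_iff_eq hr Nat.prime_three).1 h9

end Cfsg.Agent.H361.Tits
end

-- part: H361/Tits/Tab2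
section
/-!
# S3414, TAB2 (helper361)
-/

set_option autoImplicit false

namespace Cfsg.Agent.H361.Tits

open Cfsg.Agent.H873.Tits

universe v

/-- **TAB2.** -/
theorem st_tab2 : StTab2.{v} :=
  st_tab2_of (fun A => Cfsg.Agent.H384.TwoTransMain.main (fun _ _ _ _ => Cfsg.Agent.S0000.result) A)
    (fun _ _ _ _ => Cfsg.Agent.S5758.result)

end Cfsg.Agent.H361.Tits
end

-- part: H640/Tits/PolOf
section
/-!
# S3414, G1: the generalized polygon of a (B,N)-pair of rank two

`V = ⨿ b, G ⧸ par b`, `par b = B ∪ B σ_b B`; two vertices are adjacent iff the cosets meet.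
-/

set_option autoImplicit false

namespace Cfsg.Agent.H640.Tits.Bn

open Cfsg Cfsg.Agent.LieExceptional.BNPairCore Cfsg.Agent.LieRecognition.FeitHigmanGroup
open Cfsg.Agent.H873.Tits

universe u

/-- `σ true`, `σ false` are the two generators, `2 * n` is the order of the Weyl group -/
structure Dat {G : Type u} [Group G] (P : BNPair G) where
  σ : Bool → G
  hS : P.S = {σ true, σ false}
  ne : σ true ≠ σ false
  n : ℕ
  two_le : 2 ≤ n
  red : ∀ a k, k ≤ n → len P (alt k (σ a) (σ !a)) = k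
  braid : ∀ a, (alt n (σ a) (σ !a))⁻¹ * alt n (σ !a) (σ a) ∈ P.B
  hne : ∀ a k, 1 ≤ k → k < n → (alt k (σ a) (σ !a))⁻¹ * alt k (σ !a) (σ a) ∉ P.B

/-- existence of the data -/
theorem exists_dat {G : Type u} [Group G] [Finite G] (P : BNPair G) (h2 : P.rank = 2) :
    ∃ D : Dat P, ((P.B ⊓ P.N).subgroupOf P.N).index = 2 * D.n := by
  have hcard : P.S.ncard = 2 := by
    rw [← h2]; rfl
  obtain ⟨s, t, hst, hS⟩ := Set.ncard_eq_two.1 hcard
  have hs : s ∈ P.S := by rw [hS]; simp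
  have ht : t ∈ P.S := by rw [hS]; simp
  obtain ⟨n, hn2, hred, hbraid, hne⟩ := exists_max_red hS hst
  refine ⟨⟨fun b => if b then s else t, by simpa using hS, by simpa using hst, n, hn2, ?_, ?_, ?_⟩,
    card_weyl hS (le_trans (by norm_num) hn2) hred hbraid hne⟩
  · intro a k hk
    have := hred.of_le hs ht hk
    cases a
    · exact this.2
    · exact this.1
  · intro a
    cases a
    · exact rel_symm hbraid
    · exact hbraid
  · intro a k h1 h2
    cases a
    · exact fun h => hne k h1 h2 (rel_symm h)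
    · exact hne k h1 h2

variable {G : Type u} [Group G] {P : BNPair G} (D : Dat P)

namespace Dat

theorem mem (b : Bool) : D.σ b ∈ P.S := by
  rw [D.hS]
  cases b <;> simp

theorem memN (b : Bool) : D.σ b ∈ P.N := mem_N (D.mem b)

theorem eq_of_mem {s : G} (hs : s ∈ P.S) : ∃ b, s = D.σ b := by
  rw [D.hS] at hs
  rcases hs with h | h
  · exact ⟨true, h⟩
  · exact ⟨false, h⟩

/-- alternating words starting with `σ a` -/
def W (a : Bool) (k : ℕ) : G := alt k (D.σ a) (D.σ !a)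

theorem W_zero (a : Bool) : D.W a 0 = 1 := rfl

theorem W_succ (a : Bool) (k : ℕ) : D.W a (k + 1) = D.σ a * D.W (!a) k := by
  rw [W, W, alt_succ, Bool.not_not]

theorem W_mem (a : Bool) (k : ℕ) : D.W a k ∈ P.N := alt_mem_N (D.mem _) (D.mem _) k

theorem len_W (a : Bool) {k : ℕ} (hk : k ≤ D.n) : len P (D.W a k) = k := D.red a k hk

theorem eq_len {a b : Bool} {i j : ℕ} (hi : i ≤ D.n) (hj : j ≤ D.n) {g : G} (h : g ∈ C P (D.W a i))
    (h' : g ∈ C P (D.W b j)) : i = j := by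
  have := len_congr (rel_of_C_eq (D.W_mem a i) (D.W_mem b j) (C_eq_of_mem_mem h h'))
  rwa [D.len_W a hi, D.len_W b hj] at this

theorem eq_type {a b : Bool} {i : ℕ} (h1 : 1 ≤ i) (hi : i < D.n) {g : G} (h : g ∈ C P (D.W a i))
    (h' : g ∈ C P (D.W b i)) : a = b := by
  by_contra hab
  have hb : b = !a := by cases a <;> cases b <;> simp_all
  subst hb
  refine D.hne a i h1 hi ?_
  have := rel_of_C_eq (D.W_mem a i) (D.W_mem (!a) i) (C_eq_of_mem_mem h h')
  rwa [W, W, Bool.not_not] at this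

theorem comp {a : Bool} {j : ℕ} (hj : j + 1 ≤ D.n) {x y z : G} (h : x⁻¹ * y ∈ C P (D.σ a))
    (h' : y⁻¹ * z ∈ C P (D.W (!a) j)) : x⁻¹ * z ∈ C P (D.W a (j + 1)) := by
  rw [W_succ]
  refine R_mk_iff.1 (R_comp (D.mem a) (D.W_mem (!a) j) ?_ (R_mk_iff.2 h) (R_mk_iff.2 h'))
  rw [← D.W_succ, D.len_W _ hj, D.len_W _ (by omega)]
  omega

/-- every length is at most `n` -/
theorem len_le {m : G} (hm : m ∈ P.N) : len P m ≤ D.n := by
  have hS' : P.S = {D.σ true, D.σ false} := D.hS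
  have key : ∀ k, ∀ w ∈ P.N, len P w = k → k ≤ D.n := by
    intro k
    induction k with
    | zero => intro w _ _; exact Nat.zero_le _
    | succ k ih =>
      intro w hw hk
      have aux : ∀ a : Bool, (D.W a (k + 1))⁻¹ * w ∈ P.B → k + 1 ≤ D.n := by
        intro a h1
        have h2 := len_congr h1
        rw [hk] at h2
        have h3 := ih _ (D.W_mem (!a) k) (by
          have := len_alt_pred (D.mem a) (D.mem !a) h2
          rwa [W, Bool.not_not])
        rcases Nat.lt_or_ge k D.n with h4 | h4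
        · omega
        · have h5 : k = D.n := by omega
          subst h5
          exact absurd h2 (not_red_of_braid (D.mem a) (D.mem !a) (by have := D.two_le; omega) (D.braid a))
      rcases exists_alt hS' hw with h1 | h1
      · rw [hk] at h1
        exact aux true h1
      · rw [hk] at h1
        exact aux false h1
  exact key _ m hm rfl

/-- Bruhat decomposition with alternating words -/
theorem exists_W (g : G) : ∃ a l, l ≤ D.n ∧ g ∈ C P (D.W a l) := by
  obtain ⟨m, hm, hg⟩ := bruhat (P := P) g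
  rcases exists_alt D.hS hm with h1 | h1
  · exact ⟨true, len P m, D.len_le hm, by rw [← C_eq_of_rel h1] at hg; exact hg⟩
  · exact ⟨false, len P m, D.len_le hm, by rw [← C_eq_of_rel h1] at hg; exact hg⟩

theorem braid' (a : Bool) : C P (D.W a D.n) = C P (D.W (!a) D.n) := by
  apply C_eq_of_rel
  have := D.braid a
  rwa [W, W, Bool.not_not]

/-! ### the parabolic subgroups -/

/-- `B ∪ B σ_b B` -/
def par (b : Bool) : Subgroup G := P.parabolic {D.σ b}

theorem mem_par {b : Bool} {g : G} : g ∈ D.par b ↔ g ∈ P.B ∨ g ∈ C P (D.σ b) := by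
  have hsub : ({D.σ b} : Set G) ⊆ P.S := Set.singleton_subset_iff.2 (D.mem b)
  constructor
  · intro h
    obtain ⟨m, hm, hg⟩ := (mem_parabolic_iff hsub g).1 h
    obtain ⟨k, rfl⟩ := Subgroup.mem_closure_singleton.1 hm
    have hsq : D.σ b * D.σ b ∈ P.B := P.sq_mem _ (D.mem b)
    have hz : ∀ j : ℤ, D.σ b ^ (2 * j) ∈ P.B := by
      intro j
      rw [two_mul, zpow_add, ← (Commute.refl (D.σ b)).mul_zpow]
      exact zpow_mem hsq j
    rcases Int.even_or_odd' k with ⟨j, hj | hj⟩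
    · left
      rw [hj] at hg
      exact mem_B_of_mem_C (hz j) hg
    · right
      have h1 : (D.σ b)⁻¹ * (D.σ b ^ k) ∈ P.B := by
        have : (D.σ b)⁻¹ * (D.σ b ^ k) = D.σ b ^ (2 * j) := by
          rw [hj, add_comm, zpow_add, zpow_one, inv_mul_cancel_left]
        rw [this]
        exact hz j
      rw [← C_eq_of_rel h1] at hg
      exact hg
  · rintro (h | h)
    · exact (le_sup_left : P.B ≤ P.parabolic {D.σ b}) h
    · exact mem_of_mem_C' le_sup_left h
        ((le_sup_right : Subgroup.closure {D.σ b} ≤ P.parabolic {D.σ b}) (Subgroup.subset_closure rfl))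

theorem B_le_par (b : Bool) : P.B ≤ D.par b := fun _ h => D.mem_par.2 (Or.inl h)

theorem inf_par {a : Bool} {g : G} (h : g ∈ D.par a) (h' : g ∈ D.par !a) : g ∈ P.B := by
  rcases D.mem_par.1 h with h1 | h1
  · exact h1
  rcases D.mem_par.1 h' with h2 | h2
  · exact h2
  exfalso
  have h3 := rel_of_C_eq (D.memN a) (D.memN !a) (C_eq_of_mem_mem h1 h2)
  have h4 := P.inj _ (D.mem a) _ (D.mem !a) h3
  cases a
  · exact D.ne h4.symm
  · exact D.ne h4

/-! ### vertices and paths -/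

/-- the vertices -/
abbrev V : Type u := Σ b : Bool, G ⧸ D.par b

/-- the vertex of type `b` of the chamber `x B` -/
def vt (b : Bool) (x : G) : D.V := ⟨b, (x : G ⧸ D.par b)⟩

theorem exists_vt (v : D.V) : ∃ x, v = D.vt v.1 x := by
  obtain ⟨b, y⟩ := v
  induction y using QuotientGroup.induction_on with
  | H x => exact ⟨x, rfl⟩

theorem vt_eq {b : Bool} {x y : G} : D.vt b x = D.vt b y ↔ x⁻¹ * y ∈ D.par b := by
  rw [vt, vt, Sigma.mk.injEq, ← QuotientGroup.eq]
  simp

theorem smul_vt (g : G) (b : Bool) (x : G) : g • D.vt b x = D.vt b (g * x) := rfl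

/-- adjacency -/
def adj (v w : D.V) : Prop := ∃ b x, v = D.vt b x ∧ w = D.vt (!b) x

theorem adj_symm {v w : D.V} (h : D.adj v w) : D.adj w v := by
  obtain ⟨b, x, rfl, rfl⟩ := h
  exact ⟨!b, x, rfl, by rw [Bool.not_not]⟩

theorem adj_tp {v w : D.V} (h : D.adj v w) : w.1 = !v.1 := by
  obtain ⟨b, x, rfl, rfl⟩ := h
  rfl

theorem adj_smul (g : G) {v w : D.V} (h : D.adj v w) : D.adj (g • v) (g • w) := by
  obtain ⟨b, x, rfl, rfl⟩ := h
  exact ⟨b, g * x, rfl, rfl⟩

variable {D}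

theorem exists_ch {k : ℕ} {p : ℕ → D.V} (h : IsPath D.adj k p) :
    ∃ c : ℕ → G, ∀ i, i < k → p i = D.vt (p i).1 (c i) ∧ p (i + 1) = D.vt (!(p i).1) (c i) := by
  have : ∀ i, ∃ x : G, i < k → p i = D.vt (p i).1 x ∧ p (i + 1) = D.vt (!(p i).1) x := by
    intro i
    by_cases hi : i < k
    · obtain ⟨b, x, h1, h2⟩ := h.1 i hi
      have hb : (p i).1 = b := congrArg Sigma.fst h1
      refine ⟨x, fun _ => ?_⟩
      rw [hb]
      exact ⟨h1, h2⟩
    · exact ⟨1, fun h' => absurd h' hi⟩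
  choose c hc using this
  exact ⟨c, hc⟩

theorem ch_step {k : ℕ} {p : ℕ → D.V} (h : IsPath D.adj k p) {c : ℕ → G}
    (hc : ∀ i, i < k → p i = D.vt (p i).1 (c i) ∧ p (i + 1) = D.vt (!(p i).1) (c i)) {i : ℕ} (hi : i + 1 < k) :
    (c i)⁻¹ * c (i + 1) ∈ C P (D.σ (p (i + 1)).1) := by
  have h1 := (hc i (by omega)).2
  have h2 := (hc (i + 1) hi).1
  have ht : (p (i + 1)).1 = !(p i).1 := congrArg Sigma.fst h1
  rw [← ht] at h1
  have h3 := D.vt_eq.1 (h1.symm.trans h2)
  rcases D.mem_par.1 h3 with hB | hC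
  · exfalso
    apply h.2 i hi
    have h4 := (hc (i + 1) hi).2
    rw [ht, Bool.not_not] at h4
    rw [h4]
    refine Eq.trans ?_ (hc i (by omega)).1.symm
    rw [eq_comm, D.vt_eq]
    exact D.B_le_par _ hB
  · exact hC

theorem gal {k : ℕ} {p : ℕ → D.V} (h : IsPath D.adj k p) {c : ℕ → G}
    (hc : ∀ i, i < k → p i = D.vt (p i).1 (c i) ∧ p (i + 1) = D.vt (!(p i).1) (c i)) :
    ∀ j i, i + j < k → j ≤ D.n → (c i)⁻¹ * c (i + j) ∈ C P (D.W (p (i + 1)).1 j) := by
  intro j
  induction j with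
  | zero =>
    intro i _ _
    rw [add_zero, inv_mul_cancel, W_zero]
    exact self_mem_C 1
  | succ j ih =>
    intro i hi hj
    have h1 := ch_step h hc (i := i) (by omega)
    have h2 := ih (i + 1) (by omega) (by omega)
    have ht : (p (i + 1 + 1)).1 = !(p (i + 1)).1 := D.adj_tp (h.1 (i + 1) (by omega))
    rw [ht] at h2
    have h3 := D.comp hj h1 h2
    have e : i + (j + 1) = i + 1 + j := by omega
    rw [e]
    exact h3

theorem tp_path {k : ℕ} {p : ℕ → D.V} (h : IsPath D.adj k p) :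
    ∀ i, i ≤ k → (p i).1 = xor (p 0).1 (Nat.bodd i) := by
  intro i
  induction i with
  | zero => intro _; simp
  | succ i ih =>
    intro hi
    rw [D.adj_tp (h.1 i hi), ih (by omega), Nat.bodd_succ]
    cases (p 0).1 <;> cases Nat.bodd i <;> rfl

/-- there are no closed paths of length `1 ≤ m < 2 n` -/
theorem no_closed {m : ℕ} (hm1 : 1 ≤ m) (hm2 : m < 2 * D.n) {p : ℕ → D.V} (h : IsPath D.adj m p) (h0 : p 0 = p m) :
    False := by
  obtain ⟨h', hh⟩ : ∃ h', m = 2 * h' := by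
    have h1 := tp_path h m le_rfl
    rw [← h0] at h1
    have h2 : Nat.bodd m = false := by
      revert h1
      cases (p 0).1 <;> cases Nat.bodd m <;> simp
    have h3 := Nat.bodd_add_div2 m
    rw [h2] at h3
    exact ⟨Nat.div2 m, by simpa using h3.symm⟩
  obtain ⟨c, hc⟩ := exists_ch h
  have g1 := gal h hc h' 0 (by omega) (by omega)
  -- the reversed path
  have hr := prev (adj := D.adj) (fun {v w} h => D.adj_symm h) h
  have hcr : ∀ i, i < m → (fun j => p (m - j)) i = D.vt ((fun j => p (m - j)) i).1 (c (m - 1 - i)) ∧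
      (fun j => p (m - j)) (i + 1) = D.vt (!((fun j => p (m - j)) i).1) (c (m - 1 - i)) := by
    intro i hi
    have h1 := hc (m - 1 - i) (by omega)
    have e : m - 1 - i + 1 = m - i := by omega
    have e2 : m - 1 - i = m - (i + 1) := by omega
    rw [e] at h1
    have ht : (p (m - i)).1 = !(p (m - 1 - i)).1 := congrArg Sigma.fst h1.2
    dsimp only
    refine ⟨?_, ?_⟩
    · rw [ht]; exact h1.2
    · rw [ht, Bool.not_not, ← e2]; exact h1.1
  have g2 := gal hr hcr (h' - 1) 0 (by omega) (by omega)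
  have e1 : 0 + h' = h' := by omega
  have e3 : m - 1 - (0 + (h' - 1)) = h' := by omega
  have e4 : m - 1 - 0 = m - 1 := by omega
  rw [e3, e4] at g2
  rw [e1] at g1
  have ht1 : (p (0 + 1)).1 = !(p 0).1 := D.adj_tp (h.1 0 (by omega))
  have ht2 : (p (m - (0 + 1))).1 = !(p 0).1 := by
    have := D.adj_tp (h.1 (m - (0 + 1)) (by omega))
    have e : m - (0 + 1) + 1 = m := by omega
    rw [e, ← h0] at this
    rw [this, Bool.not_not]
  rw [ht1] at g1
  rw [ht2] at g2
  -- `c 0` and `c (m - 1)` share `p 0`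
  have h3 : (c 0)⁻¹ * c (m - 1) ∈ D.par (p 0).1 := by
    have h4 := (hc 0 (by omega)).1
    have h5 := (hc (m - 1) (by omega)).2
    have e : m - 1 + 1 = m := by omega
    rw [e, ← h0] at h5
    have h6 : (p (m - 1)).1 = !(p 0).1 := by
      have := ht2
      rwa [zero_add] at this
    rw [h6, Bool.not_not] at h5
    exact D.vt_eq.1 (h4.symm.trans h5)
  rcases D.mem_par.1 h3 with hB | hC
  · have g3 : (c 0)⁻¹ * c h' ∈ C P (D.W (!(p 0).1) (h' - 1)) := by
      have e : (c 0)⁻¹ * c h' = ((c 0)⁻¹ * c (m - 1)) * ((c (m - 1))⁻¹ * c h') := by group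
      rw [e]
      exact mul_mem_C_left hB g2
    have := D.eq_len (by omega) (by omega) g1 g3
    omega
  · have g3 := D.comp (by omega) hC g2
    have e : h' - 1 + 1 = h' := by omega
    rw [e] at g3
    have := D.eq_type (by omega) (by omega) g1 g3
    cases hb : (p 0).1 <;> rw [hb] at this <;> simp at this

theorem path_unique : ∀ {k l : ℕ} {p p' : ℕ → D.V}, IsPath D.adj k p → IsPath D.adj l p' → p 0 = p' 0 → p k = p' l →
    k + l < 2 * D.n → k = l ∧ ∀ i, i ≤ k → p i = p' i := by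
  intro k
  induction k with
  | zero =>
    intro l p p' hp hp' h0 hk hlt
    have hl : l = 0 := by
      by_contra hne
      exact no_closed (by omega) (by omega) hp' (h0.symm.trans hk)
    subst hl
    refine ⟨rfl, fun i hi => ?_⟩
    have : i = 0 := by omega
    subst this
    exact h0
  | succ k ih =>
    intro l p p' hp hp' h0 hk hlt
    rcases Nat.eq_zero_or_pos l with rfl | hl
    · exact (no_closed (by omega) (by omega) hp (h0.trans hk.symm)).elim
    obtain ⟨l, rfl⟩ : ∃ m, l = m + 1 := ⟨l - 1, by omega⟩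
    by_cases h1 : p 1 = p' 1
    · have a1 := pshift hp 1
      have a2 := pshift hp' 1
      have e1 : k + 1 - 1 = k := by omega
      have e2 : l + 1 - 1 = l := by omega
      rw [e1] at a1
      rw [e2] at a2
      obtain ⟨h2, h3⟩ := ih a1 a2 (by simpa using h1) (by rw [add_comm 1 k, add_comm 1 l]; exact hk) (by omega)
      refine ⟨by omega, fun i hi => ?_⟩
      rcases Nat.eq_zero_or_pos i with rfl | hi0
      · exact h0
      · have := h3 (i - 1) (by omega)
        have e : 1 + (i - 1) = i := by omega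
        rwa [e] at this
    · exfalso
      have a1 := prev (adj := D.adj) (fun {v w} h => D.adj_symm h) hp
      have a2 := pappend a1 hp' (by
        rw [Nat.sub_self]
        exact h0) (fun _ _ => by
        have e : k + 1 - (k + 1 - 1) = 1 := by omega
        rw [e]
        exact fun h => h1 h.symm)
      refine no_closed (by omega) (by omega) a2 ?_
      rw [if_pos (by omega), if_neg (by omega)]
      have e : k + 1 + (l + 1) - (k + 1) = l + 1 := by omega
      rw [e, Nat.sub_zero]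
      exact hk

theorem psmul {k : ℕ} {p : ℕ → D.V} (h : IsPath D.adj k p) (g : G) : IsPath D.adj k (fun i => g • p i) :=
  ⟨fun i hi => D.adj_smul g (h.1 i hi), fun i hi he => h.2 i hi (MulAction.injective g he)⟩

/-- transitivity on paths of length `≤ n + 1` -/
theorem trans {k : ℕ} {p p' : ℕ → D.V} (hk : k ≤ D.n + 1) (hp : IsPath D.adj k p) (hp' : IsPath D.adj k p')
    (h0 : (p 0).1 = (p' 0).1) : ∃ g : G, ∀ i, i ≤ k → g • p i = p' i := by
  rcases Nat.eq_zero_or_pos k with rfl | hk0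
  · obtain ⟨x, hx⟩ := D.exists_vt (p 0)
    obtain ⟨y, hy⟩ := D.exists_vt (p' 0)
    refine ⟨y * x⁻¹, fun i hi => ?_⟩
    have : i = 0 := by omega
    subst this
    rw [hx, hy, ← h0, smul_vt, inv_mul_cancel_right]
  obtain ⟨c, hc⟩ := exists_ch hp
  obtain ⟨c', hc'⟩ := exists_ch hp'
  have g1 := gal hp hc (k - 1) 0 (by omega) (by omega)
  have g2 := gal hp' hc' (k - 1) 0 (by omega) (by omega)
  have ht : (p (0 + 1)).1 = (p' (0 + 1)).1 := by
    rw [D.adj_tp (hp.1 0 hk0), D.adj_tp (hp'.1 0 hk0), h0]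
  rw [zero_add] at g1 g2 ht
  have ek : 0 + (k - 1) = k - 1 := by omega
  rw [ht, ek] at g1
  rw [ek] at g2
  obtain ⟨b1, hb1, b2, hb2, e1⟩ := mem_C.1 g1
  obtain ⟨b1', hb1', b2', hb2', e2⟩ := mem_C.1 g2
  set w := D.W (p' 1).1 (k - 1)
  set g := c' 0 * b1' * b1⁻¹ * (c 0)⁻¹ with hg
  have r0 : (g * c 0)⁻¹ * c' 0 ∈ P.B := by
    have e : (g * c 0)⁻¹ * c' 0 = b1 * b1'⁻¹ := by rw [hg]; group
    rw [e]
    exact mul_mem hb1 (inv_mem hb1')
  have r1 : (g * c (k - 1))⁻¹ * c' (k - 1) ∈ P.B := by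
    have e3 : g * c (k - 1) = c' 0 * b1' * w * b2 := by
      calc g * c (k - 1) = c' 0 * b1' * b1⁻¹ * ((c 0)⁻¹ * c (k - 1)) := by rw [hg]; group
        _ = _ := by rw [e1]; group
    have e4 : c' (k - 1) = c' 0 * b1' * w * b2' := by
      calc c' (k - 1) = c' 0 * ((c' 0)⁻¹ * c' (k - 1)) := by group
        _ = _ := by rw [e2]; group
    have e : (g * c (k - 1))⁻¹ * c' (k - 1) = b2⁻¹ * b2' := by rw [e3, e4]; group
    rw [e]
    exact mul_mem (inv_mem hb2) hb2'
  have s0 : ∀ b, g • D.vt b (c 0) = D.vt b (c' 0) := fun b => by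
    rw [smul_vt, vt_eq]; exact D.B_le_par b r0
  have s1 : ∀ b, g • D.vt b (c (k - 1)) = D.vt b (c' (k - 1)) := fun b => by
    rw [smul_vt, vt_eq]; exact D.B_le_par b r1
  have t : ∀ i, i ≤ k → (p i).1 = (p' i).1 := fun i hi => by rw [tp_path hp i hi, tp_path hp' i hi, h0]
  have f0 : g • p 0 = p' 0 := by
    rw [(hc 0 hk0).1, (hc' 0 hk0).1, s0, h0]
  have f1 : g • p 1 = p' 1 := by
    rw [(hc 0 hk0).2, (hc' 0 hk0).2, s0, h0]
  have f2 : g • p (k - 1) = p' (k - 1) := by
    rw [(hc (k - 1) (by omega)).1, (hc' (k - 1) (by omega)).1, s1, t (k - 1) (by omega)]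
  have f3 : g • p k = p' k := by
    have a1 := (hc (k - 1) (by omega)).2
    have a2 := (hc' (k - 1) (by omega)).2
    have e : k - 1 + 1 = k := by omega
    rw [e] at a1 a2
    rw [a1, a2, s1, t (k - 1) (by omega)]
  refine ⟨g, fun i hi => ?_⟩
  rcases Nat.eq_zero_or_pos i with rfl | hi0
  · exact f0
  rcases Nat.lt_or_ge i k with hik | hik
  · have a1 := pmono (pshift (psmul hp g) 1) (l := k - 2) (by omega)
    have a2 := pmono (pshift hp' 1) (l := k - 2) (by omega)
    have e : 1 + (k - 2) = k - 1 := by omega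
    obtain ⟨-, h3⟩ := path_unique a1 a2 (by simpa using f1) (by rw [e]; exact f2) (by omega)
    have := h3 (i - 1) (by omega)
    have e' : 1 + (i - 1) = i := by omega
    rwa [e'] at this
  · have : i = k := by omega
    subst this
    exact f3

variable (D)

theorem exists_gal (l : ℕ) : ∀ (a : Bool) (x y : G), l ≤ D.n → x⁻¹ * y ∈ C P (D.W a l) →
    ∃ f : ℕ → D.V, IsPath D.adj (l + 1) f ∧ f 0 = D.vt (!a) x ∧ f 1 = D.vt a x ∧
      f l = D.vt (!(xor a (Nat.bodd l))) y ∧ f (l + 1) = D.vt (xor a (Nat.bodd l)) y := by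
  induction l with
  | zero =>
    intro a x y _ h
    rw [W_zero, mem_C_one] at h
    refine ⟨fun j => if j = 0 then D.vt (!a) x else D.vt a x, pone ⟨!a, x, rfl, by rw [Bool.not_not]⟩, rfl, rfl, ?_, ?_⟩
    · simp only [if_true, Nat.bodd_zero, Bool.xor_false]
      exact D.vt_eq.2 (D.B_le_par _ h)
    · simp only [Nat.bodd_zero, Bool.xor_false]
      exact D.vt_eq.2 (D.B_le_par _ h)
  | succ l ih =>
    intro a x y hl h
    rw [W_succ] at h
    obtain ⟨z', hz1, hz2⟩ := exists_of_R_mul (R_mk_iff.2 h)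
    induction z' using QuotientGroup.induction_on with
    | H z =>
    rw [R_mk_iff] at hz1 hz2
    obtain ⟨f, hf, f0, f1, fl, fl1⟩ := ih (!a) z y (by omega) hz2
    rw [Bool.not_not] at f0
    have hxz : D.vt a x = D.vt a z := D.vt_eq.2 (D.mem_par.2 (Or.inr hz1))
    have hb : Nat.bodd (l + 1) = !Nat.bodd l := Nat.bodd_succ l
    have hx : xor a (Nat.bodd (l + 1)) = xor (!a) (Nat.bodd l) := by
      rw [hb]; cases a <;> cases Nat.bodd l <;> rfl
    refine ⟨fun j => if j = 0 then D.vt (!a) x else f (j - 1), pcons hf ?_ ?_, rfl, ?_, ?_, ?_⟩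
    · rw [f0, ← hxz]
      exact ⟨!a, x, rfl, by rw [Bool.not_not]⟩
    · intro _ he
      rw [f1] at he
      have h1 := D.vt_eq.1 he
      have h2 : x⁻¹ * z ∈ D.par !a := by
        have := inv_mem h1
        rwa [mul_inv_rev, inv_inv] at this
      have h3 := D.inf_par (D.mem_par.2 (Or.inr hz1)) h2
      have h4 : C P (1 : G) = C P (D.σ a) := C_eq_of_mem_mem (mem_C_one.2 h3) hz1
      have h5 : D.σ a ∈ C P (1 : G) := h4 ▸ self_mem_C _
      exact not_mem_B (D.mem a) (mem_C_one.1 h5)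
    · show f 0 = D.vt a x
      rw [f0, hxz]
    · show f l = _
      rw [fl, hx]
    · show f (l + 1) = _
      rw [fl1, hx]

theorem exists_path (v w : D.V) : ∃ k, k ≤ D.n ∧ ∃ p : ℕ → D.V, IsPath D.adj k p ∧ p 0 = v ∧ p k = w := by
  obtain ⟨x, hx⟩ := D.exists_vt v
  obtain ⟨y, hy⟩ := D.exists_vt w
  set b := v.1 with hb
  set c := w.1 with hc
  have h2 := D.two_le
  obtain ⟨a, l, hl, hm, hl0, hln⟩ : ∃ a l, l ≤ D.n ∧ x⁻¹ * y ∈ C P (D.W a l) ∧ (l = 0 → a = !b) ∧ (l = D.n → a = b) := by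
    obtain ⟨a, l, hl, hm⟩ := D.exists_W (x⁻¹ * y)
    rcases Nat.eq_zero_or_pos l with rfl | hl0
    · exact ⟨!b, 0, hl, hm, fun _ => rfl, fun h => by omega⟩
    by_cases hln : l = D.n
    · subst hln
      refine ⟨b, D.n, le_rfl, ?_, fun h => by omega, fun _ => rfl⟩
      by_cases hab : a = b
      · rw [← hab]; exact hm
      · have : a = !b := by revert hab; cases a <;> cases b <;> simp
        rw [this] at hm
        rw [D.braid' b]
        exact hm
    · exact ⟨a, l, hl, hm, fun h => by omega, fun h => absurd h hln⟩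
  obtain ⟨f, hf, f0, f1, fl, fl1⟩ := D.exists_gal l a x y hl hm
  have hd : ∃ d, d ≤ 1 ∧ f d = v ∧ (l = 0 → d = 0) ∧ (l = D.n → d = 1) := by
    by_cases hab : a = b
    · refine ⟨1, le_rfl, by rw [f1, hab, ← hx], fun h => ?_, fun _ => rfl⟩
      exfalso
      have := hl0 h
      rw [hab] at this
      cases b <;> simp at this
    · have hb' : b = !a := by revert hab; cases a <;> cases b <;> simp
      refine ⟨0, by omega, by rw [f0, ← hb', ← hx], fun _ => rfl, fun h => absurd (hln h) hab⟩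
  have he : ∃ e, e ≤ 1 ∧ f (l + 1 - e) = w := by
    by_cases hcx : c = xor a (Nat.bodd l)
    · exact ⟨0, by omega, by rw [Nat.sub_zero, fl1, ← hcx, ← hy]⟩
    · have hc' : c = !(xor a (Nat.bodd l)) := by
        revert hcx; cases c <;> cases (xor a (Nat.bodd l)) <;> simp
      exact ⟨1, le_rfl, by rw [Nat.add_sub_cancel, fl, ← hc', ← hy]⟩
  obtain ⟨d, hd1, hd2, hd3, hd4⟩ := hd
  obtain ⟨e, he1, he2⟩ := he
  refine ⟨l + 1 - e - d, by omega, fun j => f (d + j), pmono (pshift hf d) (by omega), ?_, ?_⟩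
  · exact hd2
  · have : d + (l + 1 - e - d) = l + 1 - e := by omega
    dsimp only
    rw [this, he2]

/-! ### neighbours -/

/-- the vertex of type `b` of a chamber -/
def pr (b : Bool) (y : G ⧸ P.B) : D.V := ⟨b, Subgroup.quotientMapOfLE (D.B_le_par b) y⟩

theorem pr_mk (b : Bool) (y : G) : D.pr b (y : G ⧸ P.B) = D.vt b y := rfl

theorem card_nb [Finite G] (v : D.V) : Nat.card {w : D.V // D.adj v w} = q P (D.σ v.1) + 1 := by
  obtain ⟨x, hx⟩ := D.exists_vt v
  set b := v.1 with hb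
  rw [hx]
  have h1 : {w : D.V | D.adj (D.vt b x) w} =
      D.pr (!b) '' (insert (x : G ⧸ P.B) {y | R P (D.σ b) (x : G ⧸ P.B) y}) := by
    ext w
    constructor
    · rintro ⟨b', y, h1, h2⟩
      have hbb : b = b' := congrArg Sigma.fst h1
      subst hbb
      refine ⟨(y : G ⧸ P.B), ?_, by rw [pr_mk]; exact h2.symm⟩
      rcases D.mem_par.1 (D.vt_eq.1 h1) with h3 | h3
      · left
        exact (QuotientGroup.eq.2 h3).symm
      · right
        exact R_mk_iff.2 h3
    · rintro ⟨y', hy, rfl⟩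
      induction y' using QuotientGroup.induction_on with
      | H y =>
      rw [pr_mk]
      refine ⟨b, y, ?_, rfl⟩
      rw [D.vt_eq]
      rcases hy with hy | hy
      · exact D.B_le_par _ (QuotientGroup.eq.1 hy.symm)
      · exact D.mem_par.2 (Or.inr (R_mk_iff.1 hy))
  have h2 : Nat.card {w : D.V // D.adj (D.vt b x) w} = Set.ncard {w : D.V | D.adj (D.vt b x) w} := rfl
  rw [h2, h1, Set.InjOn.ncard_image, Set.ncard_insert_of_notMem, ← card_R (D.σ b) (x : G ⧸ P.B)]
  · rfl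
  · exact R_irrefl (not_mem_B (D.mem b)) _
  · intro y' hy z' hz hyz
    induction y' using QuotientGroup.induction_on with
    | H y =>
    induction z' using QuotientGroup.induction_on with
    | H z =>
    have hin : ∀ u : G, (u : G ⧸ P.B) ∈ insert (x : G ⧸ P.B) {y | R P (D.σ b) (x : G ⧸ P.B) y} →
        x⁻¹ * u ∈ D.par b := by
      intro u hu
      rcases hu with hu | hu
      · exact D.B_le_par _ (QuotientGroup.eq.1 hu.symm)
      · exact D.mem_par.2 (Or.inr (R_mk_iff.1 hu))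
    rw [QuotientGroup.eq]
    rw [pr_mk, pr_mk, D.vt_eq] at hyz
    refine D.inf_par ?_ hyz
    have e : y⁻¹ * z = (x⁻¹ * y)⁻¹ * (x⁻¹ * z) := by group
    rw [e]
    exact mul_mem (inv_mem (hin y hy)) (hin z hz)

theorem mem_stab {b : Bool} {x g : G} : g • D.vt b x = D.vt b x ↔ x⁻¹ * g * x ∈ D.par b := by
  rw [smul_vt, eq_comm, D.vt_eq, mul_assoc]

theorem faithful (hcore : P.B.normalCore = ⊥) {g : G} (h : ∀ v : D.V, g • v = v) : g = 1 := by
  have h1 : g ∈ P.B.normalCore := by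
    intro b
    have h2 : ∀ a, b * g * b⁻¹ ∈ D.par a := by
      intro a
      have := D.mem_stab.1 (h (D.vt a b⁻¹))
      rwa [inv_inv] at this
    exact D.inf_par (h2 true) (h2 !true)
  rw [hcore] at h1
  exact h1

theorem stab_eq (b : Bool) (x : G) :
    MulAction.stabilizer G (D.vt b x) = (P.parabolic {D.σ b}).map (MulAut.conj x).toMonoidHom := by
  ext g
  rw [MulAction.mem_stabilizer_iff, D.mem_stab]
  constructor
  · intro h
    exact ⟨x⁻¹ * g * x, h, by simp only [MulAut.conj_apply, mul_assoc, _root_.MulEquiv.toMonoidHom_eq_coe, _root_.MonoidHom.coe_coe, _root_.mul_inv_cancel_left, _root_.mul_inv_cancel, _root_.mul_one]⟩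
  · rintro ⟨u, hu, rfl⟩
    have e : x⁻¹ * (MulAut.conj x).toMonoidHom u * x = u := by
      simp [MulAut.conj_apply, mul_assoc]
    rw [e]
    exact hu

end Dat

/-- `|B : B ∩ s B s⁻¹| = |B s B / B|` -/
theorem relIndex_eq [Finite G] (s : G) :
    (P.B ⊓ P.B.map (MulAut.conj s).toMonoidHom).relIndex P.B = q P s := by
  have h1 : (P.B ⊓ P.B.map (MulAut.conj s).toMonoidHom).subgroupOf P.B =
      MulAction.stabilizer ↥P.B ((s : G) : G ⧸ P.B) := by
    ext b
    rw [Subgroup.mem_subgroupOf, MulAction.mem_stabilizer_iff]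
    have h2 : b • ((s : G) : G ⧸ P.B) = (((b : G) * s : G) : G ⧸ P.B) := rfl
    rw [h2, eq_comm, QuotientGroup.eq]
    constructor
    · rintro ⟨-, u, hu, hu2⟩
      have hu3 : s * u * s⁻¹ = (b : G) := hu2
      have e : s⁻¹ * ((b : G) * s) = u := by rw [← hu3]; group
      rw [e]
      exact hu
    · intro h
      refine ⟨b.2, s⁻¹ * ((b : G) * s), h, ?_⟩
      show s * (s⁻¹ * ((b : G) * s)) * s⁻¹ = (b : G)
      group
  rw [Subgroup.relIndex, h1, MulAction.index_stabilizer]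
  unfold q
  have h3 : MulAction.orbit ↥P.B ((s : G) : G ⧸ P.B) = {y | R P s ((1 : G) : G ⧸ P.B) y} := by
    ext y
    induction y using QuotientGroup.induction_on with
    | H y =>
    constructor
    · rintro ⟨b, hb⟩
      have hb' : (((b : G) * s : G) : G ⧸ P.B) = (y : G ⧸ P.B) := hb
      refine R_mk_iff.2 ?_
      rw [inv_one, one_mul]
      rw [QuotientGroup.eq] at hb'
      exact mem_C.2 ⟨b, b.2, _, hb', by group⟩
    · intro h
      have h4 := R_mk_iff.1 h
      rw [inv_one, one_mul] at h4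
      obtain ⟨b, hb, b', hb', rfl⟩ := mem_C.1 h4
      refine ⟨⟨b, hb⟩, ?_⟩
      show ((b * s : G) : G ⧸ P.B) = ((b * s * b' : G) : G ⧸ P.B)
      rw [QuotientGroup.eq]
      have e : (b * s)⁻¹ * (b * s * b') = b' := by group
      rw [e]
      exact hb'
  rw [h3]
  rfl

/-- **G1**: the generalized polygon of a (B,N)-pair of rank two. -/
theorem exists_pol {G : Type u} [Group G] [Finite G] (B : BNPair G) (h2 : B.rank = 2) (hirr : B.Irreducible)
    (hcore : B.B.normalCore = ⊥) : ((B.B ⊓ B.N).subgroupOf B.N).index = 6 ∨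
      ∃ (V : Type u) (_ : MulAction G V) (_ : Finite V) (P : Pol G V),
        ((B.B ⊓ B.N).subgroupOf B.N).index = 2 * P.n ∧
        (∀ s ∈ B.S, ∃ b, (B.B ⊓ B.B.map (MulAut.conj s).toMonoidHom).relIndex B.B = P.q b) ∧
        (∀ b, ∃ s ∈ B.S, (B.B ⊓ B.B.map (MulAut.conj s).toMonoidHom).relIndex B.B = P.q b) ∧
        (∃ x y, P.adj x y ∧ P.S x ⊓ P.S y = B.B) ∧
        (∀ v : V, ∃ s ∈ B.S, ∃ g : G, P.S v = (B.parabolic {s}).map (MulAut.conj g).toMonoidHom ∧
          (B.B ⊓ B.B.map (MulAut.conj s).toMonoidHom).relIndex B.B = P.q (P.tp v)) := by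
  obtain ⟨D, hD⟩ := exists_dat B h2
  have hFH := Cfsg.Agent.S1142.result B h2
  rw [hD] at hFH
  have hn2 : D.n ≠ 2 := by
    intro h
    obtain ⟨s, hs, s', hs', hne⟩ := hirr {D.σ true} (Set.singleton_subset_iff.2 (D.mem true)) (Set.singleton_nonempty _)
      ⟨D.σ false, D.mem false, fun h => D.ne h.symm⟩
    have e1 : s = D.σ true := hs
    have e2 : s' = D.σ false := by
      obtain ⟨b, hb⟩ := D.eq_of_mem hs'.1
      cases b
      · exact hb
      · exact absurd hb hs'.2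
    subst e1
    subst e2
    have hb := D.braid true
    rw [h, alt_succ, alt_one, alt_succ, alt_one, Bool.not_true] at hb
    -- `(s t)⁻¹ (t s) ∈ B`
    have hN : (D.σ true * D.σ false)⁻¹ * (D.σ false * D.σ true) ∈ B.N :=
      mul_mem (inv_mem (mul_mem (D.memN true) (D.memN false))) (mul_mem (D.memN false) (D.memN true))
    have h3 := B.conj_mem _ (mul_mem (D.memN true) (D.memN false)) _ ⟨hb, hN⟩
    have e : D.σ true * D.σ false * ((D.σ true * D.σ false)⁻¹ * (D.σ false * D.σ true)) * (D.σ true * D.σ false)⁻¹ =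
        (D.σ true * D.σ false * (D.σ true)⁻¹ * (D.σ false)⁻¹)⁻¹ := by group
    rw [e] at h3
    exact hne (by simpa only [_root_.mul_inv_rev, _root_.inv_inv] using inv_mem h3)
  rw [hD]
  have hcase : D.n = 3 ∨ D.n = 4 ∨ D.n = 6 ∨ D.n = 8 := by
    simp only [Set.mem_insert_iff, Set.mem_singleton_iff] at hFH
    omega
  rcases hcase with h | hcase
  · left; omega
  right
  refine ⟨D.V, inferInstance, inferInstance,
    { n := D.n
      hn := hcase
      q := fun b => q B (D.σ b)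
      two_le := fun b => two_le_q (D.mem b)
      tp := fun v => v.1
      adj := D.adj
      nonempty := ⟨D.vt true 1⟩
      symm := fun h => D.adj_symm h
      tp_adj := fun h => D.adj_tp h
      smul_adj := fun g _ _ h => D.adj_smul g h
      smul_tp := fun _ _ => rfl
      card_nb := fun v => D.card_nb v
      exists_path := fun v w => D.exists_path v w
      path_unique := fun h h' h0 hk hlt => Dat.path_unique h h' h0 hk hlt
      trans := fun hk hp hp' h0 => Dat.trans hk hp hp' h0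
      faithful := fun g h => D.faithful hcore h }, rfl, ?_, ?_, ?_, ?_⟩
  · intro s hs
    obtain ⟨b, rfl⟩ := D.eq_of_mem hs
    exact ⟨b, relIndex_eq _⟩
  · intro b
    exact ⟨D.σ b, D.mem b, relIndex_eq _⟩
  · refine ⟨D.vt true 1, D.vt false 1, ⟨true, 1, rfl, rfl⟩, ?_⟩
    ext g
    constructor
    · rintro ⟨h1, h2⟩
      have h3 := D.mem_stab.1 h1
      have h4 := D.mem_stab.1 h2
      rw [inv_one, one_mul, mul_one] at h3 h4
      exact D.inf_par h3 h4
    · intro h
      refine ⟨D.mem_stab.2 ?_, D.mem_stab.2 ?_⟩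
      · rw [inv_one, one_mul, mul_one]; exact D.B_le_par _ h
      · rw [inv_one, one_mul, mul_one]; exact D.B_le_par _ h
  · intro v
    obtain ⟨x, hx⟩ := D.exists_vt v
    refine ⟨D.σ v.1, D.mem _, x, ?_, relIndex_eq _⟩
    show MulAction.stabilizer G v = _
    conv_lhs => rw [hx]
    exact D.stab_eq _ _

end Cfsg.Agent.H640.Tits.Bn
end

private theorem dce_68ec0f53c169 : _root_.True := by
  try have : _root_.True := by simp only [_root_.Cfsg.Agent.H640.Tits.Bn.Dat.vt.eq_1]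
  try have : _root_.True := by simp only [_root_.Cfsg.Agent.H640.Tits.Bn.Dat.W.eq_1]
  exact _root_.True.intro
end

-- part: H437/Tits/E3Fin
section
set_option linter.all false

/-!
# S3414 [E3]: `st_e3` (helper437, helper482)
-/

set_option autoImplicit false

namespace Cfsg.Agent.H437.Tits

open Cfsg Cfsg.Agent.H873.Tits

universe u v

theorem ex_simple : ExSimple.{u, v} := by
  intro G _ _ V _ _ P F hO h2 p hp hd hd2
  obtain ⟨T, h1, h3, h4, h5, -⟩ := Cfsg.Agent.H482.Tits.exists_simple P F (Cfsg.Agent.H736.Tits.factsE P F) hO h2 hp hd hd2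
  exact ⟨T, h1, h3, h4, h5⟩

/-- **E3** -/
theorem st_e3 (hStar : StStar.{u, v}) (hKA : StKeyAff.{u, v}) (hKN : StKeyNonaff.{u, v})
    (hK0 : StKeyEasy.{u, v}) (hZ : StZstar.{u, v}) (h1c : StTab1c.{v}) (h2 : StTab2.{v}) (hE4 : StE4.{u, v}) :
    StE3.{u, v} :=
  st_e3_of her_two (fun A => Cfsg.Agent.H384.TwoTransMain.main (fun _ _ _ _ => Cfsg.Agent.S0000.result) A) ex_simple
    Cfsg.Agent.OrdDiv.table (fun _ _ _ _ => Cfsg.Agent.S0000.result) hStar hKA hKN hK0 hZ h1c h2 hE4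

end Cfsg.Agent.H437.Tits
end

-- part: H873/Tits/Fin0
section
prune_inst 0x200000080000000000000050000000000000000000000011800502000610000000000048000c000002000000000000000000000000000000000000000000000000000000000000000000001081100000000000000000000000000000041000000000000
set_option linter.all false
open scoped Cfsg.Agent.FastGrp

-- part: H873/Tits/AsmE
section
/-!
# S3414: the end step from its pieces
-/

set_option autoImplicit false

namespace Cfsg.Agent.H873.Tits

universe u v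

theorem ch_comm (n s t : ℕ) : ch n s t = ch n t s := by
  unfold ch
  rw [mul_comm (1 + s) (1 + t)]
  congr 1
  apply Finset.sum_congr rfl
  intro i _
  rw [mul_comm s t]

theorem geo_sum (z : ℕ) (hz : 4 ≤ z) (m : ℕ) : 3 * (∑ i ∈ Finset.range (m + 1), z ^ i) < 4 * z ^ m := by
  induction m with
  | zero => simp
  | succ m ih =>
    rw [Finset.sum_range_succ, mul_add]
    have : 4 * z ^ m ≤ z ^ (m + 1) := by rw [pow_succ, mul_comm]; exact Nat.mul_le_mul_left _ hz
    omega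

/-- `c < 3 (st)^m` -/
theorem ch_lt {n s t : ℕ} (hn : 2 ≤ n) (hs : 2 ≤ s) (ht : 2 ≤ t) : ch n s t < 3 * (s * t) ^ (n / 2) := by
  unfold ch
  obtain ⟨m, hm⟩ : ∃ m, n / 2 = m + 1 := ⟨n / 2 - 1, by omega⟩
  rw [hm]
  have hz : 4 ≤ s * t := Nat.mul_le_mul hs ht
  have h4 := geo_sum (s * t) hz m
  have h2 : 4 * ((1 + s) * (1 + t)) ≤ 9 * (s * t) := by nlinarith only [hs, ht]
  have h5 : 12 * ((1 + s) * (1 + t) * ∑ i ∈ Finset.range (m + 1), (s * t) ^ i) < 36 * (s * t) ^ (m + 1) := by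
    calc 12 * ((1 + s) * (1 + t) * ∑ i ∈ Finset.range (m + 1), (s * t) ^ i)
        = (4 * ((1 + s) * (1 + t))) * (3 * ∑ i ∈ Finset.range (m + 1), (s * t) ^ i) := by ring
      _ ≤ (9 * (s * t)) * (3 * ∑ i ∈ Finset.range (m + 1), (s * t) ^ i) := Nat.mul_le_mul_right _ h2
      _ < (9 * (s * t)) * (4 * (s * t) ^ m) := Nat.mul_lt_mul_of_pos_left h4 (by positivity)
      _ = 36 * (s * t) ^ (m + 1) := by ring
  omega

theorem ch_pos (n s t : ℕ) (hn : 2 ≤ n) : 0 < ch n s t := by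
  unfold ch
  have : 0 < ∑ i ∈ Finset.range (n / 2), (s * t) ^ i := by
    apply Finset.sum_pos'
    · intro i _; exact Nat.zero_le _
    · exact ⟨0, Finset.mem_range.2 (by omega), by simp⟩
  positivity

/-- `ch` is prime to `p` when `s, t` are powers of `p` -/
theorem ch_coprime {n s t p a b : ℕ} (hn : 2 ≤ n) (hp : p.Prime) (ha : 1 ≤ a) (hb : 1 ≤ b) (hs : s = p ^ a) (ht : t = p ^ b) :
    ¬ p ∣ ch n s t := by
  intro h
  unfold ch at h
  have hps : p ∣ s := hs ▸ dvd_pow_self p (by omega)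
  have hpt : p ∣ t := ht ▸ dvd_pow_self p (by omega)
  rcases (hp.dvd_mul).1 h with h | h
  · rcases (hp.dvd_mul).1 h with h | h
    · exact hp.one_lt.ne' (Nat.dvd_one.1 ((Nat.dvd_add_left hps).1 h))
    · exact hp.one_lt.ne' (Nat.dvd_one.1 ((Nat.dvd_add_left hpt).1 h))
  · obtain ⟨m, hm⟩ : ∃ m, n / 2 = m + 1 := ⟨n / 2 - 1, by omega⟩
    rw [hm, Finset.sum_range_succ', pow_zero] at h
    have h2 : p ∣ ∑ i ∈ Finset.range m, (s * t) ^ (i + 1) :=
      Finset.dvd_sum fun i _ => (hps.mul_right t).trans (dvd_pow_self _ (by omega))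
    exact hp.one_lt.ne' (Nat.dvd_one.1 ((Nat.dvd_add_right h2).1 h))

/-- bound for the two point stabilizers -/
theorem two_mul_le_of_TBd {p k T : ℕ} (hp : p.Prime) (hk : 1 ≤ k) (hT : TBd p k T) : 2 * T ≤ (p ^ k) ^ 2 := by
  have h2 := hp.two_le
  have hpow : ∀ j : ℕ, 2 * j ≤ p ^ j := fun j => by
    induction j with
    | zero => simp
    | succ j ih =>
      rcases Nat.eq_zero_or_pos j with rfl | hj
      · simpa using h2
      · rw [pow_succ]
        nlinarith
  rcases hT with h | ⟨f, rfl, h⟩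
  · have h1 : 0 < (p ^ k - 1) * k := by
      have : 2 ≤ p ^ k := le_trans h2 (Nat.le_self_pow (by omega) p)
      exact Nat.mul_pos (by omega) hk
    have h3 := Nat.le_of_dvd h1 h
    have h4 := hpow k
    have h5 : (p ^ k - 1) * (2 * k) ≤ p ^ k * p ^ k := Nat.mul_le_mul (Nat.sub_le _ _) h4
    linarith only [h3, h5]
  · have hf : 1 ≤ f := by omega
    have h1 : 0 < (p ^ (2 * f) - 1) * (2 * f) := by
      have : 2 ≤ p ^ (2 * f) := le_trans h2 (Nat.le_self_pow (by omega) p)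
      exact Nat.mul_pos (by omega) (by omega)
    have h3 := Nat.le_of_dvd h1 h
    have h4 := hpow (2 * f)
    have h5 : (p ^ (2 * f) - 1) * (2 * (2 * f)) ≤ p ^ (2 * f) * p ^ (2 * f) := Nat.mul_le_mul (Nat.sub_le _ _) h4
    have h6 : p ^ (2 * f) * p ^ (2 * f) ≤ (p ^ (3 * f)) ^ 2 := by
      rw [← pow_add, ← pow_mul]
      exact Nat.pow_le_pow_right (by omega) (by omega)
    linarith only [h3, h5, h6]

theorem two_mul_le_of_Spec {p k T : ℕ} (hp : p.Prime) (hk : 1 ≤ k) (hT : Spec p k T) : 2 * T ≤ (p ^ k) ^ 2 := by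
  have h2 := hp.two_le
  rcases hT with ⟨rfl, -, rfl⟩ | ⟨rfl, rfl, h⟩ | ⟨rfl, -, h⟩ | ⟨rfl, rfl, h⟩
  · have : 2 ≤ 2 ^ k := Nat.le_self_pow (by omega) 2
    nlinarith
  · have := Nat.le_of_dvd (by norm_num) h
    norm_num
    omega
  · have := Nat.le_of_dvd (by omega) h
    rw [pow_one]
    have : T ≤ p := by omega
    nlinarith only [h2, this]
  · have := Nat.le_of_dvd (by norm_num) h
    norm_num
    omega

/-- arithmetic of the path transitive case -/
theorem num_path {n s t p a b h M Tx Ty H : ℕ} (hn : 4 ≤ n) (hp : p.Prime) (ha : 1 ≤ a) (hb : 1 ≤ b) (hs : s = p ^ a) (ht : t = p ^ b)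
    (hM : M = ch n s t * (s * t) ^ (n / 2) * h) (hh : h ≤ H) (h0 : 0 < h) (hH : H ≤ Tx * Ty) (hx : 2 * Tx ≤ s ^ 2) (hy : 2 * Ty ≤ t ^ 2) :
    M < p ^ (3 * M.factorization p) := by
  have h2 := hp.two_le
  have hs2 : 2 ≤ s := hs ▸ le_trans h2 (Nat.le_self_pow (by omega) p)
  have ht2 : 2 ≤ t := ht ▸ le_trans h2 (Nat.le_self_pow (by omega) p)
  have hW : (s * t) ^ (n / 2) = p ^ ((a + b) * (n / 2)) := by rw [hs, ht, ← pow_add, ← pow_mul]
  have hch := ch_pos n s t (by omega)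
  have hchlt := ch_lt (n := n) (s := s) (t := t) (by omega) hs2 ht2
  have hcop := ch_coprime (n := n) (by omega) hp ha hb hs ht
  set c := ch n s t with hc
  set e := (a + b) * (n / 2) with he
  have hWpos : 0 < p ^ e := Nat.pow_pos (by omega)
  have hfac : M.factorization p = e + h.factorization p := by
    rw [hM, hW, Nat.factorization_mul (by positivity) (by omega), Nat.factorization_mul (by omega) (by positivity)]
    simp only [Finsupp.coe_add, Pi.add_apply]
    rw [Nat.factorization_eq_zero_of_not_dvd hcop, hp.factorization_pow]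
    simp
  have h4 : (s * t) ^ 2 ≤ p ^ e := by
    rw [← hW]
    exact Nat.pow_le_pow_right (by nlinarith only [hs2, ht2]) (by omega)
  have hhb : 4 * h ≤ p ^ e := by
    calc 4 * h ≤ 4 * (Tx * Ty) := Nat.mul_le_mul_left _ (hh.trans hH)
      _ = (2 * Tx) * (2 * Ty) := by ring
      _ ≤ s ^ 2 * t ^ 2 := Nat.mul_le_mul hx hy
      _ = (s * t) ^ 2 := by ring
      _ ≤ p ^ e := h4
  rw [hfac]
  have hple : 1 ≤ p ^ h.factorization p := Nat.one_le_pow _ _ (by omega)
  calc M = c * p ^ e * h := by rw [hM, hW]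
    _ < p ^ e * p ^ e * p ^ e := by
        have : c * h < p ^ e * p ^ e := by
          have h5 : c * (4 * h) < 3 * p ^ e * p ^ e + 1 := by
            have : c ≤ 3 * p ^ e := by rw [hW] at hchlt; omega
            have := Nat.mul_le_mul this hhb
            omega
          have h6 : 0 < p ^ e * p ^ e := by positivity
          linarith only [h5, h6]
        calc c * p ^ e * h = (c * h) * p ^ e := by ring
          _ < (p ^ e * p ^ e) * p ^ e := Nat.mul_lt_mul_of_pos_right this hWpos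
    _ ≤ p ^ (3 * (e + h.factorization p)) := by
        rw [← pow_add, ← pow_add]
        exact Nat.pow_le_pow_right (by omega) (by omega)

section

variable {G : Type u} [Group G] [Finite G] {V : Type v} [Finite V] [MulAction G V] {P : Pol G V}

omit [Finite V] in
/-- `i_x` is a power of `p` -/
theorem idx_pow (F : Facts P) {p : ℕ} (hP : Powers P p) {v v' : V} (ho : P.Opp v v') : ∃ e, P.idx v v' = p ^ e := by
  have h := F.count_opp ho
  have hd : Nat.card ↥(P.K v ⊓ P.S v') ∣ Nat.card ↥(P.K v) := Subgroup.card_dvd_of_le inf_le_left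
  obtain ⟨c, hc⟩ := hd
  have hpos : 0 < Nat.card ↥(P.K v ⊓ P.S v') := Nat.card_pos
  have h1 : P.idx v v' * c = P.q (P.tp v) ^ (P.n / 2 - 1) * P.q (!P.tp v) ^ (P.n / 2) := by
    apply Nat.eq_of_mul_eq_mul_right hpos
    rw [← h, hc]
    ring
  obtain ⟨a, ha⟩ := hP.2 (P.tp v)
  obtain ⟨b, hb⟩ := hP.2 (!P.tp v)
  rw [ha, hb, ← pow_mul, ← pow_mul, ← pow_add] at h1
  obtain ⟨e, -, he⟩ := (Nat.dvd_prime_pow hP.1).1 (Dvd.intro _ h1)
  exact ⟨e, he⟩

theorem index_eq_of_sup {B T : Subgroup G} [T.Normal] (h : B ⊔ T = ⊤) : B.index = B.relIndex T := by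
  have h1 : T.index = T.relIndex B := by rw [← Subgroup.relIndex_top_right, ← h, Subgroup.relIndex_sup_right]
  have h2 : (T ⊓ B).relIndex B * Nat.card ↥(T ⊓ B) = Nat.card ↥B := by
    rw [mul_comm, ← Subgroup.relIndex_bot_left, ← Subgroup.relIndex_bot_left B]
    exact Subgroup.relIndex_mul_relIndex _ _ _ bot_le inf_le_right
  have h3 : (B ⊓ T).relIndex T * Nat.card ↥(B ⊓ T) = Nat.card ↥T := by
    rw [mul_comm, ← Subgroup.relIndex_bot_left, ← Subgroup.relIndex_bot_left T]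
    exact Subgroup.relIndex_mul_relIndex _ _ _ bot_le inf_le_right
  rw [Subgroup.inf_relIndex_right] at h2 h3
  have h4 : T.index * Nat.card ↥T = Nat.card G := by rw [mul_comm]; exact T.card_mul_index
  have h5 : B.index * Nat.card ↥B = Nat.card G := by rw [mul_comm]; exact B.card_mul_index
  rw [inf_comm] at h3
  have hc : 0 < Nat.card ↥(T ⊓ B) := Nat.card_pos
  have hr : 0 < T.relIndex B := Nat.pos_of_ne_zero (by rw [← h1]; exact Subgroup.index_ne_zero_of_finite)
  rw [← h2, ← h4, ← h3, h1] at h5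
  have h6 : B.index * (T.relIndex B * Nat.card ↥(T ⊓ B)) = B.relIndex T * (T.relIndex B * Nat.card ↥(T ⊓ B)) := by
    rw [h5]; ring
  exact Nat.eq_of_mul_eq_mul_right (Nat.mul_pos hr hc) h6

theorem one_le_of_pow {p k q : ℕ} (hq : 2 ≤ q) (h : q = p ^ k) : 1 ≤ k := by
  rcases Nat.eq_zero_or_pos k with rfl | hk
  · rw [pow_zero] at h; omega
  · exact hk

theorem loc_at (hLoc : StLoc.{v}) (F : Facts P) {p : ℕ} (hA : CaseA P p) (hP : Powers P p) {v v' y z : V} (ho : P.Opp v v')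
    (hy : P.adj v y) (hz : P.adj v z) (hyz : y ≠ z) {k : ℕ} (hk : P.q (P.tp v) = p ^ k) :
    ((2 ≤ k ∨ 5 ≤ p) ∧ SimpTwo (P.L' v v') ∧ TBd p k (P.T2 v y z)) ∨ Spec p k (P.T2 v y z) := by
  obtain ⟨Q, hQ⟩ := lq F hA hy hz hyz
  have := hLoc (P.L v) (P.L' v v') _ p k _ _ Q hQ (twoTr_L' F ho) L'_le_L hk (idx_pow F hP ho)
  rwa [← T2_eq] at this

end

theorem st_end_of (hOut : StOut.{u}) (hPath : StPath.{u, v}) (hLoc : StLoc.{v}) (hNum : StNumE) (hSmall : StSmall.{u}) :
    StEnd.{u, v} := by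
  intro G _ _ V _ _ P F FE N p hA hP T _ _ hna hC htr
  obtain ⟨hsol, hidx, hout⟩ := hOut T hna hC
  have hp := hP.1
  have hn4 : 4 ≤ P.n := by have := P.hn; omega
  have hbd : ∀ {v v' y z : V}, P.Opp v v' → P.adj v y → P.adj v z → y ≠ z → 2 * P.T2 v y z ≤ P.q (P.tp v) ^ 2 := by
    intro v v' y z ho hy hz hyz
    obtain ⟨k, hk⟩ := hP.2 (P.tp v)
    have hk1 := one_le_of_pow (P.two_le _) hk
    rw [hk]
    rcases loc_at hLoc F hA hP ho hy hz hyz hk with ⟨-, -, h⟩ | h
    · exact two_mul_le_of_TBd hp hk1 h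
    · exact two_mul_le_of_Spec hp hk1 h
  by_cases hS : ∀ v v' : V, P.Opp v v' → SimpTwo (P.L' v v')
  · -- path transitive
    obtain ⟨x⟩ := P.nonempty
    obtain ⟨pp, hpp, hp0⟩ := F.extend (k := 0) (p := fun _ => x) (Nat.zero_le _) ⟨fun i hi => absurd hi (by omega), fun i hi => absurd hi (by omega)⟩
    have h01 : P.adj (pp 0) (pp 1) := hpp.1 0 (by omega)
    have h12 : P.adj (pp 1) (pp 2) := hpp.1 1 (by omega)
    have h23 : P.adj (pp 2) (pp 3) := hpp.1 2 (by omega)
    have h02 : pp 2 ≠ pp 0 := hpp.2 0 (by omega)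
    have h13 : pp 3 ≠ pp 1 := hpp.2 1 (by omega)
    have hT := hPath P F FE T hsol hS hpp (htr h01)
    obtain ⟨v1, hv1⟩ := F.exists_opp (pp 1)
    obtain ⟨v2, hv2⟩ := F.exists_opp (pp 2)
    have b1 := hbd hv1 (P.symm h01) h12 (Ne.symm h02)
    have b2 := hbd hv2 (P.symm h12) h23 (Ne.symm h13)
    have htp : P.tp (pp 2) = !P.tp (pp 1) := P.tp_adj h12
    obtain ⟨a, ha⟩ := hP.2 (P.tp (pp 1))
    obtain ⟨b, hb⟩ := hP.2 (!P.tp (pp 1))
    rw [htp] at b2
    have hch : ch P.n (P.q true) (P.q false) * (P.q true * P.q false) ^ (P.n / 2) =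
        ch P.n (P.q (P.tp (pp 1))) (P.q (!P.tp (pp 1))) * (P.q (P.tp (pp 1)) * P.q (!P.tp (pp 1))) ^ (P.n / 2) := by
      cases P.tp (pp 1)
      · rw [Bool.not_false, ch_comm, mul_comm (P.q true)]
      · rw [Bool.not_true]
    rw [hch] at hT
    refine num_path (n := P.n) (s := P.q (P.tp (pp 1))) (t := P.q (!P.tp (pp 1))) (a := a) (b := b) (h := Nat.card ↥(T ⊓ P.H pp))
      (Tx := P.T2 (pp 1) (pp 0) (pp 2)) (Ty := P.T2 (pp 2) (pp 1) (pp 3)) (H := Nat.card ↥(P.H pp)) hn4 hp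
      (one_le_of_pow (P.two_le _) ha) (one_le_of_pow (P.two_le _) hb) ha hb hT (Subgroup.card_le_of_le inf_le_right) Nat.card_pos
      (Nat.le_of_dvd (Nat.mul_pos Nat.card_pos Nat.card_pos) (FE.card_H hpp)) b1 b2
  · -- a special type
    push Not at hS
    obtain ⟨v, v', ho, hnS⟩ := hS
    obtain ⟨y, hy, -⟩ := exists_other (P := P) (x := v) (y := v)
    obtain ⟨w, hw, hvw⟩ := exists_other (P := P) (x := y) (y := v)
    obtain ⟨pp, hpp, h1, h2, h3⟩ := F.extend3 hy hw hvw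
    have h01 : P.adj (pp 0) v := h1 ▸ hpp.1 0 (by omega)
    have h02 : y ≠ pp 0 := h2 ▸ hpp.2 0 (by omega)
    obtain ⟨y', hy'⟩ := F.exists_opp y
    obtain ⟨a, ha⟩ := hP.2 (P.tp v)
    obtain ⟨b, hb⟩ := hP.2 (P.tp y)
    have htp : P.tp y = !P.tp v := P.tp_adj hy
    have hSpec : Spec p a (P.T2 v (pp 0) y) := by
      rcases loc_at hLoc F hA hP ho (P.symm h01) hy (Ne.symm h02) ha with ⟨-, h, -⟩ | h
      · exact absurd h hnS
      · exact h
    have hy2 : Spec p b (P.T2 y v w) ∨ ((2 ≤ b ∨ 5 ≤ p) ∧ TBd p b (P.T2 y v w)) := by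
      rcases loc_at hLoc F hA hP hy' (P.symm hy) hw hvw hb with ⟨h, -, h'⟩ | h
      · exact Or.inr ⟨h, h'⟩
      · exact Or.inl h
    have hcc : ch P.n (P.q true) (P.q false) = ch P.n (p ^ a) (p ^ b) := by
      rw [← ha, ← hb, htp]
      cases P.tp v
      · rw [Bool.not_false, ch_comm]
      · rw [Bool.not_true]
    have hst : P.q true * P.q false = p ^ a * p ^ b := by
      rw [← ha, ← hb, htp]
      cases P.tp v
      · rw [Bool.not_false, mul_comm]
      · rw [Bool.not_true]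
    have hcard : Nat.card G = ch P.n (p ^ a) (p ^ b) * (p ^ a * p ^ b) ^ (P.n / 2) * Nat.card ↥(P.H pp) := by
      rw [FE.card_G hpp, hcc, hst]
    have ha1 := one_le_of_pow (P.two_le _) ha
    have hb1 := one_le_of_pow (P.two_le _) hb
    have hST : ∀ z w : V, P.adj z w → P.S z ⊔ T = ⊤ := fun z w hzw => top_unique (htr hzw ▸ sup_le_sup_right inf_le_left T)
    have hSne : ∀ z : V, P.S z ≠ ⊤ := by
      intro z hz
      have h4 := FE.index_S z
      rw [hz, Subgroup.index_top, one_mul] at h4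
      obtain ⟨m, hm⟩ : ∃ m, P.n / 2 = m + 1 := ⟨P.n / 2 - 1, by omega⟩
      have h5 : 1 ≤ ∑ i ∈ Finset.range (P.n / 2), (P.q true * P.q false) ^ i := by
        rw [hm, Finset.sum_range_succ', pow_zero]
        omega
      have h6 := P.two_le true
      have h7 := P.two_le false
      unfold ch at h4
      have h8 : (1 + P.q true) * (1 + P.q false) ≤ 1 + P.q (P.tp z) := by
        rw [h4]
        exact Nat.le_mul_of_pos_right _ h5
      cases hz' : P.tp z <;> rw [hz'] at h8 <;> nlinarith only [h6, h8, h7]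
    set M := Nat.card ↥T with hMdef
    have hM0 : 0 < M := Nat.card_pos
    have hMG : T.index * M = Nat.card G := by rw [mul_comm]; exact T.card_mul_index
    set! u := p ^ (T.index).factorization p with hu
    have hi0 : T.index ≠ 0 := Subgroup.index_ne_zero_of_finite
    have hule : u ≤ T.index := Nat.ordProj_le p hi0
    have h0 : 0 < Nat.card ↥(P.H pp) := Nat.card_pos
    have hc0 := ch_pos P.n (p ^ a) (p ^ b) (by omega)
    have hcop := ch_coprime (n := P.n) (s := p ^ a) (t := p ^ b) (by omega) hp ha1 hb1 rfl rfl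
    have hW : (p ^ a * p ^ b) ^ (P.n / 2) = p ^ ((a + b) * (P.n / 2)) := by rw [← pow_add, ← pow_mul]
    have hueq : u * p ^ M.factorization p = (p ^ a * p ^ b) ^ (P.n / 2) * p ^ (Nat.card ↥(P.H pp)).factorization p := by
      have h4 : (T.index * M).factorization p = (T.index).factorization p + M.factorization p := by
        rw [Nat.factorization_mul hi0 hM0.ne']; rfl
      have hWpos : 0 < p ^ ((a + b) * (P.n / 2)) := Nat.pow_pos hp.pos
      have h5 : (Nat.card G).factorization p = (a + b) * (P.n / 2) + (Nat.card ↥(P.H pp)).factorization p := by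
        rw [hcard, hW, Nat.factorization_mul (by (clear * - hc0 hWpos; positivity)) (by omega), Nat.factorization_mul (by omega) (by (clear * - hWpos; positivity))]
        simp only [Finsupp.coe_add, Pi.add_apply]
        rw [Nat.factorization_eq_zero_of_not_dvd hcop, hp.factorization_pow]
        simp only [_root_.Finsupp.single_mul, _root_.Finsupp.single_add, _root_.Finsupp.mul_apply, _root_.Finsupp.coe_add, _root_.Pi.add_apply, _root_.Finsupp.single_eq_same, _root_.zero_add, _root_.Nat.add_left_cancel_iff]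
      rw [hu, ← pow_add, ← h4, hMG, h5, hW, ← pow_add]
    have h2u : 2 ^ u ≤ 2 ^ Nat.card (Cfsg.Out ↥T) := Nat.pow_le_pow_right (by norm_num) (hule.trans hidx)
    have hone : ∀ z : V, ∀ c : ℕ, P.q (P.tp z) = p ^ c → (∃ w, P.adj z w) → 2 ^ u * (1 + p ^ c) ^ 3 ≤ ch P.n (p ^ a) (p ^ b) ^ 3 := by
      rintro z c hc ⟨w, hzw⟩
      have h4 := hout (P.S z) (hST z w hzw) (hSne z)
      calc 2 ^ u * (1 + p ^ c) ^ 3 ≤ (P.S z).index ^ 3 * (1 + p ^ c) ^ 3 := Nat.mul_le_mul_right _ (h2u.trans h4)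
        _ = ((P.S z).index * (1 + p ^ c)) ^ 3 := by rw [mul_pow]
        _ = ch P.n (p ^ a) (p ^ b) ^ 3 := by rw [← hc, FE.index_S, hcc]
    have hx3 := hone v a ha ⟨y, hy⟩
    have hy3 := hone y b hb ⟨w, hw⟩
    have hMd : M ∣ ch P.n (p ^ a) (p ^ b) * (p ^ a * p ^ b) ^ (P.n / 2) * Nat.card ↥(P.H pp) := by
      rw [← hcard]; exact Subgroup.card_subgroup_dvd_card T
    have hHd : Nat.card ↥(P.H pp) ∣ P.T2 v (pp 0) y * P.T2 y v w := by
      have := FE.card_H hpp
      rwa [h1, h2, h3] at this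
    have hfin := hNum (n := P.n) (p := p) (a := a) (b := b) (h := Nat.card ↥(P.H pp)) (M := M) (u := u) P.hn hp ha1 hb1
      (fun h => by
        have h4 := N.hig48 h (P.tp v)
        have h5 := N.hig48 h (P.tp y)
        rw [← htp, ha, hb] at h4
        rw [show (!P.tp y) = P.tp v by rw [htp, Bool.not_not], ha, hb] at h5
        exact ⟨h4, h5⟩)
      (fun h => by
        have h4 := N.hig6 h (P.tp v)
        have h5 := N.hig6 h (P.tp y)
        rw [← htp, ha, hb] at h4
        rw [show (!P.tp y) = P.tp v by rw [htp, Bool.not_not], ha, hb] at h5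
        exact ⟨h4, h5⟩)
      (fun h => by
        have h4 := N.fh4 h
        rw [← ha, ← hb, htp]
        cases hv : P.tp v
        · rw [Bool.not_false, add_comm]
          convert h4 using 1
          ring
        · rw [Bool.not_true]; exact h4)
      (fun h => by
        obtain ⟨g, hg, -⟩ := N.fh6 h
        exact ⟨g, by rw [← hst, hg]⟩)
      (fun h => by
        obtain ⟨g, hg, -⟩ := N.fh8 h
        exact ⟨g, by rw [mul_assoc, ← hst, ← mul_assoc, hg]⟩)
      hSpec hy2 hHd Nat.card_pos Nat.card_pos hM0 hx3 hy3 hMd hueq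
    rcases hfin with h | ⟨x, hx, hxn, hxp, hxh, hxst⟩
    · exact h
    · have hchx : ch x.1 x.2.1 x.2.2.1 = ch P.n (p ^ a) (p ^ b) := by
        rw [hxn]
        rcases hxst with ⟨e1, e2⟩ | ⟨e1, e2⟩
        · rw [e1, e2]
        · rw [e1, e2, ch_comm]
      have hstx : x.2.1 * x.2.2.1 = p ^ a * p ^ b := by
        rcases hxst with ⟨e1, e2⟩ | ⟨e1, e2⟩
        · rw [e1, e2]
        · rw [e1, e2, mul_comm]
      have hcd : ch P.n (p ^ a) (p ^ b) ∣ M := by
        rw [← hcc, ← FE.index_B hy]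
        rw [index_eq_of_sup (htr hy)]
        exact Subgroup.relIndex_dvd_card _ _
      have hres := hSmall ↥T hna x hx u (by rw [hchx]; exact hcd)
        (by rw [hchx, hstx, hxn]; exact hMd.trans (Nat.mul_dvd_mul_left _ hxh))
        (by
          rw [hstx, hxn, hxp, hueq]
          exact Nat.le_mul_of_pos_right _ (Nat.pow_pos hp.pos))
        (hule.trans hidx)
        (by
          rw [hchx]
          rcases hxst with ⟨e1, e2⟩ | ⟨e1, e2⟩
          · rw [e1]; exact hx3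
          · rw [e1]; exact hy3)
        (by
          rw [hchx]
          rcases hxst with ⟨e1, e2⟩ | ⟨e1, e2⟩
          · rw [e2]; exact hy3
          · rw [e2]; exact hx3)
      rw [hxp] at hres
      exact hres

end Cfsg.Agent.H873.Tits
end

-- part: H803/RK/Grp
section
/-!
# S3414, key lemma K2: pure group theory (helper803)

* `core_mem` : the computation with `τ`;
* `relIndex_le` : the index estimate;
* `exists_swap_normalizing` : the Frattini choice of `τ`;
* `le_of_map_le` : an `r`-group in `K w · Q` lies in `K w`.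
-/

set_option autoImplicit false

namespace Cfsg.Agent.H803.RK

open Subgroup

section core

variable {A : Type*} [Group A]

theorem pow_half {a : A} {H : Subgroup A} (h2 : a * a ∈ H) (ho : Odd (orderOf a)) : a ∈ H := by
  obtain ⟨k, hk⟩ := ho
  have h1 : a ^ (2 * k + 1) = 1 := by rw [← hk, pow_orderOf_eq_one]
  have h3 : (a * a) ^ k ∈ H := H.pow_mem h2 k
  have h4 : a * (a * a) ^ k = 1 := by
    rw [← pow_two, ← pow_mul, ← pow_succ']
    exact h1
  have h5 : a = ((a * a) ^ k)⁻¹ := eq_inv_of_mul_eq_one_left h4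
  rw [h5]
  exact H.inv_mem h3

/-- the computation with `τ`: if `ρ^τ = ρ j z` then `ρ ∈ K w` -/
theorem core_mem {N Kx Kw Y : Subgroup A} (hxN : Kx ⊓ N = ⊥) (hYN : ∀ a ∈ Y, ∀ n ∈ N, a * n = n * a) (hxY : Kx ≤ Y)
    {τ ρ j z : A} (hτ : τ ∈ Y) (h1 : ∀ a ∈ Kx, τ * a * τ⁻¹ ∈ Kw) (h2 : ∀ a ∈ Kw, τ * a * τ⁻¹ ∈ Kx) (hρ : ρ ∈ Kx)
    (hjx : j ∈ Kx) (hjw : j ∈ Kw) (hz : z ∈ N) (h : τ * ρ * τ⁻¹ = ρ * j * z)
    (hodd : Odd (orderOf ρ) ∨ ∀ n ∈ N, n * n = 1 → n = 1) : ρ ∈ Kw := by
  have hz2 : z * z = 1 := by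
    have hj' : τ * j * τ⁻¹ ∈ Kx := h2 j hjw
    have e1 : τ * (τ * ρ * τ⁻¹) * τ⁻¹ = ρ * j * (τ * j * τ⁻¹) * (z * z) := by
      have ez : τ * z = z * τ := hYN τ hτ z hz
      have e3 : τ * z * τ⁻¹ = z := by rw [ez, mul_inv_cancel_right]
      have e4 : z * (τ * j * τ⁻¹) = (τ * j * τ⁻¹) * z := (hYN _ (hxY hj') z hz).symm
      calc τ * (τ * ρ * τ⁻¹) * τ⁻¹ = τ * (ρ * j * z) * τ⁻¹ := by rw [h]
        _ = (τ * ρ * τ⁻¹) * (τ * j * τ⁻¹) * (τ * z * τ⁻¹) := by group
        _ = ρ * j * z * (τ * j * τ⁻¹) * z := by rw [h, e3]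
        _ = ρ * j * (z * (τ * j * τ⁻¹)) * z := by group
        _ = _ := by rw [e4]; group
    have h3 : z * z ∈ Kx := by
      have e2 : z * z = (ρ * j * (τ * j * τ⁻¹))⁻¹ * (τ * (τ * ρ * τ⁻¹) * τ⁻¹) := by rw [e1, inv_mul_cancel_left]
      rw [e2]
      exact mul_mem (inv_mem (mul_mem (mul_mem hρ hjx) hj')) (h2 _ (h1 _ hρ))
    have h4 : z * z ∈ Kx ⊓ N := ⟨h3, mul_mem hz hz⟩
    rw [hxN, Subgroup.mem_bot] at h4
    exact h4
  have hk : τ * ρ * τ⁻¹ * j⁻¹ ∈ Kw := mul_mem (h1 _ hρ) (inv_mem hjw)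
  have ejz : j * z = z * j := hYN _ (hxY hjx) z hz
  have eρ : ρ = τ * ρ * τ⁻¹ * j⁻¹ * z⁻¹ := by
    have e5 : ρ * j * z * j⁻¹ * z⁻¹ = ρ := by rw [mul_assoc ρ j z, ejz]; group
    rw [h, e5]
  rcases hodd with ho | ho
  · apply pow_half _ ho
    have ezρ : ρ * z = z * ρ := hYN _ (hxY hρ) z hz
    have e6 : τ * ρ * τ⁻¹ * j⁻¹ = ρ * z := by
      calc τ * ρ * τ⁻¹ * j⁻¹ = τ * ρ * τ⁻¹ * j⁻¹ * z⁻¹ * z := by group
        _ = ρ * z := by rw [← eρ]
    have e7 : ρ * ρ = (τ * ρ * τ⁻¹ * j⁻¹) * (τ * ρ * τ⁻¹ * j⁻¹) := by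
      rw [e6]
      calc ρ * ρ = ρ * ρ * (z * z) := by rw [hz2, mul_one]
        _ = ρ * (ρ * z) * z := by group
        _ = ρ * (z * ρ) * z := by rw [ezρ]
        _ = ρ * z * (ρ * z) := by group
    rw [e7]
    exact mul_mem hk hk
  · have hz1 := ho z hz hz2
    rw [eρ, hz1, inv_one, mul_one]
    exact hk

end core

section index

variable {M L : Type*} [Group M] [Group L] [Finite L]

/-- the index estimate -/
theorem relIndex_le (φ : M →* L) (R Kw : Subgroup M) (τ : L) (Q0 J : Subgroup L)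
    (hf : ∀ ρ ∈ R, τ * φ ρ * τ⁻¹ * (φ ρ)⁻¹ ∈ Q0) (hJ : ∀ ρ ∈ R, ∀ j ∈ J, φ ρ * j * (φ ρ)⁻¹ ∈ J)
    (hkey : ∀ ρ ∈ R, (φ ρ)⁻¹ * (τ * φ ρ * τ⁻¹) ∈ J → ρ ∈ Kw) : Kw.relIndex R ≤ J.relIndex Q0 := by
  let h : ↥R → ↥Q0 := fun ρ => ⟨τ * φ ρ * τ⁻¹ * (φ ρ)⁻¹, hf ρ ρ.2⟩
  have hinj : ∀ a b : ↥R, ((h a)⁻¹ * h b : ↥Q0) ∈ J.subgroupOf Q0 → a⁻¹ * b ∈ Kw.subgroupOf R := by
    intro a b hab
    rw [mem_subgroupOf] at hab ⊢
    refine hkey _ (a⁻¹ * b).2 ?_
    have h1 := hJ (b : M)⁻¹ (inv_mem b.2) _ hab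
    have e : (φ ((a⁻¹ * b : ↥R) : M))⁻¹ * (τ * φ ((a⁻¹ * b : ↥R) : M) * τ⁻¹) =
        φ (b : M)⁻¹ * (((h a)⁻¹ * h b : ↥Q0) : L) * (φ (b : M)⁻¹)⁻¹ := by
      simp only [h, Subgroup.coe_mul, Subgroup.coe_inv, map_mul, map_inv]
      group
    rw [e]
    exact h1
  let f : (↥R ⧸ Kw.subgroupOf R) → (↥Q0 ⧸ J.subgroupOf Q0) := fun q => (h q.out : ↥Q0)
  have hfi : Function.Injective f := by
    intro q q' hqq
    have h1 := hinj _ _ (QuotientGroup.eq.1 hqq)
    rw [← Quotient.out_eq q, ← Quotient.out_eq q']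
    exact QuotientGroup.eq.2 h1
  exact Nat.card_le_card_of_injective f hfi

end index

section rgroup

variable {M : Type*} [Group M] [Finite M]

omit [Finite M] in
/-- a subgroup of `K Q` whose order is prime to `p` lies in `K` when `Q` is a `p`-group normalizing `K` -/
theorem le_of_le_sup {p r : ℕ} [hp : Fact p.Prime] [hr : Fact r.Prime] (hrp : r ≠ p) {R K Q : Subgroup M} (hR : IsPGroup r ↥R)
    (hQ : IsPGroup p ↥Q) (hQn : Q.Normal) (hQK : ∀ q ∈ Q, ∀ k ∈ K, q * k * q⁻¹ ∈ K) (h : R ≤ K ⊔ Q) : R ≤ K := by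
  intro ρ hρ
  obtain ⟨k, hk, q, hq, e⟩ := Subgroup.mem_sup_of_normal_right.1 (h hρ)
  have h1 : ∀ n : ℕ, ∃ k' ∈ K, ρ ^ n = k' * q ^ n := by
    intro n
    induction n with
    | zero => exact ⟨1, one_mem _, by rw [pow_zero, pow_zero, one_mul]⟩
    | succ n ih =>
      obtain ⟨k', hk', e'⟩ := ih
      refine ⟨k' * (q ^ n * k * (q ^ n)⁻¹), mul_mem hk' (hQK _ (Q.pow_mem hq n) _ hk), ?_⟩
      rw [pow_succ, e', ← e, pow_succ]
      group
  obtain ⟨b, hb⟩ := hQ ⟨q, hq⟩
  have hb' : q ^ p ^ b = 1 := congrArg Subtype.val hb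
  obtain ⟨k', hk', e'⟩ := h1 (p ^ b)
  rw [hb', mul_one] at e'
  obtain ⟨a, ha⟩ := hR ⟨ρ, hρ⟩
  have ha' : ρ ^ r ^ a = 1 := congrArg Subtype.val ha
  have hcop : (orderOf ρ).Coprime (p ^ b) := by
    refine Nat.Coprime.coprime_dvd_left (orderOf_dvd_of_pow_eq_one ha') ?_
    exact Nat.Coprime.pow _ _ ((Nat.coprime_primes hr.out hp.out).2 hrp)
  have h2 : ρ ∈ Subgroup.zpowers (ρ ^ p ^ b) := mem_zpowers_pow_iff.2 hcop.symm
  rw [e'] at h2
  exact (Subgroup.zpowers_le.2 hk') h2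

end rgroup

section frattini

variable {L : Type*} [Group L]

theorem mem_sup_of_norm {A B : Subgroup L} (h : ∀ b ∈ B, ∀ a ∈ A, b * a * b⁻¹ ∈ A) {x : L} (hx : x ∈ A ⊔ B) :
    ∃ b ∈ B, ∃ a ∈ A, b * a = x := by
  let W : Subgroup L :=
    { carrier := {x | ∃ b ∈ B, ∃ a ∈ A, b * a = x}
      one_mem' := ⟨1, one_mem _, 1, one_mem _, one_mul _⟩
      mul_mem' := by
        rintro _ _ ⟨b, hb, a, ha, rfl⟩ ⟨b', hb', a', ha', rfl⟩
        refine ⟨b * b', mul_mem hb hb', b'⁻¹ * a * b' * a', mul_mem ?_ ha', by group⟩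
        have := h b'⁻¹ (inv_mem hb') a ha
        rwa [inv_inv] at this
      inv_mem' := by
        rintro _ ⟨b, hb, a, ha, rfl⟩
        exact ⟨b⁻¹, inv_mem hb, b * a⁻¹ * b⁻¹, h b hb _ (inv_mem ha), by group⟩ }
  have h1 : A ⊔ B ≤ W := sup_le (fun a ha => ⟨1, one_mem _, a, ha, one_mul _⟩) fun b hb => ⟨b, hb, 1, one_mem _, mul_one _⟩
  exact h1 hx

variable [Finite L]

/-- the Frattini choice of `τ` -/
theorem exists_normalizing {r : ℕ} [hr : Fact r.Prime] {S X Q : Subgroup L} (hQS : Q ≤ S)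
    (hQ : Nat.card ↥Q = r ^ (Nat.card ↥S).factorization r) {τ : L} (hτ : τ ∈ X) (hSτ : ∀ s ∈ S, τ * s * τ⁻¹ ∈ S)
    (hX : ∀ s ∈ S, ∀ x ∈ X, s * x * s⁻¹ ∈ X) :
    ∃ s ∈ X ⊓ S, ∀ q ∈ Q, s * τ * q * (s * τ)⁻¹ ∈ Q := by
  have hnorm : ∀ b ∈ Q, ∀ a ∈ X ⊓ S, b * a * b⁻¹ ∈ X ⊓ S := fun b hb a ha =>
    ⟨hX b (hQS hb) a ha.1, S.mul_mem (S.mul_mem (hQS hb) ha.2) (S.inv_mem (hQS hb))⟩
  set! T : Subgroup L := (X ⊓ S) ⊔ Q with hT
  have hTS : T ≤ S := sup_le inf_le_right hQS
  have hQT : Q ≤ T := le_sup_right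
  set! Q2 : Subgroup L := Q.map (MulAut.conj τ).toMonoidHom with hQ2
  have hQ2T : Q2 ≤ T := by
    rintro _ ⟨q, hq, rfl⟩
    have e : (MulAut.conj τ).toMonoidHom q = τ * (q * τ⁻¹ * q⁻¹) * q := by
      simp only [MulEquiv.coe_toMonoidHom, MulAut.conj_apply]
      group
    have h1 : τ * (q * τ⁻¹ * q⁻¹) ∈ X ⊓ S := by
      refine ⟨X.mul_mem hτ (hX q (hQS hq) _ (X.inv_mem hτ)), ?_⟩
      have : τ * (q * τ⁻¹ * q⁻¹) = τ * q * τ⁻¹ * q⁻¹ := by group
      rw [this]
      exact S.mul_mem (hSτ q (hQS hq)) (S.inv_mem (hQS hq))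
    rw [e]
    exact mul_mem (le_sup_left (a := X ⊓ S) h1) (hQT hq)
  have hT0 : Nat.card ↥T ≠ 0 := Nat.card_pos.ne'
  have hS0 : Nat.card ↥S ≠ 0 := Nat.card_pos.ne'
  have hcT : (Nat.card ↥T).factorization r = (Nat.card ↥S).factorization r := by
    apply le_antisymm
    · exact (Nat.factorization_le_iff_dvd hT0 hS0).2 (Subgroup.card_dvd_of_le hTS) r
    · have h1 : r ^ (Nat.card ↥S).factorization r ∣ Nat.card ↥T := by
        rw [← hQ]; exact Subgroup.card_dvd_of_le hQT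
      exact (hr.out.pow_dvd_iff_le_factorization hT0).1 h1
  have hc1 : Nat.card ↥(Q.subgroupOf T) = r ^ (Nat.card ↥T).factorization r := by
    rw [hcT, ← hQ]
    exact Nat.card_congr (Subgroup.subgroupOfEquivOfLe hQT).toEquiv
  have hc2 : Nat.card ↥(Q2.subgroupOf T) = r ^ (Nat.card ↥T).factorization r := by
    rw [hcT, ← hQ, Nat.card_congr (Subgroup.subgroupOfEquivOfLe hQ2T).toEquiv]
    exact (Nat.card_congr (Q.equivMapOfInjective _ (MulAut.conj τ).injective).toEquiv).symm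
  obtain ⟨t, ht⟩ := MulAction.exists_smul_eq ↥T (Sylow.ofCard (Q2.subgroupOf T) hc2) (Sylow.ofCard (Q.subgroupOf T) hc1)
  obtain ⟨b, hb, a, ha, hba⟩ := mem_sup_of_norm hnorm t.2
  refine ⟨a, ha, fun q hq => ?_⟩
  have h1 : (t : L) * (τ * q * τ⁻¹) * (t : L)⁻¹ ∈ Q := by
    have h2 : (⟨τ * q * τ⁻¹, hQ2T ⟨q, hq, rfl⟩⟩ : ↥T) ∈ (Sylow.ofCard (Q2.subgroupOf T) hc2 : Sylow r ↥T) :=
      mem_subgroupOf.2 ⟨q, hq, rfl⟩
    have h3 : t * ⟨τ * q * τ⁻¹, hQ2T ⟨q, hq, rfl⟩⟩ * t⁻¹ ∈
        ((t • Sylow.ofCard (Q2.subgroupOf T) hc2 : Sylow r ↥T) : Subgroup ↥T) := by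
      rw [Sylow.coe_subgroup_smul]
      exact ⟨_, h2, rfl⟩
    rw [ht] at h3
    exact mem_subgroupOf.1 h3
  rw [← hba] at h1
  have h4 : b⁻¹ * (b * a * (τ * q * τ⁻¹) * (b * a)⁻¹) * b ∈ Q := mul_mem (mul_mem (inv_mem hb) h1) hb
  have e : b⁻¹ * (b * a * (τ * q * τ⁻¹) * (b * a)⁻¹) * b = a * τ * q * (a * τ)⁻¹ := by group
  rwa [e] at h4

end frattini

section counting

variable {M : Type*} [Group M] [Finite M]

omit [Finite M] in
theorem card_mul_relIndex {D H : Subgroup M} (h : D ≤ H) : Nat.card ↥D * D.relIndex H = Nat.card ↥H := by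
  have h1 := (D.subgroupOf H).card_mul_index
  rwa [Nat.card_congr (Subgroup.subgroupOfEquivOfLe h).toEquiv] at h1

omit [Finite M] in
/-- the image of a pair `D ≤ H` -/
theorem relIndex_map_dvd {L : Type*} [Group L] (φ : M →* L) {D H : Subgroup M} :
    (D.map φ).relIndex (H.map φ) ∣ D.relIndex H := by
  have h1 : ((D.subgroupOf H).map (φ.subgroupMap H)).index ∣ (D.subgroupOf H).index :=
    Subgroup.index_map_dvd _ (φ.subgroupMap_surjective H)
  refine dvd_trans (Subgroup.index_dvd_of_le ?_) h1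
  rintro _ ⟨g, hg, rfl⟩
  exact mem_subgroupOf.2 ⟨g, hg, rfl⟩

/-- a normal subgroup and an `r`-subgroup -/
theorem relIndex_le_pow {r : ℕ} [hr : Fact r.Prime] {D H Q : Subgroup M} (hn : ∀ h ∈ H, ∀ d ∈ D, h * d * h⁻¹ ∈ D)
    (hQH : Q ≤ H) (hQ : IsPGroup r ↥Q) : D.relIndex Q ≤ r ^ (D.relIndex H).factorization r := by
  have hn' : (D.subgroupOf H).Normal := ⟨fun a ha g => hn g g.2 a ha⟩
  have h1 : D.relIndex Q ∣ D.relIndex H := by
    have h2 : (D.subgroupOf H).relIndex (Q.subgroupOf H) ∣ (D.subgroupOf H).index :=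
      Subgroup.relIndex_dvd_index_of_normal _ _
    rwa [Subgroup.relIndex_subgroupOf hQH] at h2
  obtain ⟨n, hn⟩ := IsPGroup.iff_card.1 hQ
  obtain ⟨k, -, hk⟩ := (Nat.dvd_prime_pow hr.out).1 (hn ▸ Subgroup.relIndex_dvd_card D Q)
  have h0 : D.relIndex H ≠ 0 := (Subgroup.index_ne_zero_of_finite (H := D.subgroupOf H))
  rw [hk] at h1 ⊢
  exact Nat.pow_le_pow_right hr.out.pos ((hr.out.pow_dvd_iff_le_factorization h0).1 h1)

end counting

end Cfsg.Agent.H803.RK
end

-- part: H803/RK/Key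
section
/-!
# S3414, key lemma K2 (helper803)

`st_key_nonaff : StKeyNonaff`.
-/

set_option autoImplicit false
set_option linter.unusedSectionVars false

namespace Cfsg.Agent.H803.RK

open Subgroup Cfsg.Agent.H873.Tits Cfsg.Agent.Lib.Cores

universe u v

section geom

variable {G : Type u} [Group G] {V : Type v} [MulAction G V] {P : Pol G V}

theorem conj_K {g a : G} {u : V} (ha : a ∈ P.K u) : g * a * g⁻¹ ∈ P.K (g • u) := by
  refine ⟨?_, fun w hw => ?_⟩
  · rw [mul_smul, mul_smul, inv_smul_smul, ha.1]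
  · have h1 : P.adj u (g⁻¹ • w) := by
      have := P.smul_adj g⁻¹ hw
      rwa [inv_smul_smul] at this
    rw [mul_smul, mul_smul, ha.2 _ h1, smul_inv_smul]

theorem conj_K' {g a : G} {u : V} (hg : g • u = u) (ha : a ∈ P.K u) : g * a * g⁻¹ ∈ P.K u := by
  have := conj_K (g := g) ha
  rwa [hg] at this

theorem mem_PS {k : ℕ} {p : ℕ → V} {g : G} : g ∈ P.PS k p ↔ ∀ i, i ≤ k → g • p i = p i := by
  unfold Pol.PS
  rw [Subgroup.mem_iInf]
  constructor
  · intro h i hi
    exact h ⟨i, hi⟩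
  · intro h i
    exact h i.1 i.2

theorem smul_path {k : ℕ} {p : ℕ → V} (h : IsPath P.adj k p) (g : G) : IsPath P.adj k (fun i => g • p i) :=
  ⟨fun i hi => P.smul_adj g (h.1 i hi), fun i hi e => h.2 i hi (MulAction.injective g e)⟩

/-- the path through `x, y, w` and the fixed elements -/
theorem exists_good_path (F : Facts P) {x y y' w : V} (hxy : P.adj x y) (hyw : P.adj y w) (hwx : w ≠ x) (ho : P.Opp y y') :
    ∃ p : ℕ → V, IsPath P.adj (P.n + 1) p ∧ p 1 = x ∧ p 2 = y ∧ p 3 = w ∧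
      ∀ g : G, g • y = y → g • y' = y' → g • x = x → g • w = w → g ∈ P.H p := by
  obtain ⟨z1, hz1⟩ := F.proj_exists ho (P.symm hxy)
  obtain ⟨w2, b, hb, hb0, hb1, hb2, hbn⟩ := F.proj_exists ho hyw
  have hz1' := hz1
  obtain ⟨a, ha, ha0, ha1, ha2, han⟩ := hz1'
  have hn : 4 ≤ P.n := by rcases P.hn with h | h | h <;> omega
  let p : ℕ → V := fun i => match i with
    | 0 => z1
    | 1 => x
    | k + 2 => b k
  refine ⟨p, ⟨?_, ?_⟩, rfl, hb0, hb1, ?_⟩
  · intro i hi
    match i, hi with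
    | 0, _ =>
      show P.adj z1 x
      have := ha.1 1 (by omega)
      rw [ha1, ha2] at this
      exact P.symm this
    | 1, _ =>
      show P.adj x (b 0)
      rw [hb0]; exact hxy
    | k + 2, hk =>
      show P.adj (b k) (b (k + 1))
      exact hb.1 k (by omega)
  · intro i hi
    match i, hi with
    | 0, _ =>
      show b 0 ≠ z1
      have := ha.2 0 (by omega)
      rw [ha2, ha0] at this
      rw [hb0]; exact this.symm
    | 1, _ =>
      show b 1 ≠ x
      rw [hb1]; exact hwx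
    | k + 2, hk =>
      show b (k + 2) ≠ b k
      exact hb.2 k (by omega)
  · intro g hgy hgy' hgx hgw
    have hbk : ∀ k, k ≤ P.n → g • b k = b k := by
      intro k hk
      rcases Nat.eq_zero_or_pos k with h0 | hpos
      · rw [h0, hb0, hgy]
      · have h1 : IsPath P.adj (P.n - 1) (fun i => b (i + 1)) :=
          ⟨fun i hi => hb.1 (i + 1) (by omega), fun i hi => hb.2 (i + 1) (by omega)⟩
        have h2 := smul_path h1 g
        have h3 := P.path_unique h2 h1 (by show g • b 1 = b 1; rw [hb1, hgw])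
          (by show g • b (P.n - 1 + 1) = b (P.n - 1 + 1)
              rw [show P.n - 1 + 1 = P.n by omega, hbn, hgy']) (by omega)
        have h4 := h3.2 (k - 1) (by omega)
        rwa [show k - 1 + 1 = k by omega] at h4
    refine mem_PS.2 fun i hi => ?_
    match i, hi with
    | 0, _ => exact F.proj_fix hz1 hgy hgx hgy'
    | 1, _ => exact hgx
    | k + 2, hk => exact hbk k (by omega)

/-- the kernel on the neighbours of `u`, inside `S y` -/
def KM (P : Pol G V) (y u : V) : Subgroup ↥(P.S y) := (P.K u).subgroupOf (P.S y)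

theorem conj_KM {y u : V} {g a : ↥(P.S y)} (ha : a ∈ KM P y u) : g * a * g⁻¹ ∈ KM P y ((g : G) • u) :=
  conj_K (g := (g : G)) ha

theorem conj_KM' {y u : V} {g a : ↥(P.S y)} (hg : (g : G) • u = u) (ha : a ∈ KM P y u) : g * a * g⁻¹ ∈ KM P y u :=
  conj_K' (g := (g : G)) hg ha

theorem KM_normal (y : V) : (KM P y y).Normal := ⟨fun _ ha g => conj_KM' g.2 ha⟩

theorem ker_toPerm (y : V) : (P.toPerm y).ker = KM P y y := by
  ext g
  rw [MonoidHom.mem_ker]
  constructor
  · intro h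
    refine ⟨g.2, fun w hw => ?_⟩
    have h1 := congrArg (fun f : Equiv.Perm {w : V // P.adj y w} => ((f ⟨w, hw⟩ : {w : V // P.adj y w}) : V)) h
    exact h1
  · intro h
    ext w
    exact h.2 w.1 w.2

/-- the join of the `K u`, `u ~ y` -/
def YM (P : Pol G V) (y : V) : Subgroup ↥(P.S y) := ⨆ u : {u : V // P.adj y u}, KM P y u.1

theorem KM_le_YM {y u : V} (h : P.adj y u) : KM P y u ≤ YM P y := le_iSup (fun u : {u : V // P.adj y u} => KM P y u.1) ⟨u, h⟩

theorem conj_YM {y : V} (g a : ↥(P.S y)) (ha : a ∈ YM P y) : g * a * g⁻¹ ∈ YM P y := by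
  have h : YM P y ≤ (YM P y).comap (MulAut.conj g).toMonoidHom := by
    refine iSup_le fun u => ?_
    intro b hb
    rw [Subgroup.mem_comap]
    have h1 := conj_KM (g := g) hb
    have h2 : P.adj y ((g : G) • u.1) := by
      have := P.smul_adj (g : G) u.2
      rwa [show (g : G) • y = y from g.2] at this
    exact KM_le_YM h2 h1
  exact h ha

end geom

section qq

variable {G : Type u} [Group G] [Finite G] {V : Type v} [Finite V] [MulAction G V] {P : Pol G V}

/-- `O_p (K y)` as a subgroup of `S y` -/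
noncomputable def QM (P : Pol G V) (p : ℕ) (y : V) : Subgroup ↥(P.S y) :=
  (Cfsg.pCore p ↥(KM P y y)).map (KM P y y).subtype

theorem QM_le (p : ℕ) (y : V) : QM P p y ≤ KM P y y := Subgroup.map_subtype_le _

theorem QM_normal (p : ℕ) (y : V) : (QM P p y).Normal := by
  have := KM_normal (P := P) y
  have : (Cfsg.pCore p ↥(KM P y y)).Characteristic := pCore_characteristic p
  exact ConjAct.normal_of_characteristic_of_normal

theorem QM_pgroup {p : ℕ} (hp : p.Prime) (y : V) : IsPGroup p ↥(QM P p y) := by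
  have := Fact.mk hp
  have h : IsPGroup p ↥(Cfsg.pCore p ↥(KM P y y)) := pCore_isPGroup p
  exact h.map _

theorem E_le {p : ℕ} (h : CaseA P p) {x y : V} (hxy : P.adj x y) : KM P y x ⊓ KM P y y ≤ QM P p y := by
  have := Fact.mk h.prime
  have h1 : ((KM P y x).subgroupOf (KM P y y)) ≤ Cfsg.pCore p ↥(KM P y y) := by
    apply le_pCore
    · constructor
      intro a ha g
      rw [mem_subgroupOf] at ha ⊢
      refine conj_KM' (g := (g : ↥(P.S y))) ?_ ha
      exact (g.2 : (g : G) ∈ P.K y).2 x (P.symm hxy)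
    · intro a
      have h2 : ((a : ↥(KM P y y)) : G) ∈ P.K x ⊓ P.K y := ⟨a.2, (a : ↥(KM P y y)).2⟩
      obtain ⟨k, hk⟩ := h.pgroup hxy ⟨_, h2⟩
      refine ⟨k, ?_⟩
      have h3 := congrArg Subtype.val hk
      apply Subtype.ext
      apply Subtype.ext
      apply Subtype.ext
      exact h3
  rintro a ⟨ha, ha'⟩
  exact ⟨⟨a, ha'⟩, h1 (mem_subgroupOf.2 ha), rfl⟩

/-- the image of `K u` in `S y / O_p (K y)` -/
noncomputable def Kb (P : Pol G V) (p : ℕ) (y u : V) [(QM P p y).Normal] : Subgroup (↥(P.S y) ⧸ QM P p y) :=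
  (KM P y u).map (QuotientGroup.mk' (QM P p y))

variable {p : ℕ} {y : V} [(QM P p y).Normal]

theorem Kb_inf (h : CaseA P p) {x : V} (hxy : P.adj x y) : Kb P p y x ⊓ Kb P p y y = ⊥ := by
  rw [eq_bot_iff]
  rintro _ ⟨⟨k, hk, rfl⟩, ⟨n, hn, e⟩⟩
  have h1 : k⁻¹ * n ∈ QM P p y := QuotientGroup.eq.1 e.symm
  have h2 : k ∈ KM P y y := by
    have h3 : k⁻¹ * n ∈ KM P y y := QM_le p y h1
    have h4 : k = n * (k⁻¹ * n)⁻¹ := by group
    rw [h4]
    exact mul_mem hn (inv_mem h3)
  exact (QuotientGroup.eq_one_iff k).2 (E_le h hxy ⟨hk, h2⟩)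

theorem Kb_comm (h : CaseA P p) {x : V} (hxy : P.adj x y) (k n : ↥(P.S y)) (hk : k ∈ KM P y x) (hn : n ∈ KM P y y) :
    QuotientGroup.mk' (QM P p y) k * QuotientGroup.mk' (QM P p y) n =
      QuotientGroup.mk' (QM P p y) n * QuotientGroup.mk' (QM P p y) k := by
  rw [← map_mul, ← map_mul]
  apply QuotientGroup.eq.2
  have h1 : (k * n)⁻¹ * (n * k) = n⁻¹ * (k⁻¹ * n * k⁻¹⁻¹) := by group
  have h2 : (k * n)⁻¹ * (n * k) = (n⁻¹ * k⁻¹ * n⁻¹⁻¹) * k := by group
  apply E_le h hxy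
  constructor
  · rw [h2]
    have h3 : n⁻¹ ∈ KM P y y := (KM P y y).inv_mem hn
    exact (KM P y x).mul_mem (conj_KM' (h3.2 x (P.symm hxy)) ((KM P y x).inv_mem hk)) hk
  · rw [h1]
    exact (KM P y y).mul_mem ((KM P y y).inv_mem hn) (conj_KM' (k⁻¹ : ↥(P.S y)).2 hn)

theorem YM_comm (h : CaseA P p) (a : ↥(P.S y) ⧸ QM P p y) (ha : a ∈ (YM P y).map (QuotientGroup.mk' (QM P p y)))
    (n : ↥(P.S y) ⧸ QM P p y) (hn : n ∈ Kb P p y y) : a * n = n * a := by
  have h1 : YM P y ≤ (Subgroup.centralizer ((Kb P p y y : Subgroup _) : Set (↥(P.S y) ⧸ QM P p y))).comap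
      (QuotientGroup.mk' (QM P p y)) := by
    refine iSup_le fun u => ?_
    intro k hk
    rw [Subgroup.mem_comap, Subgroup.mem_centralizer_iff]
    rintro _ ⟨n, hn, rfl⟩
    exact (Kb_comm h (P.symm u.2) k n hk hn).symm
  obtain ⟨k, hk, rfl⟩ := ha
  exact ((Subgroup.mem_centralizer_iff.1 (h1 hk)) n hn).symm

theorem conj_Kb {u u' : V} {g : ↥(P.S y)} (hg : (g : G) • u = u') (a : ↥(P.S y) ⧸ QM P p y) (ha : a ∈ Kb P p y u) :
    QuotientGroup.mk' (QM P p y) g * a * (QuotientGroup.mk' (QM P p y) g)⁻¹ ∈ Kb P p y u' := by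
  obtain ⟨k, hk, rfl⟩ := ha
  rw [← map_inv, ← map_mul, ← map_mul]
  subst hg
  exact ⟨_, conj_KM hk, rfl⟩

/-- the image of `K x ∩ K w` modulo `O_p (K y)`, acting on the neighbours of `y` -/
noncomputable def JJ (P : Pol G V) (p : ℕ) (x y w : V) [(QM P p y).Normal] : Subgroup (Equiv.Perm {w : V // P.adj y w}) :=
  ((Kb P p y x ⊓ Kb P p y w).comap (QuotientGroup.mk' (QM P p y))).map (P.toPerm y)

theorem img_le_JJ {x w : V} : P.img y (P.K x ⊓ P.K w) ≤ JJ P p x y w := by
  rintro _ ⟨g, hg, rfl⟩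
  have hg : (g : G) ∈ P.K x ⊓ P.K w := hg
  exact ⟨g, ⟨⟨g, hg.1, rfl⟩, ⟨g, hg.2, rfl⟩⟩, rfl⟩

/-- the hypothesis of the key computation -/
theorem key_step (h : CaseA P p) {r : ℕ} (hr : r.Prime) (hrp : r ≠ p) {x w : V} (hxy : P.adj x y) (hwy : P.adj w y)
    (hodd : r ≠ 2 ∨ ¬ 2 ∣ Nat.card ↥(P.K y)) {R : Subgroup ↥(P.S y)} (hR : IsPGroup r ↥R) {τ ρ : ↥(P.S y)} (hτ : τ ∈ YM P y)
    (h1 : (τ : G) • x = w) (h2 : (τ : G) • w = x) (hρR : ρ ∈ R) (hρ : ρ ∈ KM P y x)
    (hJ : (P.toPerm y ρ)⁻¹ * (P.toPerm y τ * P.toPerm y ρ * (P.toPerm y τ)⁻¹) ∈ JJ P p x y w) : ρ ∈ KM P y w := by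
  have := Fact.mk hr
  have := Fact.mk h.prime
  obtain ⟨g, hg, e⟩ := hJ
  have h3 : g⁻¹ * (ρ⁻¹ * (τ * ρ * τ⁻¹)) ∈ KM P y y := by
    rw [← ker_toPerm, MonoidHom.mem_ker]
    simp only [map_mul, map_inv]
    rw [e]
    simp only [mul_inv_rev, inv_inv]
    group
  set β := QuotientGroup.mk' (QM P p y) with hβ
  have h4 : β ρ ∈ Kb P p y w := by
    refine core_mem (N := Kb P p y y) (Kx := Kb P p y x) (Kw := Kb P p y w) (Y := (YM P y).map β) (Kb_inf h hxy)
      (YM_comm h) (Subgroup.map_mono (KM_le_YM (P.symm hxy))) (τ := β τ) (j := β g)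
      (z := β (g⁻¹ * (ρ⁻¹ * (τ * ρ * τ⁻¹)))) ⟨τ, hτ, rfl⟩ (fun a ha => conj_Kb h1 a ha) (fun a ha => conj_Kb h2 a ha)
      ⟨ρ, hρ, rfl⟩ hg.1 hg.2 ⟨_, h3, rfl⟩ ?_ ?_
    · rw [← map_inv, ← map_mul, ← map_mul, ← map_mul, ← map_mul]
      congr 1
      group
    · by_cases hr2 : r = 2
      · right
        intro n hn hnn
        have hc : ¬ 2 ∣ Nat.card ↥(P.K y) := hodd.resolve_left (fun h => h hr2)
        have h5 : Nat.card ↥(KM P y y) = Nat.card ↥(P.K y) :=
          Nat.card_congr (Subgroup.subgroupOfEquivOfLe (P.K_le_S y)).toEquiv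
        have h6 : orderOf n ∣ 2 := orderOf_dvd_of_pow_eq_one (by rw [pow_two, hnn])
        have h7 : orderOf n ∣ Nat.card ↥(KM P y y) := by
          have h8 : Nat.card ↥(Kb P p y y) ∣ Nat.card ↥(KM P y y) := Subgroup.card_map_dvd _ _
          refine dvd_trans ?_ h8
          exact (Subgroup.orderOf_dvd_natCard _ hn)
        rcases (Nat.dvd_prime Nat.prime_two).1 h6 with h9 | h9
        · exact orderOf_eq_one_iff.1 h9
        · rw [h9, h5] at h7
          exact absurd h7 hc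
      · left
        obtain ⟨k, hk⟩ := hR ⟨ρ, hρR⟩
        have hk' : ρ ^ r ^ k = 1 := congrArg Subtype.val hk
        have h6 : orderOf (β ρ) ∣ r ^ k := orderOf_dvd_of_pow_eq_one (by rw [← map_pow, hk', map_one])
        exact Odd.of_dvd_nat ((hr.odd_of_ne_two hr2).pow) h6
  have h5 : ρ ∈ KM P y w ⊔ QM P p y := by
    have h6 : ρ ∈ (Kb P p y w).comap β := h4
    rw [show Kb P p y w = (KM P y w).map β from rfl, Subgroup.comap_map_eq, QuotientGroup.ker_mk'] at h6
    exact h6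
  have hz : Subgroup.zpowers ρ ≤ KM P y w := by
    refine le_of_le_sup hrp (hR.to_le (Subgroup.zpowers_le.2 hρR)) (QM_pgroup h.prime y) inferInstance ?_
      (Subgroup.zpowers_le.2 h5)
    intro q hq k hk
    exact conj_KM' ((QM_le p y hq).2 w (P.symm hwy)) hk
  exact hz (Subgroup.mem_zpowers ρ)

end qq

section main

variable {G : Type u} [Group G] [Finite G] {V : Type v} [Finite V] [MulAction G V] {P : Pol G V}

/-- `X ≤` the group induced by the `K u`, `u ~ y` -/
theorem le_map_YM {p : ℕ} (hA : CaseA P p) {x y : V} (hxy : P.adj x y)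
    {X : Subgroup (Equiv.Perm {w : V // P.adj y w})}
    (hmin : ∀ N : Subgroup (Equiv.Perm {w : V // P.adj y w}), N ≤ P.L y → (N.subgroupOf (P.L y)).Normal → N ≠ ⊥ → X ≤ N) :
    X ≤ (YM P y).map (P.toPerm y) := by
  apply hmin
  · rintro _ ⟨g, -, rfl⟩
    exact mem_L.2 ⟨g, g.2, rfl⟩
  · constructor
    rintro ⟨f, hf⟩ hfY ⟨h, hh⟩
    rw [mem_subgroupOf] at hfY ⊢
    obtain ⟨g, hg, e⟩ := hfY
    obtain ⟨k, hk, e'⟩ := mem_L.1 hh
    refine ⟨(⟨k, hk⟩ * g * (⟨k, hk⟩ : ↥(P.S y))⁻¹ :), conj_YM _ _ hg, ?_⟩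
    rw [map_mul, map_mul, map_inv, e, e']
    rfl
  · intro h0
    obtain ⟨Q, hQ, -, -, hQy⟩ := hA.big (P.symm hxy)
    apply hQy
    intro g hg
    have hgx : g ∈ P.K x := hQ hg
    have hgy : g • y = y := hgx.2 y hxy
    have h1 : P.toPerm y ⟨g, hgy⟩ ∈ (YM P y).map (P.toPerm y) :=
      ⟨⟨g, hgy⟩, KM_le_YM (P.symm hxy) hgx, rfl⟩
    rw [h0, Subgroup.mem_bot, ← MonoidHom.mem_ker, ker_toPerm] at h1
    exact h1

/-- the bound for `|K x ∩ S w|_r` -/
theorem card_le {p : ℕ} (hA : CaseA P p) {x y y' w : V} (hxy : P.adj x y) (hyw : P.adj y w) (hxw : x ≠ w)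
    {r : ℕ} (hr : r.Prime) (hrp : r ≠ p)
    (X : Subgroup (Equiv.Perm {w : V // P.adj y w})) (hXL' : X ≤ P.L' y y') (hXn : (X.subgroupOf (P.L y)).Normal) (hsw : Swap X)
    (hmin : ∀ N : Subgroup (Equiv.Perm {w : V // P.adj y w}), N ≤ P.L y → (N.subgroupOf (P.L y)).Normal → N ≠ ⊥ → X ≤ N)
    (hodd : r ≠ 2 ∨ ¬ 2 ∣ Nat.card ↥(P.K y)) {H : Subgroup G}
    (hH : ∀ g : G, g • y = y → g • y' = y' → g • x = x → g • w = w → g ∈ H) (hHx : H ≤ P.S x) (hHy : H ≤ P.S y) (hHw : H ≤ P.S w) :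
    (Nat.card ↥(P.K x ⊓ P.S w)).factorization r + (Nat.card ↥(P.K x ⊓ P.K w ⊓ H)).factorization r ≤
      (Nat.card ↥(P.K x ⊓ P.K w)).factorization r + (Nat.card ↥H).factorization r := by
  have := Fact.mk hr
  have hQn := QM_normal (P := P) p y
  set! φ := P.toPerm y with hφ
  have hXY := le_map_YM hA hxy hmin
  have hyx : P.adj y x := P.symm hxy
  set! S := P.img y (P.S x ⊓ P.S w) with hS
  -- the Sylow subgroup `R` of `K x ∩ S w`
  set! B : Subgroup ↥(P.S y) := (P.K x ⊓ P.S w).subgroupOf (P.S y) with hB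
  have hKS : P.K x ⊓ P.S w ≤ P.S y := fun g hg => hg.1.2 y hxy
  let R0 : Sylow r ↥B := default
  set! R : Subgroup ↥(P.S y) := ((R0 : Subgroup ↥B).map B.subtype :) with hRdef
  have hRB : R ≤ B := Subgroup.map_subtype_le _
  have hRp : IsPGroup r ↥R := R0.isPGroup'.map _
  have hRcard : Nat.card ↥R = r ^ (Nat.card ↥(P.K x ⊓ P.S w)).factorization r := by
    rw [← Nat.card_congr (Subgroup.subgroupOfEquivOfLe hKS).toEquiv, ← R0.card_eq_multiplicity]
    exact (Nat.card_congr (((R0 : Subgroup ↥B).equivMapOfInjective _ B.subtype_injective).toEquiv :)).symm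
  -- `QL`
  have hRS : R.map φ ≤ S := by
    rintro _ ⟨g, hg, rfl⟩
    have h1 : (g : G) ∈ P.K x ⊓ P.S w := hRB hg
    exact mem_img.2 ⟨g, ⟨P.K_le_S x h1.1, h1.2⟩, g.2, rfl⟩
  obtain ⟨P0, hP0⟩ := (IsPGroup.exists_le_sylow (hRp.map φ |>.comap_subtype (K := S)) : _)
  set! QL : Subgroup (Equiv.Perm {w : V // P.adj y w}) := ((P0 : Subgroup ↥S).map S.subtype : _) with hQLdef
  have hQLS : QL ≤ S := Subgroup.map_subtype_le _
  have hQLp : IsPGroup r ↥QL := P0.isPGroup'.map _
  have hQLcard : Nat.card ↥QL = r ^ (Nat.card ↥S).factorization r := by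
    rw [← P0.card_eq_multiplicity]
    exact (Nat.card_congr ((P0 : Subgroup ↥S).equivMapOfInjective _ S.subtype_injective).toEquiv).symm
  have hRQ : R.map φ ≤ QL := by
    intro f hf
    exact ⟨⟨f, hRS hf⟩, hP0 (mem_subgroupOf.2 hf), rfl⟩
  -- `τ`
  have hXL : ∀ s ∈ P.L y, ∀ f ∈ X, s * f * s⁻¹ ∈ X := by
    intro s hs f hf
    have hfL : f ∈ P.L y := L'_le_L (hXL' hf)
    exact mem_subgroupOf.1 (hXn.conj_mem ⟨f, hfL⟩ (mem_subgroupOf.2 hf) ⟨s, hs⟩)
  have hSL : S ≤ P.L y := img_le_L _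
  obtain ⟨τ0, hτ0, h01, h02⟩ := hsw ⟨x, hyx⟩ ⟨w, hyw⟩ (fun e => hxw (congrArg Subtype.val e))
  have hS' : S = Stb (P.L y) ⟨x, hyx⟩ ⊓ Stb (P.L y) ⟨w, hyw⟩ := (stb_stb_L hyx hyw).symm
  have hτL : τ0 ∈ P.L y := L'_le_L (hXL' hτ0)
  have h01' : τ0⁻¹ ⟨w, hyw⟩ = ⟨x, hyx⟩ := Equiv.Perm.inv_eq_iff_eq.2 h01.symm
  have h02' : τ0⁻¹ ⟨x, hyx⟩ = ⟨w, hyw⟩ := Equiv.Perm.inv_eq_iff_eq.2 h02.symm
  have hSτ : ∀ s ∈ S, τ0 * s * τ0⁻¹ ∈ S := by
    intro s hs
    rw [hS'] at hs ⊢
    obtain ⟨⟨hsL, hs1⟩, ⟨-, hs2⟩⟩ := hs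
    have hL : τ0 * s * τ0⁻¹ ∈ P.L y := mul_mem (mul_mem hτL hsL) (inv_mem hτL)
    refine ⟨⟨hL, ?_⟩, ⟨hL, ?_⟩⟩
    · show τ0 (s (τ0⁻¹ ⟨x, hyx⟩)) = ⟨x, hyx⟩
      rw [h02', show s ⟨w, hyw⟩ = ⟨w, hyw⟩ from hs2, h02]
    · show τ0 (s (τ0⁻¹ ⟨w, hyw⟩)) = ⟨w, hyw⟩
      rw [h01', show s ⟨x, hyx⟩ = ⟨x, hyx⟩ from hs1, h01]
  obtain ⟨s, hs, hnorm⟩ := exists_normalizing hQLS hQLcard hτ0 hSτ (fun s hs x hx => hXL s (hSL hs) x hx)
  have hsS := hs.2
  rw [hS'] at hsS
  obtain ⟨⟨-, hs1⟩, ⟨-, hs2⟩⟩ := hsS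
  set! τ := s * τ0 with hτdef; rewrite [← hτdef] at hnorm
  have hτX : τ ∈ X := mul_mem hs.1 hτ0
  have h1 : τ ⟨x, hyx⟩ = ⟨w, hyw⟩ := by
    show s (τ0 ⟨x, hyx⟩) = _
    rw [h01]; exact hs2
  have h2 : τ ⟨w, hyw⟩ = ⟨x, hyx⟩ := by
    show s (τ0 ⟨w, hyw⟩) = _
    rw [h02]; exact hs1
  obtain ⟨t, htY, ht⟩ := hXY hτX
  have ht1 : (t : G) • x = w := by
    have h3 : φ t ⟨x, hyx⟩ = ⟨w, hyw⟩ := by rw [ht, h1]
    exact congrArg Subtype.val h3
  have ht2 : (t : G) • w = x := by
    have h3 : φ t ⟨w, hyw⟩ = ⟨x, hyx⟩ := by rw [ht, h2]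
    exact congrArg Subtype.val h3
  -- the index estimate
  have hkey : (KM P y w).relIndex R ≤ (JJ P p x y w).relIndex (QL ⊓ X) := by
    refine relIndex_le φ R (KM P y w) τ (QL ⊓ X) (JJ P p x y w) ?_ ?_ ?_
    · intro ρ hρ
      have h3 : φ ρ ∈ QL := hRQ ⟨ρ, hρ, rfl⟩
      refine ⟨QL.mul_mem (hnorm _ h3) (QL.inv_mem h3), ?_⟩
      have h4 : τ * φ ρ * τ⁻¹ * (φ ρ)⁻¹ = τ * (φ ρ * τ⁻¹ * (φ ρ)⁻¹) := by group
      rw [h4]
      exact X.mul_mem hτX (hXL _ (hSL (hQLS h3)) _ (X.inv_mem hτX))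
    · rintro ρ hρ _ ⟨g, hg, rfl⟩
      have h5 : (ρ : G) ∈ P.K x ⊓ P.S w := hRB hρ
      refine ⟨ρ * g * ρ⁻¹, ⟨?_, ?_⟩, by rw [map_mul, map_mul, map_inv]⟩
      · have := conj_Kb (p := p) (g := ρ) (u := x) (P.K_le_S x h5.1) _ hg.1
        rwa [← map_inv, ← map_mul, ← map_mul] at this
      · have := conj_Kb (p := p) (g := ρ) (u := w) h5.2 _ hg.2
        rwa [← map_inv, ← map_mul, ← map_mul] at this
    · intro ρ hρ hj
      have h5 : (ρ : G) ∈ P.K x ⊓ P.S w := hRB hρ
      refine key_step hA hr hrp hxy (P.symm hyw) hodd hRp htY ht1 ht2 hρ h5.1 ?_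
      rw [← hφ, ht]
      exact hj
  -- `H`
  set! D := P.K x ⊓ P.K w ⊓ H with hD; rewrite [← hD]
  have hHD : ∀ h ∈ H, ∀ d ∈ D, h * d * h⁻¹ ∈ D := fun h hh d hd =>
    ⟨⟨conj_K' (hHx hh) hd.1.1, conj_K' (hHw hh) hd.1.2⟩, H.mul_mem (H.mul_mem hh hd.2) (H.inv_mem hh)⟩
  have hQH : QL ⊓ X ≤ P.img y H := by
    rintro f ⟨hf1, hf2⟩
    obtain ⟨g, hg, hg', rfl⟩ := mem_img.1 (hXL' hf2)
    have hf3 := hQLS hf1
    rw [hS'] at hf3
    obtain ⟨⟨-, h3⟩, ⟨-, h4⟩⟩ := hf3
    exact mem_img.2 ⟨g, hH g hg.1 hg.2 (congrArg Subtype.val h3) (congrArg Subtype.val h4), hg', rfl⟩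
  have hb1 : (JJ P p x y w).relIndex (QL ⊓ X) ≤ (P.img y D).relIndex (QL ⊓ X) :=
    Subgroup.relIndex_le_of_le_left ((img_mono inf_le_left).trans img_le_JJ) (Subgroup.index_ne_zero_of_finite)
  have hb2 : (P.img y D).relIndex (QL ⊓ X) ≤ r ^ ((P.img y D).relIndex (P.img y H)).factorization r := by
    refine relIndex_le_pow ?_ hQH (hQLp.to_le inf_le_left)
    intro h hh d hd
    obtain ⟨a, ha, ha', rfl⟩ := mem_img.1 hh
    obtain ⟨b, hb, hb', rfl⟩ := mem_img.1 hd
    refine mem_img.2 ⟨a * b * a⁻¹, hHD a ha b hb, mul_mem (mul_mem ha' hb') (inv_mem ha'), ?_⟩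
    rw [← map_inv, ← map_mul, ← map_mul]
    rfl
  have hDH : D ≤ H := inf_le_right
  have hb3 : (P.img y D).relIndex (P.img y H) ∣ D.relIndex H := by
    have := relIndex_map_dvd φ (D := D.subgroupOf (P.S y)) (H := H.subgroupOf (P.S y))
    rwa [Subgroup.relIndex_subgroupOf hHy] at this
  have h0 : D.relIndex H ≠ 0 := (Subgroup.index_ne_zero_of_finite (H := D.subgroupOf H))
  have hb4 : ((P.img y D).relIndex (P.img y H)).factorization r ≤ (D.relIndex H).factorization r :=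
    (Nat.factorization_le_iff_dvd (Subgroup.index_ne_zero_of_finite) h0).2 hb3 r
  have hb5 : (KM P y w).relIndex R ≤ r ^ (D.relIndex H).factorization r :=
    hkey.trans (hb1.trans (hb2.trans (Nat.pow_le_pow_right hr.pos hb4)))
  -- `R ∩ K w`
  have hb6 : Nat.card ↥(KM P y w ⊓ R) ≤ r ^ (Nat.card ↥(P.K x ⊓ P.K w)).factorization r := by
    have h3 : IsPGroup r ↥(KM P y w ⊓ R) := hRp.to_le inf_le_right
    obtain ⟨n, hn⟩ := IsPGroup.iff_card.1 h3
    have hKK : P.K x ⊓ P.K w ≤ P.S y := fun g hg => hg.1.2 y hxy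
    have h4 : Nat.card ↥(KM P y w ⊓ R) ∣ Nat.card ↥(P.K x ⊓ P.K w) := by
      rw [← Nat.card_congr (Subgroup.subgroupOfEquivOfLe hKK).toEquiv]
      apply Subgroup.card_dvd_of_le
      rintro g ⟨hg, hg'⟩
      have h5 : (g : G) ∈ P.K x ⊓ P.S w := hRB hg'
      exact ⟨h5.1, hg⟩
    rw [hn] at h4 ⊢
    exact Nat.pow_le_pow_right hr.pos ((hr.pow_dvd_iff_le_factorization Nat.card_pos.ne').1 h4)
  have hb7 : Nat.card ↥(KM P y w ⊓ R) * (KM P y w).relIndex R = Nat.card ↥R := by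
    have := card_mul_relIndex (D := KM P y w ⊓ R) (H := R) inf_le_right
    rwa [Subgroup.inf_relIndex_right] at this
  have hb8 : r ^ (Nat.card ↥(P.K x ⊓ P.S w)).factorization r ≤
      r ^ ((Nat.card ↥(P.K x ⊓ P.K w)).factorization r + (D.relIndex H).factorization r) := by
    rw [← hRcard, ← hb7, pow_add]
    exact Nat.mul_le_mul hb6 hb5
  have hb9 := (Nat.pow_le_pow_iff_right hr.one_lt).1 hb8
  have hb10 : (Nat.card ↥H).factorization r = (Nat.card ↥D).factorization r + (D.relIndex H).factorization r := by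
    rw [← card_mul_relIndex hDH, Nat.factorization_mul Nat.card_pos.ne' h0, Finsupp.add_apply]
  omega

theorem T2_le (F : Facts P) {v a b a' b' : V} (ha : P.adj v a) (hb : P.adj v b) (hab : a ≠ b) (ha' : P.adj v a')
    (hb' : P.adj v b') (hab' : a' ≠ b') : P.T2 v a b ≤ P.T2 v a' b' := by
  obtain ⟨g, hg, h1, h2⟩ := F.two_trans ha hb hab ha' hb' hab'
  unfold Pol.T2
  refine Nat.card_le_card_of_injective (fun f => ⟨P.toPerm v ⟨g, hg⟩ * f * (P.toPerm v ⟨g, hg⟩)⁻¹, ?_⟩) ?_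
  · obtain ⟨k, hk, hk', e⟩ := mem_img.1 f.2
    refine mem_img.2 ⟨g * k * g⁻¹, ⟨?_, ?_⟩, mul_mem (mul_mem hg hk') (inv_mem hg), ?_⟩
    · have h3 : k • a = a := hk.1
      show (g * k * g⁻¹) • a' = a'
      rw [← h1, mul_smul, mul_smul, inv_smul_smul, h3]
    · have h3 : k • b = b := hk.2
      show (g * k * g⁻¹) • b' = b'
      rw [← h2, mul_smul, mul_smul, inv_smul_smul, h3]
    · rw [← e, ← map_inv, ← map_mul, ← map_mul]
      rfl
  · intro f f' hff
    have h3 := congrArg Subtype.val hff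
    simp only at h3
    exact Subtype.ext (mul_left_cancel (mul_right_cancel h3))

end main

/-- K2: the key lemma in the non-affine case -/
theorem st_key_nonaff : StKeyNonaff.{u, v} := by
  intro G _ _ V _ _ P F p hA x y y' z hxy hxz hyz ho r hr hrp X hXL' hXn hsw hmin hodd
  obtain ⟨w, hyw, hxw⟩ := exists_other (P := P) (x := y) (y := x)
  obtain ⟨pth, hpth, hp1, hp2, hp3, hpH⟩ := exists_good_path F hxy hyw (Ne.symm hxw) ho
  have hn : 4 ≤ P.n := by rcases P.hn with h | h | h <;> omega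
  obtain ⟨x', hx'⟩ := F.exists_opp x
  have hPS : ∀ i, i ≤ P.n + 1 → P.H pth ≤ P.S (pth i) := fun i hi g hg => mem_PS.1 hg i hi
  have h1 := card_le hA hxy hyw hxw hr hrp X hXL' hXn hsw hmin hodd hpH (by have := hPS 1 (by omega); rwa [hp1] at this)
    (by have := hPS 2 (by omega); rwa [hp2] at this) (by have := hPS 3 (by omega); rwa [hp3] at this)
  have h2 := F.count_main (i := 1) hr hpth (by omega) (x' := x') (by rw [hp1]; exact hx')
  rw [hp1, hp3] at h2
  have h3 := F.count_T2 (i := 0) hx' hpth (by omega) hp1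
  rw [hp2] at h3
  have h4 := congrArg (fun k => k.factorization r) h3
  have hidx : P.idx x x' ≠ 0 := Subgroup.index_ne_zero_of_finite
  rw [Nat.factorization_mul T2_ne_zero Nat.card_pos.ne', Nat.factorization_mul hidx Nat.card_pos.ne', Finsupp.add_apply,
    Finsupp.add_apply] at h4
  have h5 : P.T2 x (pth 0) y = P.T2 x y z := by
    have h6 : P.adj x (pth 0) := by
      have := hpth.1 0 (by omega)
      rw [hp1] at this
      exact P.symm this
    have h7 : pth 0 ≠ y := by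
      have := hpth.2 0 (by omega)
      rw [hp2] at this
      exact this.symm
    exact le_antisymm (T2_le F h6 hxy h7 hxy hxz hyz) (T2_le F hxy hxz hyz h6 hxy h7)
  rw [h5] at h4
  omega

end Cfsg.Agent.H803.RK
end

-- part: H927/ZStar3414
section
/-!
# S3414: the piece Z* (`StZstar` from `StStar`)

If `p` is odd and `L x` is affine of odd degree then `K y` has odd order: an involution of `K y` acts as
inversion on the translation group of every `L x`, `x ~ y`, so it is isolated (Glauberman's Z*-theorem).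
-/

set_option autoImplicit false

namespace Cfsg.Agent.H927.Tits

open Cfsg.Agent.H873.Tits

universe u v

/-! ## regular abelian normal subgroups -/

section Reg

variable {Ω : Type v} {W : Subgroup (Equiv.Perm Ω)}

theorem reg_one (hreg : ∀ a : Ω, MulAction.stabilizer W a = ⊥) {v : Equiv.Perm Ω} (hv : v ∈ W) {a : Ω} (h : v a = a) :
    v = 1 := by
  have h1 : (⟨v, hv⟩ : W) ∈ MulAction.stabilizer W a := h
  rw [hreg a, Subgroup.mem_bot] at h1
  exact congrArg Subtype.val h1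

theorem reg_inj (hreg : ∀ a : Ω, MulAction.stabilizer W a = ⊥) {v v' : Equiv.Perm Ω} (hv : v ∈ W) (hv' : v' ∈ W) {a : Ω}
    (h : v a = v' a) : v = v' := by
  have h1 : (v'⁻¹ * v) = 1 := reg_one hreg (mul_mem (inv_mem hv') hv) (a := a) (by
    rw [Equiv.Perm.mul_apply, h, ← Equiv.Perm.mul_apply, inv_mul_cancel]; rfl)
  exact (inv_mul_eq_one.1 h1).symm

theorem comm_of (hc : IsMulCommutative W) {v v' : Equiv.Perm Ω} (hv : v ∈ W) (hv' : v' ∈ W) : v * v' = v' * v := by
  have := hc.is_comm.comm (⟨v, hv⟩ : W) ⟨v', hv'⟩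
  exact congrArg Subtype.val this

theorem exists_trans (ht : MulAction.IsPretransitive W Ω) (a b : Ω) : ∃ v ∈ W, v a = b := by
  obtain ⟨⟨v, hv⟩, h⟩ := ht.exists_smul_eq a b
  exact ⟨v, hv, h⟩

/-- a permutation fixing `a` and centralizing `W` is trivial -/
theorem eq_one_of_cent (ht : MulAction.IsPretransitive W Ω) {i : Equiv.Perm Ω} {a : Ω} (ha : i a = a)
    (h : ∀ v ∈ W, i * v * i⁻¹ = v) : i = 1 := by
  ext b
  obtain ⟨v, hv, rfl⟩ := exists_trans ht a b
  have h1 : i * v = v * i := by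
    have := h v hv
    rwa [mul_inv_eq_iff_eq_mul] at this
  rw [← Equiv.Perm.mul_apply, h1, Equiv.Perm.mul_apply, ha]
  rfl

theorem conj_apply {i v : Equiv.Perm Ω} {a : Ω} (ha : i a = a) : (i * v * i⁻¹) a = i (v a) := by
  have : i⁻¹ a = a := by rw [Equiv.Perm.inv_eq_iff_eq, ha]
  rw [Equiv.Perm.mul_apply, this, Equiv.Perm.mul_apply]

/-- an involution without fixed points different from `a` inverts `W` -/
theorem inverts (hc : IsMulCommutative W) (hreg : ∀ a : Ω, MulAction.stabilizer W a = ⊥) {i : Equiv.Perm Ω} {a : Ω}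
    (hn : ∀ v ∈ W, i * v * i⁻¹ ∈ W) (hi : i * i = 1) (ha : i a = a) (huniq : ∀ b, i b = b → b = a) {v : Equiv.Perm Ω}
    (hv : v ∈ W) : i * v * i⁻¹ = v⁻¹ := by
  have hii : i⁻¹ = i := inv_eq_of_mul_eq_one_right hi
  have h1 : i * (v * (i * v * i⁻¹)) * i⁻¹ = v * (i * v * i⁻¹) := by
    rw [comm_of hc hv (hn v hv)]
    rw [hii]
    calc i * (i * v * i * v) * i = (i * i) * v * i * v * i := by group
      _ = v * (i * v * i) := by rw [hi]; group
      _ = i * v * i * v := by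
        have := comm_of hc hv (hn v hv)
        rw [hii] at this
        exact this
  have h2 : v * (i * v * i⁻¹) = 1 := by
    refine reg_one hreg (mul_mem hv (hn v hv)) (a := a) ?_
    refine huniq _ ?_
    rw [← conj_apply ha, h1]
  exact (inv_eq_of_mul_eq_one_right h2).symm

/-- an involution fixing `a` and not trivial inverts a non-trivial element of `W` -/
theorem exists_inverted (hc : IsMulCommutative W) (ht : MulAction.IsPretransitive W Ω) {i : Equiv.Perm Ω} {a : Ω}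
    (hn : ∀ v ∈ W, i * v * i⁻¹ ∈ W) (hi : i * i = 1) (ha : i a = a) (hne : i ≠ 1) :
    ∃ v ∈ W, v ≠ 1 ∧ i * v * i⁻¹ = v⁻¹ := by
  have hii : i⁻¹ = i := inv_eq_of_mul_eq_one_right hi
  by_contra hcon
  push Not at hcon
  apply hne
  apply eq_one_of_cent ht ha
  intro v hv
  by_contra hv2
  refine hcon (v⁻¹ * (i * v * i⁻¹)) (mul_mem (inv_mem hv) (hn v hv)) (fun h => hv2 ?_) ?_
  · exact (inv_mul_eq_one.1 h).symm
  · have h3 := comm_of hc (inv_mem hv) (hn v hv)
    rw [hii] at h3 ⊢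
    rw [h3, mul_inv_rev, inv_inv]
    calc i * (i * v * i * v⁻¹) * i = (i * i) * (v * (i * v⁻¹ * i)) := by group
      _ = v * (i * v * i)⁻¹ := by rw [hi, one_mul]; congr 1; rw [mul_inv_rev, mul_inv_rev, hii]; group

/-- an element of odd order does not invert an element `v` with `v * v ≠ 1` -/
theorem not_inverts {b v : Equiv.Perm Ω} {n : ℕ} (hn : Odd n) (hb : b ^ n = 1) (h : b * v * b⁻¹ = v⁻¹) : v * v = 1 := by
  have key : ∀ m : ℕ, b ^ (2 * m) * v * (b ^ (2 * m))⁻¹ = v := by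
    intro m
    induction m with
    | zero => simp
    | succ m ih =>
      have h' : b * v⁻¹ * b⁻¹ = v := by
        have := congrArg (fun t => t⁻¹) h
        simp only [mul_inv_rev, inv_inv] at this
        rw [← mul_assoc] at this
        exact this
      calc b ^ (2 * (m + 1)) * v * (b ^ (2 * (m + 1)))⁻¹
          = b ^ (2 * m) * (b * (b * v * b⁻¹) * b⁻¹) * (b ^ (2 * m))⁻¹ := by
            rw [show 2 * (m + 1) = 2 * m + 2 from rfl, pow_add, pow_two]; group
        _ = v := by rw [h, h', ih]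
  obtain ⟨m, rfl⟩ := hn
  have h1 := key m
  rw [pow_succ] at hb
  have h2 : b = (b ^ (2 * m))⁻¹ := (inv_eq_of_mul_eq_one_right hb).symm
  have h3 : b * v * b⁻¹ = v := by
    have h4 : b ^ (2 * m) = b⁻¹ := by rw [h2, inv_inv, ← h2]
    rw [h4, inv_inv] at h1
    calc b * v * b⁻¹ = b * (b⁻¹ * v * b) * b⁻¹ := by rw [h1]
      _ = v := by group
  rw [h3] at h
  calc v * v = v * v⁻¹ := by rw [← h]
    _ = 1 := mul_inv_cancel v

theorem card_reg (ht : MulAction.IsPretransitive W Ω) (hreg : ∀ a : Ω, MulAction.stabilizer W a = ⊥) (a : Ω) :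
    Nat.card W = Nat.card Ω := by
  refine Nat.card_congr (Equiv.ofBijective (fun v : W => (v : Equiv.Perm Ω) a) ⟨?_, ?_⟩)
  · intro v v' h
    exact Subtype.ext (reg_inj hreg v.2 v'.2 h)
  · intro b
    obtain ⟨v, hv, h⟩ := exists_trans ht a b
    exact ⟨⟨v, hv⟩, h⟩

theorem sq_one [Finite Ω] (hodd : ¬ 2 ∣ Nat.card W) {v : Equiv.Perm Ω} (hv : v ∈ W) (h : v * v = 1) : v = 1 := by
  by_contra hne
  have h1 : orderOf v = 2 := by
    apply orderOf_eq_prime (by rw [pow_two]; exact h) hne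
  apply hodd
  rw [← h1, show orderOf v = orderOf (⟨v, hv⟩ : W) from (Subgroup.orderOf_mk v hv).symm]
  exact orderOf_dvd_natCard _

end Reg

section Main

variable {G : Type u} [Group G] {V : Type v} [MulAction G V] {P : Pol G V}

/-- the largest normal `p`-subgroup of `S y` in `K y` -/
def Op (P : Pol G V) (p : ℕ) (y : V) : Subgroup G := (Cfsg.pCore p ↥(P.S y)).map (P.S y).subtype ⊓ P.K y

theorem K_normal (y : V) : ((P.K y).subgroupOf (P.S y)).Normal := by
  constructor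
  rintro ⟨g, hg⟩ h ⟨k, hk⟩
  rw [Subgroup.mem_subgroupOf] at h ⊢
  refine ⟨mul_mem (mul_mem hk hg) (inv_mem hk), fun w hw => ?_⟩
  have h1 : P.adj y (k⁻¹ • w) := by
    have := P.smul_adj k⁻¹ hw
    rwa [inv_smul_eq_iff.2 (show y = k • y from (S_smul hk).symm)] at this
  show (k * g * k⁻¹) • w = w
  rw [mul_smul, mul_smul, h.2 _ h1, smul_inv_smul]

theorem conj_K {y : V} {g k : G} (h : g ∈ P.K y) : k * g * k⁻¹ ∈ P.K (k • y) := by
  refine ⟨by rw [mul_smul, mul_smul, inv_smul_smul, h.1], fun w hw => ?_⟩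
  have h1 : P.adj y (k⁻¹ • w) := by
    have := P.smul_adj k⁻¹ hw
    rwa [inv_smul_smul] at this
  rw [mul_smul, mul_smul, h.2 _ h1, smul_inv_smul]

theorem Op_le {p : ℕ} {y : V} : Op P p y ≤ P.K y := inf_le_right

theorem Op_normal {p : ℕ} {y : V} : ((Op P p y).subgroupOf (P.S y)).Normal := by
  have h1 : (Op P p y).subgroupOf (P.S y) = Cfsg.pCore p ↥(P.S y) ⊓ (P.K y).subgroupOf (P.S y) := by
    ext g
    rw [Subgroup.mem_subgroupOf, Subgroup.mem_inf, Subgroup.mem_subgroupOf]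
    unfold Op
    rw [Subgroup.mem_inf]
    constructor
    · rintro ⟨⟨g', hg', e⟩, h2⟩
      have : g' = g := Subtype.ext e
      exact ⟨this ▸ hg', h2⟩
    · rintro ⟨h1, h2⟩
      exact ⟨⟨g, h1, rfl⟩, h2⟩
  rw [h1]
  have := Cfsg.Agent.Lib.Cores.pCore_normal (G := ↥(P.S y)) p
  have := K_normal (P := P) y
  exact Subgroup.normal_inf_normal _ _

theorem Op_pgroup {p : ℕ} {y : V} : IsPGroup p ↥(Op P p y) :=
  ((Cfsg.Agent.Lib.Cores.pCore_isPGroup (G := ↥(P.S y)) p).map _).to_le inf_le_left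

theorem le_Op {p : ℕ} {y : V} (Q' : Subgroup G) (h : Q' ≤ P.K y) (hn : (Q'.subgroupOf (P.S y)).Normal)
    (hp : IsPGroup p ↥Q') : Q' ≤ Op P p y := by
  intro g hg
  refine ⟨⟨⟨g, P.K_le_S y (h hg)⟩, ?_, rfl⟩, h hg⟩
  exact Cfsg.Agent.Lib.Cores.le_pCore hn hp.comap_subtype (Subgroup.mem_subgroupOf.2 hg)

theorem toPerm_eq_one {x : V} {g : G} (hg : g ∈ P.S x) (h : P.toPerm x ⟨g, hg⟩ = 1) : g ∈ P.K x := by
  refine ⟨hg, fun w hw => ?_⟩
  exact congrArg (fun f : Equiv.Perm {w : V // P.adj x w} => ((f ⟨w, hw⟩ : {w : V // P.adj x w}) : V)) h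

/-- an involution in `K x ⊓ K y` does not exist -/
theorem sq_KK {p : ℕ} (h : CaseA P p) (hp : p ≠ 2) {x y : V} (hxy : P.adj x y) {g : G} (hx : g ∈ P.K x) (hy : g ∈ P.K y)
    (h2 : g * g = 1) : g = 1 := by
  obtain ⟨k, hk⟩ := h.pgroup hxy ⟨g, hx, hy⟩
  have hk' : g ^ p ^ k = 1 := congrArg Subtype.val hk
  have hodd : Odd (p ^ k) := (h.prime.odd_of_ne_two hp).pow
  obtain ⟨m, hm⟩ := hodd
  rw [hm, pow_succ, pow_mul, pow_two, h2, one_pow, one_mul] at hk'
  exact hk'

/-- the main step -/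
theorem step (hs : StStar.{u, v}) [Finite G] [Finite V] (F : Facts P) {p : ℕ} (h : CaseA P p) (hp : p ≠ 2) {x y : V}
    (hxy : P.adj x y) (ha : Aff (P.L x)) (hq : 2 ∣ P.q (P.tp x)) {g : G} (hg : g ∈ P.K y) (h2 : g * g = 1) (h1 : g ≠ 1)
    {w : V} (hw : P.adj x w) (hwy : w ≠ y) : g • w ≠ w := by
  intro hgw
  obtain ⟨W, hWL, hWn, hWc, hWt, hWr⟩ := ha
  have hcard : Nat.card W = P.q (P.tp x) + 1 := by rw [card_reg hWt hWr ⟨y, hxy⟩, P.card_nb x]
  have hodd : ¬ 2 ∣ Nat.card W := by rw [hcard]; omega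
  have hgx : g ∈ P.S x := hg.2 x (P.symm hxy)
  have hnorm : ∀ f ∈ P.L x, ∀ v ∈ W, f * v * f⁻¹ ∈ W := by
    intro f hf v hv
    exact Subgroup.mem_subgroupOf.1 (hWn.conj_mem ⟨v, hWL hv⟩ (Subgroup.mem_subgroupOf.2 hv) ⟨f, hf⟩)
  set! i := P.toPerm x ⟨g, hgx⟩ with hi
  have hiL : i ∈ P.L x := mem_L.2 ⟨g, hgx, rfl⟩
  have hii : i * i = 1 := by
    rw [hi, ← map_mul]
    have : (⟨g, hgx⟩ : P.S x) * ⟨g, hgx⟩ = 1 := Subtype.ext h2
    rw [this, map_one]
  have hia : i ⟨y, hxy⟩ = ⟨y, hxy⟩ := Subtype.ext hg.1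
  have hine : i ≠ 1 := fun h0 => h1 (sq_KK h hp hxy (toPerm_eq_one hgx h0) hg h2)
  obtain ⟨v, hv, hv1, hvi⟩ := exists_inverted hWc hWt (hnorm i hiL) hii hia hine
  -- the neighbour `v y`
  set! w₂ := v ⟨y, hxy⟩ with hw₂
  have hw₂y : (w₂ : V) ≠ y := by
    intro h0
    exact hv1 (reg_one hWr hv (a := ⟨y, hxy⟩) (Subtype.ext h0))
  obtain ⟨b, hb, hbw⟩ := hs P F h hxy hw hwy w₂.2 hw₂y (Op P p y) Op_le Op_normal Op_pgroup le_Op g hg
    ⟨1, one_mem _, by rw [one_smul, hgw]⟩
  have hbx : b ∈ P.S x := (Op_le hb).2 x (P.symm hxy)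
  have hbL : P.toPerm x ⟨b, hbx⟩ ∈ P.L x := mem_L.2 ⟨b, hbx, rfl⟩
  have hby : P.toPerm x ⟨b, hbx⟩ ⟨y, hxy⟩ = ⟨y, hxy⟩ := Subtype.ext (Op_le hb).1
  have hbv : P.toPerm x ⟨b, hbx⟩ * v * (P.toPerm x ⟨b, hbx⟩)⁻¹ = v⁻¹ := by
    refine reg_inj hWr (hnorm _ hbL v hv) (inv_mem hv) (a := ⟨y, hxy⟩) ?_
    rw [conj_apply hby, ← hvi, conj_apply hia]
    exact Subtype.ext hbw.symm
  obtain ⟨k, hk⟩ := Op_pgroup ⟨b, hb⟩
  have hk' : b ^ p ^ k = 1 := congrArg Subtype.val hk
  have hbk : (P.toPerm x ⟨b, hbx⟩) ^ p ^ k = 1 := by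
    rw [← map_pow]
    have : (⟨b, hbx⟩ : P.S x) ^ p ^ k = 1 := Subtype.ext hk'
    rw [this, map_one]
  exact hv1 (sq_one hodd hv (not_inverts ((h.prime.odd_of_ne_two hp).pow) hbk hbv))

/-- **Z*** -/
theorem st_zstar (hs : StStar.{u, v}) : StZstar.{u, v} := by
  intro G _ _ V _ _ P F hO p h hp x y hxy ha hq hdvd
  have hfree : ∀ g ∈ P.K y, g * g = 1 → g ≠ 1 → ∀ x' w, P.adj x' y → P.adj x' w → w ≠ y → g • w ≠ w := by
    intro g hg hgg hg1 x' w hx' hw hwy hgw
    obtain ⟨z, hz, hxz⟩ := exists_other (P := P) (x := y) (y := x)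
    obtain ⟨z', hz', hxz'⟩ := exists_other (P := P) (x := y) (y := x')
    obtain ⟨k, hk, hkx, -⟩ := F.two_trans (P.symm hxy) hz hxz (P.symm hx') hz' hxz'
    have hky : k⁻¹ • y = y := inv_smul_eq_iff.2 (S_smul hk).symm
    have h1 : k⁻¹ * g * k ∈ P.K y := by
      have := conj_K (k := k⁻¹) hg
      rwa [inv_inv, hky] at this
    have hw' : P.adj x (k⁻¹ • w) := by
      have := P.smul_adj k⁻¹ hw
      rwa [inv_smul_eq_iff.2 hkx.symm] at this
    refine step hs F h hp hxy ha hq h1 ?_ ?_ hw' ?_ ?_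
    · calc k⁻¹ * g * k * (k⁻¹ * g * k) = k⁻¹ * (g * g) * k := by group
        _ = 1 := by rw [hgg]; group
    · intro h0
      apply hg1
      calc g = k * (k⁻¹ * g * k) * k⁻¹ := by group
        _ = 1 := by rw [h0]; group
    · intro h0
      apply hwy
      rw [inv_smul_eq_iff] at h0
      rw [h0, S_smul hk]
    · rw [mul_smul, mul_smul, smul_inv_smul, hgw]
  -- an involution
  have hf2 : Fact (Nat.Prime 2) := ⟨Nat.prime_two⟩
  obtain ⟨⟨g, hg⟩, hg2⟩ := exists_prime_orderOf_dvd_card' (G := ↥(P.K y)) 2 hdvd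
  rw [Subgroup.orderOf_mk] at hg2
  have hgg : g * g = 1 := by
    have := pow_orderOf_eq_one g
    rwa [hg2, pow_two] at this
  have hg1 : g ≠ 1 := by
    rintro rfl
    rw [orderOf_one] at hg2
    omega
  have hgx : g ∈ P.S x := hg.2 x (P.symm hxy)
  have hfix := F.fix_unique hg (hfree g hg hgg hg1)
  have hiso : Cfsg.IsIsolatedInvolution g := by
    refine ⟨hg2, fun k hk => ?_⟩
    have hk' : g * (k * g * k⁻¹) = (k * g * k⁻¹) * g := hk.eq
    set g' := k * g * k⁻¹ with hg'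
    have hg'K : g' ∈ P.K (k • y) := conj_K hg
    -- `g` fixes `k y`
    have h1 : g • k • y = k • y := by
      have h2 : g' • (g • k • y) = g • k • y := by
        rw [← mul_smul, ← hk', mul_smul, hg'K.1]
      have h3 : g • (k⁻¹ • g • k • y) = k⁻¹ • g • k • y := by
        have : g = k⁻¹ * g' * k := by rw [hg']; group
        calc g • (k⁻¹ • g • k • y) = (k⁻¹ * g' * k) • (k⁻¹ • g • k • y) := by rw [← this]
          _ = k⁻¹ • g' • g • k • y := by rw [mul_smul, mul_smul, smul_inv_smul]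
          _ = k⁻¹ • g • k • y := by rw [h2]
      have h4 := hfix (k⁻¹ • g • k • y) (by rw [P.smul_tp, P.smul_tp, P.smul_tp]) h3
      rw [inv_smul_eq_iff] at h4
      exact h4
    have hky : k • y = y := hfix (k • y) (P.smul_tp k y) h1
    rw [hky] at hg'K
    have hg'g : g' * g' = 1 := by
      rw [hg']
      calc k * g * k⁻¹ * (k * g * k⁻¹) = k * (g * g) * k⁻¹ := by group
        _ = 1 := by rw [hgg]; group
    have hg'1 : g' ≠ 1 := by
      intro h0
      apply hg1
      calc g = k⁻¹ * g' * k := by rw [hg']; group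
        _ = 1 := by rw [h0]; group
    have hg'x : g' ∈ P.S x := hg'K.2 x (P.symm hxy)
    -- the product is trivial on the neighbours of `x`
    obtain ⟨W, hWL, hWn, hWc, hWt, hWr⟩ := ha
    have hnorm : ∀ f ∈ P.L x, ∀ v ∈ W, f * v * f⁻¹ ∈ W := by
      intro f hf v hv
      exact Subgroup.mem_subgroupOf.1 (hWn.conj_mem ⟨v, hWL hv⟩ (Subgroup.mem_subgroupOf.2 hv) ⟨f, hf⟩)
    have inv : ∀ c ∈ P.K y, ∀ hc : c ∈ P.S x, c * c = 1 → c ≠ 1 → ∀ v ∈ W,
        P.toPerm x ⟨c, hc⟩ * v * (P.toPerm x ⟨c, hc⟩)⁻¹ = v⁻¹ := by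
      intro c hcy hc hcc hc1 v hv
      refine inverts hWc hWr (a := ⟨y, hxy⟩) (hnorm _ (mem_L.2 ⟨c, hc, rfl⟩)) ?_ (Subtype.ext hcy.1) ?_ hv
      · rw [← map_mul]
        have : (⟨c, hc⟩ : P.S x) * ⟨c, hc⟩ = 1 := Subtype.ext hcc
        rw [this, map_one]
      · intro b hb
        by_contra hby
        exact hfree c hcy hcc hc1 x b.1 hxy b.2 (fun h0 => hby (Subtype.ext h0)) (congrArg Subtype.val hb)
    have h5 : g * g' ∈ P.K x := by
      refine toPerm_eq_one (mul_mem hgx hg'x) ?_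
      have e : P.toPerm x ⟨g * g', mul_mem hgx hg'x⟩ = P.toPerm x ⟨g, hgx⟩ * P.toPerm x ⟨g', hg'x⟩ := by
        rw [← map_mul]; rfl
      rw [e]
      refine eq_one_of_cent hWt (a := ⟨y, hxy⟩) ?_ ?_
      · rw [Equiv.Perm.mul_apply]
        have e1 : P.toPerm x ⟨g', hg'x⟩ ⟨y, hxy⟩ = ⟨y, hxy⟩ := Subtype.ext hg'K.1
        rw [e1]
        exact Subtype.ext hg.1
      · intro v hv
        have e1 := inv g' hg'K hg'x hg'g hg'1 v hv
        have e2 := inv g hg hgx hgg hg1 v⁻¹ (inv_mem hv)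
        rw [inv_inv] at e2
        calc P.toPerm x ⟨g, hgx⟩ * P.toPerm x ⟨g', hg'x⟩ * v * (P.toPerm x ⟨g, hgx⟩ * P.toPerm x ⟨g', hg'x⟩)⁻¹
            = P.toPerm x ⟨g, hgx⟩ * (P.toPerm x ⟨g', hg'x⟩ * v * (P.toPerm x ⟨g', hg'x⟩)⁻¹) * (P.toPerm x ⟨g, hgx⟩)⁻¹ := by
              group
          _ = v := by rw [e1, e2]
    have h6 : g * g' = 1 := by
      refine sq_KK h hp hxy h5 (mul_mem hg hg'K) ?_
      calc g * g' * (g * g') = g * (g' * g) * g' := by group
        _ = g * g * (g' * g') := by rw [← hk']; group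
        _ = 1 := by rw [hgg, hg'g, one_mul]
    calc g' = (g * g) * g' := by rw [hgg, one_mul]
      _ = g * (g * g') := by group
      _ = g := by rw [h6, mul_one]
  -- Z*
  have hN : Cfsg.pPrimeCore 2 G = ⊥ := by
    apply hO.1 _ (Cfsg.Agent.Lib.Cores.pPrimeCore_normal 2)
    intro h0
    have := Cfsg.Agent.Lib.Cores.pPrimeCore_coprime (G := G) 2
    rw [Nat.coprime_comm, Nat.Prime.coprime_iff_not_dvd Nat.prime_two] at this
    exact this h0
  have hgc : g ∈ Subgroup.center G := by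
    rw [Subgroup.mem_center_iff]
    intro k
    have := Cfsg.Agent.AschCrit.Dichotomy.commutator_mem_oddCore hiso k
    rw [hN, Subgroup.mem_bot] at this
    calc k * g = (g * k * g⁻¹ * k⁻¹) * k * g := by rw [this, one_mul]
      _ = g * k := by group
  rw [hO.2, Subgroup.mem_bot] at hgc
  exact hg1 hgc

end Main

end Cfsg.Agent.H927.Tits
end

-- part: H361/Tits/Tab1a
section
/-!
# S3414, TAB1a (helper361)
-/

set_option autoImplicit false

namespace Cfsg.Agent.H361.Tits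

open Cfsg.Agent.H873.Tits

universe v

/-- **TAB1a.** -/
theorem st_tab1a : StTab1a.{v} :=
  st_tab1a_of fun A => Cfsg.Agent.H384.TwoTransMain.main (fun _ _ _ _ => Cfsg.Agent.S0000.result) A

end Cfsg.Agent.H361.Tits
end

-- part: H482/Tab/Main
section
/-!
# TAB1c of S3414: the affine 2-transitive groups
-/

set_option autoImplicit false
set_option linter.unusedSectionVars false
set_option linter.style.haveILetI false

namespace Cfsg.Agent.H482.Tab

open Module Cfsg.Agent.H873.Tits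

theorem main_add {V : Type*} [AddCommGroup V] [Finite V] {A : Type*} [Group A] [Finite A] (f : A → V →+ V)
    (hf1 : ∀ v, f 1 v = v) (hfm : ∀ g h v, f (g * h) v = f g (f h v))
    (hinj : ∀ g h, (∀ v, f g v = f h v) → g = h) (htr : ∀ v w : V, v ≠ 0 → w ≠ 0 → ∃ g, f g v = w) {w₁ : V}
    (hw₁ : w₁ ≠ 0)
    {p : ℕ} (hp : p.Prime) {Q : Subgroup A} (hQ : Q.Normal) (hQ1 : Q ≠ ⊥) (hQp : IsPGroup p ↥Q)
    (T : Subgroup A) (hT : ∀ g, g ∈ T ↔ f g w₁ = w₁)
    (hyp : ∀ r : ℕ, r.Prime → r ≠ p → (Nat.card V - 1).factorization r ≤ (Nat.card T).factorization r) :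
    (∃ k : ℕ, Nat.card V - 1 = p ^ k) ∨
      (p = 2 ∧ ∃ r₀ k : ℕ, r₀.Prime ∧ 7 ≤ r₀ ∧ r₀ + 1 = 2 ^ k ∧ Nat.card V = r₀ ^ 2) := by
  classical
  have hnt : Nontrivial V := ⟨⟨w₁, 0, hw₁⟩⟩
  have hone : 1 < Nat.card V := Finite.one_lt_card
  obtain ⟨r₀, hr₀, hdvd⟩ := Nat.exists_prime_and_dvd hone.ne'
  have : Fact r₀.Prime := ⟨hr₀⟩
  obtain ⟨w₀, hw₀⟩ := exists_prime_addOrderOf_dvd_card' r₀ hdvd
  have hw₀1 : w₀ ≠ 0 := by
    intro h
    rw [h, addOrderOf_zero] at hw₀
    exact hr₀.one_lt.ne hw₀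
  have hexp : ∀ w : V, r₀ • w = 0 := by
    intro w
    by_cases hw : w = 0
    · rw [hw, smul_zero]
    obtain ⟨g, rfl⟩ := htr w₀ w hw₀1 hw
    rw [← map_nsmul, ← hw₀, addOrderOf_nsmul_eq_zero, map_zero]
  letI : Module (ZMod r₀) V := AddCommGroup.zmodModule (n := r₀) hexp
  let φ : A →* Module.End (ZMod r₀) V :=
    { toFun := fun g => AddMonoidHom.toZModLinearMap r₀ (f g)
      map_one' := by
        apply LinearMap.ext
        intro v
        rw [AddMonoidHom.coe_toZModLinearMap, hf1, Module.End.one_apply]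
      map_mul' := by
        intro g h
        apply LinearMap.ext
        intro v
        rw [AddMonoidHom.coe_toZModLinearMap, hfm, Module.End.mul_apply, AddMonoidHom.coe_toZModLinearMap,
          AddMonoidHom.coe_toZModLinearMap] }
  have hφ : ∀ g (v : V), φ g v = f g v := fun g v => rfl
  have H : TL r₀ V A φ w₁ :=
    { inj := fun g h hgh => hinj g h fun v => by rw [← hφ, ← hφ, hgh]
      tr := fun v w hv hw => by
        obtain ⟨g, hg⟩ := htr v w hv hw
        exact ⟨g, hg⟩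
      ne := hw₁ }
  have hTs : T = stab φ w₁ := by
    ext g
    rw [hT, mem_stab, hφ]
  have hyp' : ∀ r : ℕ, r.Prime → r ≠ p →
      (Nat.card V - 1).factorization r ≤ (Nat.card (stab φ w₁)).factorization r := by
    intro r hr hrp
    rw [← hTs]
    exact hyp r hr hrp
  have hV := card_V (r₀ := r₀) (V := V)
  have hd0 : finrank (ZMod r₀) V ≠ 0 := by
    intro h
    rw [h, pow_zero] at hV
    omega
  by_cases hd1 : finrank (ZMod r₀) V = 1
  · exact Or.inl (H.dim_one hyp' hd1)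
  by_cases h26 : r₀ = 2 ∧ finrank (ZMod r₀) V = 6
  · exfalso
    obtain ⟨h2, h6⟩ := h26
    subst h2
    exact H.six hp hQ hQ1 hQp hyp' h6
  by_cases h2 : finrank (ZMod r₀) V = 2 ∧ ∃ k, r₀ + 1 = 2 ^ k
  · obtain ⟨hd2, k, hk⟩ := h2
    rcases H.dim_two hyp' hd2 hk with h | ⟨h1, k, h2, h3, h4⟩
    · exact Or.inl h
    · exact Or.inr ⟨h1, r₀, k, hr₀, h2, h3, h4⟩
  · obtain ⟨r, hr, hrd, -, -⟩ := Cfsg.Agent.Lib.Zsigmondy.exists_primitive hr₀.two_le
      (show 2 ≤ finrank (ZMod r₀) V by omega) (fun h3 h4 => h2 ⟨h3, h4⟩) h26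
    exact Or.inl (H.ppd hp hQ hQ1 hQp hyp' hr hrd)

theorem main_lin {W : Type*} [CommGroup W] [Finite W] {A : Type*} [Group A] [Finite A] (ψ : A →* MulAut W)
    (hinj : Function.Injective ψ) (htr : ∀ v w : W, v ≠ 1 → w ≠ 1 → ∃ g, ψ g v = w) {w₁ : W} (hw₁ : w₁ ≠ 1)
    {p : ℕ} (hp : p.Prime) {Q : Subgroup A} (hQ : Q.Normal) (hQ1 : Q ≠ ⊥) (hQp : IsPGroup p ↥Q)
    (T : Subgroup A) (hT : ∀ g, g ∈ T ↔ ψ g w₁ = w₁)
    (hyp : ∀ r : ℕ, r.Prime → r ≠ p → (Nat.card W - 1).factorization r ≤ (Nat.card T).factorization r) :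
    (∃ k : ℕ, Nat.card W - 1 = p ^ k) ∨
      (p = 2 ∧ ∃ r₀ k : ℕ, r₀.Prime ∧ 7 ≤ r₀ ∧ r₀ + 1 = 2 ^ k ∧ Nat.card W = r₀ ^ 2) :=
  main_add (V := Additive W) (A := A) (fun g => MonoidHom.toAdditive (ψ g).toMonoidHom)
    (fun v => by
      change Additive.ofMul (ψ 1 v.toMul) = v
      rw [map_one]; rfl)
    (fun g h v => by
      change Additive.ofMul (ψ (g * h) v.toMul) = Additive.ofMul (ψ g (ψ h v.toMul))
      rw [map_mul]; rfl)
    (fun g h H => hinj (MulEquiv.ext fun v => H (Additive.ofMul v)))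
    (fun v w hv hw => htr v.toMul w.toMul hv hw) (w₁ := Additive.ofMul w₁) hw₁ hp hQ hQ1 hQp T hT hyp

universe v

/-- TAB1c -/
theorem st_tab1c : StTab1c.{v} := by
  intro Ω _ L s p a b Q hL hAff hyp
  classical
  obtain ⟨W, hWL, hWn, hWc, hWt, hWs⟩ := hAff
  have hconj : ∀ g ∈ L, ∀ w ∈ W, g * w * g⁻¹ ∈ W := by
    intro g hg w hw
    have := hWn.conj_mem ⟨w, hWL hw⟩ (Subgroup.mem_subgroupOf.2 hw) ⟨g, hg⟩
    exact Subgroup.mem_subgroupOf.1 this
  have hreg : ∀ w ∈ W, ∀ w' ∈ W, w a = w' a → w = w' := by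
    intro w hw w' hw' h
    have h1 : (⟨w'⁻¹ * w, W.mul_mem (W.inv_mem hw') hw⟩ : W) ∈ MulAction.stabilizer W a := by
      rw [MulAction.mem_stabilizer_iff]
      change (w'⁻¹ * w) a = a
      rw [Equiv.Perm.mul_apply, Equiv.Perm.inv_eq_iff_eq]
      exact h
    rw [hWs a, Subgroup.mem_bot] at h1
    have h2 := congrArg Subtype.val h1
    exact (inv_mul_eq_one.1 h2).symm
  have hWcard : Nat.card W = s + 1 := by
    rw [← hL.card]
    refine Nat.card_eq_of_bijective (fun w : W => (w : Equiv.Perm Ω) a) ⟨?_, ?_⟩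
    · intro w w' h
      exact Subtype.ext (hreg w w.2 w' w'.2 h)
    · intro c
      obtain ⟨w, hw⟩ := hWt.exists_smul_eq a c
      exact ⟨w, hw⟩
  letI : CommGroup ↥W :=
    { (inferInstance : Group ↥W) with
      mul_comm := fun x y => hWc.is_comm.comm x y }
  let A := Stb L a
  have hAL : ∀ g ∈ A, g ∈ L := fun g hg => hg.1
  have hAa : ∀ g ∈ A, g a = a := fun g hg => hg.2
  let ψ : ↥A →* MulAut ↥W :=
    { toFun := fun g =>
        { toFun := fun w => ⟨(g : Equiv.Perm Ω) * w * (g : Equiv.Perm Ω)⁻¹, hconj g (hAL g g.2) w w.2⟩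
          invFun := fun w => ⟨(g : Equiv.Perm Ω)⁻¹ * w * (g : Equiv.Perm Ω), by
            have := hconj (g : Equiv.Perm Ω)⁻¹ (L.inv_mem (hAL g g.2)) w w.2
            rwa [inv_inv] at this⟩
          left_inv := fun w => Subtype.ext (by simp [mul_assoc])
          right_inv := fun w => Subtype.ext (by simp only [mul_assoc, _root_.mul_inv_cancel_left, _root_.mul_inv_cancel, _root_.mul_one])
          map_mul' := fun w w' => Subtype.ext (by simp only [mul_assoc, _root_.Subgroup.coe_mul, _root_.MulMemClass.mk_mul_mk, _root_.inv_mul_cancel_left]) }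
      map_one' := by
        apply MulEquiv.ext
        intro w
        apply Subtype.ext
        change (1 : Equiv.Perm Ω) * w * (1 : Equiv.Perm Ω)⁻¹ = w
        simp
      map_mul' := by
        intro g h
        apply MulEquiv.ext
        intro w
        apply Subtype.ext
        change ((g : Equiv.Perm Ω) * h) * w * ((g : Equiv.Perm Ω) * h)⁻¹ = g * (h * w * (h : Equiv.Perm Ω)⁻¹) * (g : Equiv.Perm Ω)⁻¹
        group }
  have hψ : ∀ (g : A) (w : W), ((ψ g w : W) : Equiv.Perm Ω) = g * w * (g : Equiv.Perm Ω)⁻¹ := fun _ _ => rfl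
  have hψa : ∀ (g : A) (w : W), ((ψ g w : W) : Equiv.Perm Ω) a = (g : Equiv.Perm Ω) ((w : Equiv.Perm Ω) a) := by
    intro g w
    rw [hψ, Equiv.Perm.mul_apply, Equiv.Perm.mul_apply]
    have : (g : Equiv.Perm Ω)⁻¹ a = a := by
      rw [Equiv.Perm.inv_eq_iff_eq]; exact (hAa g g.2).symm
    rw [this]
  obtain ⟨w₁, hw₁⟩ : ∃ w : W, (w : Equiv.Perm Ω) a = b := hWt.exists_smul_eq a b
  have hw₁1 : w₁ ≠ 1 := by
    rintro rfl
    exact hL.ne hw₁
  have hinj : Function.Injective ψ := by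
    intro g h hgh
    apply Subtype.ext
    apply Equiv.ext
    intro c
    obtain ⟨w, rfl⟩ : ∃ w : W, (w : Equiv.Perm Ω) a = c := hWt.exists_smul_eq a c
    rw [← hψa, ← hψa, hgh]
  have htr : ∀ v w : W, v ≠ 1 → w ≠ 1 → ∃ g, ψ g v = w := by
    intro v w hv hw
    have h1 : a ≠ (v : Equiv.Perm Ω) a := fun h => hv (Subtype.ext (hreg v v.2 1 W.one_mem h.symm))
    have h2 : a ≠ (w : Equiv.Perm Ω) a := fun h => hw (Subtype.ext (hreg w w.2 1 W.one_mem h.symm))
    obtain ⟨g, hg, hga, hgv⟩ := hL.two a _ a _ h1 h2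
    refine ⟨⟨g, hg, hga⟩, Subtype.ext (hreg _ (ψ _ v).2 _ w.2 ?_)⟩
    rw [hψa]
    exact hgv
  have hQ' : (Q.subgroupOf A).Normal := hL.Q_normal
  have hQ1 : Q.subgroupOf A ≠ ⊥ := by
    rw [Ne, Subgroup.subgroupOf_eq_bot]
    intro h
    exact hL.Q_ne (by rw [← inf_eq_left.2 hL.Q_le, h.eq_bot])
  have hQp : IsPGroup p ↥(Q.subgroupOf A) :=
    hL.Q_p.of_injective ((A.subtype.comp (Q.subgroupOf A).subtype).codRestrict Q (fun x => Subgroup.mem_subgroupOf.1 x.2))
      (fun x y h => by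
        have h2 := congrArg Subtype.val h
        exact Subtype.ext (Subtype.ext h2))
  have hTc : Nat.card ((Stb L b).subgroupOf A) = Nat.card ↥(Stb L a ⊓ Stb L b) := by
    rw [inf_comm, ← Subgroup.inf_subgroupOf_right]
    exact Nat.card_congr (Subgroup.subgroupOfEquivOfLe inf_le_right).toEquiv
  have hmain := main_lin ψ hinj htr hw₁1 hL.prime hQ' hQ1 hQp ((Stb L b).subgroupOf A) (by
    intro g
    rw [Subgroup.mem_subgroupOf]
    constructor
    · intro h
      refine Subtype.ext (hreg _ (ψ g w₁).2 _ w₁.2 ?_)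
      rw [hψa, hw₁]
      exact h.2
    · intro h
      refine ⟨hAL g g.2, ?_⟩
      change (g : Equiv.Perm Ω) b = b
      rw [← hw₁, ← hψa, h]) (by
    intro r hr hrp
    rw [hTc, hWcard, Nat.add_sub_cancel]
    exact hyp r hr hrp)
  rw [hWcard, Nat.add_sub_cancel] at hmain
  exact hmain

end Cfsg.Agent.H482.Tab
end

-- part: H270/Tits/E2
section
/-!
# S3414 [E2]: `PSL_7(2)` does not occur (helper270)

`st_e2 : StKeyAff → StStar → StE2`.
-/

set_option autoImplicit false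

namespace Cfsg.Agent.H270.Tits

open Subgroup Cfsg.Agent.H873.Tits Cfsg.Agent.H263.TW

universe u v

/-! ## Arithmetic -/

theorem arith4 {k : ℕ} (h1 : 126 ≤ (2 ^ k) ^ 2) (h2 : 2 ^ k ≤ 126 ^ 2)
    (h3 : (126 + 2 ^ k) ∣ 2 * 126 * 2 ^ k * (1 + 126) * (1 + 2 ^ k)) : 2 ^ k = 128 := by
  have h4 : k < 14 := by
    by_contra hcon
    push Not at hcon
    have : 2 ^ 14 ≤ 2 ^ k := Nat.pow_le_pow_right (by norm_num) hcon
    norm_num at this h2
    omega
  have key : ∀ k < 14, 126 ≤ (2 ^ k) ^ 2 → (126 + 2 ^ k) ∣ 2 * 126 * 2 ^ k * (1 + 126) * (1 + 2 ^ k) → 2 ^ k = 128 := by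
    decide +kernel
  exact key k h4 h1 h3

theorem arith7 {k g c : ℕ} (hc : ¬ 7 ∣ c) (h : 7 * c * 2 ^ k = g ^ 2) : False := by
  have h7 : Nat.Prime 7 := by norm_num
  have h1 : 7 ∣ g ^ 2 := h ▸ ((Dvd.intro _ rfl : 7 ∣ 7 * c).mul_right _)
  obtain ⟨e, rfl⟩ := h7.dvd_of_dvd_pow h1
  have h2 : 7 * (c * 2 ^ k) = 7 * (7 * e ^ 2) := by
    calc 7 * (c * 2 ^ k) = 7 * c * 2 ^ k := by ring
      _ = (7 * e) ^ 2 := h
      _ = 7 * (7 * e ^ 2) := by ring
  have h3 := Nat.eq_of_mul_eq_mul_left (by norm_num) h2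
  have h4 : 7 ∣ c * 2 ^ k := h3 ▸ Dvd.intro _ rfl
  rcases h7.dvd_mul.1 h4 with h5 | h5
  · exact hc h5
  · have := h7.dvd_of_dvd_pow h5
    norm_num at this

theorem num {G : Type u} [Group G] {V : Type v} [MulAction G V] {P : Pol G V} (N : Num P) {b : Bool} {k : ℕ}
    (hs : P.q b = 126) (ht : P.q (!b) = 2 ^ k) : P.n = 4 ∧ 2 ^ k = 128 := by
  have e1 : P.q true * P.q false = 126 * 2 ^ k := by
    cases b
    · rw [Bool.not_false] at ht; rw [hs, ht, mul_comm]
    · rw [Bool.not_true] at ht; rw [hs, ht]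
  have e2 : P.q true + P.q false = 126 + 2 ^ k := by
    cases b
    · rw [Bool.not_false] at ht; rw [hs, ht, add_comm]
    · rw [Bool.not_true] at ht; rw [hs, ht]
  have e3 : (1 + P.q true) * (1 + P.q false) = (1 + 126) * (1 + 2 ^ k) := by
    cases b
    · rw [Bool.not_false] at ht; rw [hs, ht, mul_comm]
    · rw [Bool.not_true] at ht; rw [hs, ht]
  rcases P.hn with h | h | h
  · refine ⟨h, ?_⟩
    have h1 := N.hig48 (Or.inl h) b
    have h2 := N.hig48 (Or.inl h) (!b)
    rw [Bool.not_not] at h2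
    rw [hs, ht] at h1 h2
    have h3 := N.fh4 h
    have e4 : 2 * P.q true * P.q false * (1 + P.q true) * (1 + P.q false) =
        2 * 126 * 2 ^ k * (1 + 126) * (1 + 2 ^ k) := by
      calc 2 * P.q true * P.q false * (1 + P.q true) * (1 + P.q false)
          = 2 * (P.q true * P.q false) * ((1 + P.q true) * (1 + P.q false)) := by ring
        _ = 2 * (126 * 2 ^ k) * ((1 + 126) * (1 + 2 ^ k)) := by rw [e1, e3]
        _ = 2 * 126 * 2 ^ k * (1 + 126) * (1 + 2 ^ k) := by ring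
    rw [e2, e4] at h3
    exact arith4 h1 h2 h3
  · exfalso
    obtain ⟨g, hg, -⟩ := N.fh6 h
    rw [e1] at hg
    exact arith7 (k := k) (g := g) (c := 18) (by norm_num) (by rw [← hg])
  · exfalso
    obtain ⟨g, hg, -⟩ := N.fh8 h
    rw [mul_assoc, e1] at hg
    exact arith7 (k := k) (g := g) (c := 36) (by norm_num) (by rw [← hg]; ring)

/-! ## Orbits -/

section

variable {G : Type u} [Group G] [Finite G] {V : Type v} [Finite V] [MulAction G V] {P : Pol G V}

omit [Finite G] [Finite V] in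
theorem ncard_nb {x y : V} (hxy : P.adj x y) : ({w | P.adj x w ∧ w ≠ y} : Set V).ncard = P.q (P.tp x) := by
  have h1 : ({w | P.adj x w ∧ w ≠ y} : Set V) = {w | P.adj x w} \ {y} := by
    ext w; simp
  rw [h1, Set.ncard_sdiff_singleton_of_mem (show y ∈ {w | P.adj x w} from hxy), ← Nat.card_coe_set_eq]
  have := P.card_nb x
  have h2 : Nat.card ↑{w | P.adj x w} = P.q (P.tp x) + 1 := this
  rw [h2, Nat.add_sub_cancel]

omit [Finite G] in
theorem ncard_orbit_dvd (F : Facts P) {x y w : V} (hxy : P.adj x y) (N : Subgroup G) (hN : N ≤ P.S x ⊓ P.S y)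
    (hN' : P.S x ⊓ P.S y ≤ normalizer (N : Set G)) (hw : P.adj x w) (hwy : w ≠ y) :
    (MulAction.orbit N w).ncard ∣ P.q (P.tp x) := by
  rw [← ncard_nb hxy]
  refine Cfsg.Agent.PermutationGroups.TwoTransitiveNormal.dvd_ncard_of_index_stabilizer_eq (G := N) (Set.toFinite _) ?_ ?_
  · rintro ⟨g, hg⟩ v ⟨hv, hvy⟩
    obtain ⟨h1, h2⟩ := hN hg
    have h1' : g • x = x := h1
    have h2' : g • y = y := h2
    refine ⟨?_, fun h => hvy ?_⟩
    · have := P.smul_adj g hv
      rwa [h1'] at this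
    · have h3 : g • v = g • y := by rw [h2']; exact h
      exact smul_left_cancel g h3
  · rintro v ⟨hv, hvy⟩
    rw [MulAction.index_stabilizer]
    obtain ⟨g, hg, h1, h2⟩ := F.two_trans hxy hw (Ne.symm hwy) hxy hv (Ne.symm hvy)
    have hgN : g ∈ normalizer (N : Set G) := hN' ⟨hg, h1⟩
    have h3 : MulAction.orbit N v = (fun z => g • z) '' MulAction.orbit N w := by
      ext z
      constructor
      · rintro ⟨⟨a, ha⟩, rfl⟩
        refine ⟨(g⁻¹ * a * g) • w, ⟨⟨g⁻¹ * a * g, conj_mem' hgN ha⟩, rfl⟩, ?_⟩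
        change g • (g⁻¹ * a * g) • w = a • v
        rw [← h2, smul_smul, smul_smul]
        congr 1
        group
      · rintro ⟨_, ⟨⟨a, ha⟩, rfl⟩, rfl⟩
        refine ⟨⟨g * a * g⁻¹, Cfsg.Agent.H263.TW.conj_mem hgN ha⟩, ?_⟩
        change (g * a * g⁻¹) • v = g • a • w
        rw [← h2, smul_smul, smul_smul]
        congr 1
        group
    rw [h3, Set.ncard_image_of_injective _ (MulAction.injective g)]

theorem ncard_orbit_two (F : Facts P) {x y w : V} (hxy : P.adj x y) (hq : P.q (P.tp x) = 126) (Q : Subgroup G) (hQ : Q ≤ P.K y)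
    (hQn : P.S y ≤ normalizer (Q : Set G)) (hQp : IsPGroup 2 Q) (hw : P.adj x w) (hwy : w ≠ y) :
    (MulAction.orbit Q w).ncard ≤ 2 := by
  have : Fact (Nat.Prime 2) := ⟨Nat.prime_two⟩
  have hKx : P.K y ≤ P.S x := fun g hg => hg.2 x (P.symm hxy)
  have h1 := ncard_orbit_dvd F hxy Q (hQ.trans (le_inf hKx (P.K_le_S y))) (inf_le_right.trans hQn) hw hwy
  rw [hq] at h1
  obtain ⟨n, hn⟩ := IsPGroup.iff_card.1 hQp
  have h2 : (MulAction.orbit Q w).ncard ∣ 2 ^ n := by
    rw [← hn, ← MulAction.index_stabilizer]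
    exact index_dvd_card _
  obtain ⟨j, hj, hj'⟩ := (Nat.dvd_prime_pow Nat.prime_two).1 h2
  rw [hj'] at h1 ⊢
  rcases Nat.lt_or_ge j 2 with h3 | h3
  · interval_cases j <;> norm_num
  · exfalso
    have h4 : 2 ^ 2 ∣ 126 := (pow_dvd_pow 2 h3).trans h1
    norm_num at h4

/-- the stabilizer in `K y` of a vertex at distance two is a `2`-group -/
theorem pgroup_KS (hStar : StStar.{u, v}) (F : Facts P) (hA : CaseA P 2) {x y w : V} (hxy : P.adj x y)
    (hq : P.q (P.tp x) = 126) (hw : P.adj x w) (hwy : w ≠ y) : IsPGroup 2 ↥(P.K y ⊓ P.S w) := by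
  have hSK := Cfsg.Agent.H263.TW.S_le_normalizer_K P y
  set! Q := cp 2 (P.K y) with hQdef
  have hQ : Q ≤ P.K y := cp_le _ _
  have hQn : P.S y ≤ normalizer (Q : Set G) := hSK.trans (normalizer_le_cp 2 (P.K y))
  have hQp : IsPGroup 2 Q := cp_pGroup _ _
  have hQn' : (Q.subgroupOf (P.S y)).Normal := by
    constructor
    intro n hn g
    exact Cfsg.Agent.H263.TW.conj_mem (K := Q) (hQn g.2) hn
  have hmax : ∀ Q' : Subgroup G, Q' ≤ P.K y → (Q'.subgroupOf (P.S y)).Normal → IsPGroup 2 ↥Q' → Q' ≤ Q := by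
    intro Q' h1 h2 h3
    refine le_cp h1 h3 ?_
    refine (P.K_le_S y).trans ?_
    intro g hg
    have h4 : ∀ g ∈ P.S y, ∀ a ∈ Q', g * a * g⁻¹ ∈ Q' := by
      intro g hg a ha
      exact h2.conj_mem ⟨a, P.K_le_S y (h1 ha)⟩ ha ⟨g, hg⟩
    rw [mem_normalizer_iff]
    intro a
    refine ⟨fun ha => h4 g hg a ha, fun ha => ?_⟩
    have h5 := h4 g⁻¹ (inv_mem hg) _ ha
    have h6 : g⁻¹ * (g * a * g⁻¹) * g⁻¹⁻¹ = a := by group
    rwa [h6] at h5
  have hE := hA.pgroup hxy
  have key : ∀ g ∈ P.K y ⊓ P.S w, g ^ 2 ∈ P.K x ⊓ P.K y := by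
    rintro g ⟨hg, hgw⟩
    have hgx : g • x = x := hg.2 x (P.symm hxy)
    have hgy : g • y = y := hg.1
    refine ⟨⟨by rw [pow_two, mul_smul, hgx, hgx], fun z hz => ?_⟩, pow_mem hg 2⟩
    by_cases hzy : z = y
    · rw [hzy, pow_two, mul_smul, hgy, hgy]
    obtain ⟨b, hb, hgb⟩ := hStar P F hA hxy hw hwy hz hzy Q hQ hQn' hQp hmax g hg
      ⟨1, one_mem _, by rw [one_smul]; exact hgw⟩
    by_contra hne
    have h2 := ncard_orbit_two F hxy hq Q hQ hQn hQp hz hzy
    have h3 : 2 < (MulAction.orbit Q z).ncard := by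
      rw [Set.two_lt_ncard_iff]
      refine ⟨z, g • z, g • g • z, MulAction.mem_orbit_self z, ⟨⟨b, hb⟩, hgb.symm⟩, ?_, ?_, ?_, ?_⟩
      · refine ⟨⟨g * b * g⁻¹ * b, mul_mem (Cfsg.Agent.H263.TW.conj_mem (hQn (P.K_le_S y hg)) hb) hb⟩, ?_⟩
        change (g * b * g⁻¹ * b) • z = g • g • z
        rw [mul_smul, mul_smul, mul_smul, ← hgb, inv_smul_smul, ← hgb]
      · intro h
        apply hne
        rw [pow_two, mul_smul, ← h, ← h]
      · intro h
        apply hne
        rw [pow_two, mul_smul, ← h]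
      · intro h
        apply hne
        have h5 : z = g • z := smul_left_cancel g h
        rw [pow_two, mul_smul, ← h5, ← h5]
    omega
  intro g
  obtain ⟨j, hj⟩ := hE ⟨(g : G) ^ 2, key g g.2⟩
  refine ⟨j + 1, ?_⟩
  have h1 : ((g : G) ^ 2) ^ 2 ^ j = 1 := congrArg Subtype.val hj
  apply Subtype.ext
  change (g : G) ^ 2 ^ (j + 1) = 1
  rw [pow_succ, mul_comm, pow_mul]
  exact h1

theorem card_K_dvd (hStar : StStar.{u, v}) (F : Facts P) (hA : CaseA P 2) {x y : V} (hxy : P.adj x y)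
    (hq : P.q (P.tp x) = 126) : ∃ e, Nat.card ↥(P.K y) ∣ 2 ^ e * 126 := by
  have : Fact (Nat.Prime 2) := ⟨Nat.prime_two⟩
  obtain ⟨w, hw, hwy⟩ : ∃ w, P.adj x w ∧ w ≠ y := by
    have h1 := ncard_nb hxy
    rw [hq] at h1
    have h2 : ({w | P.adj x w ∧ w ≠ y} : Set V).Nonempty := by
      rw [Set.nonempty_iff_ne_empty]
      intro h
      rw [h, Set.ncard_empty] at h1
      omega
    exact h2
  obtain ⟨e, he⟩ := IsPGroup.iff_card.1 (pgroup_KS hStar F hA hxy hq hw hwy)
  refine ⟨e, ?_⟩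
  have h1 := ((P.K y ⊓ P.S w).subgroupOf (P.K y)).card_mul_index
  rw [card_subgroupOf', inf_of_le_left inf_le_left, he] at h1
  rw [← h1]
  have h2 := F.relIndex_dvd (x := y) (y := x) (w := w) (P.symm hxy) (P.symm hw) (Ne.symm hwy)
  rw [hq] at h2
  exact mul_dvd_mul_left _ h2

end

/-! ## The theorem -/

theorem st_e2 (hKA : StKeyAff.{u, v}) (hStar : StStar.{u, v}) : StE2.{u, v} := by
  intro G _ _ V _ _ P F N hA x y hxy hL hy
  obtain ⟨h127, -⟩ := card_L (P.L x) hL
  have hq : P.q (P.tp x) = 126 := by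
    have := P.card_nb x
    omega
  rcases hy with hy | ⟨k, hk⟩
  · obtain ⟨x', hx'⟩ := F.exists_opp x
    have h3 := hKA P F hA hxy hx' (r := 3) Nat.prime_three (by norm_num) hy (Or.inl (by norm_num))
    have h7 := hKA P F hA hxy hx' (r := 7) (by norm_num) (by norm_num) hy (Or.inl (by norm_num))
    rw [hq] at h3 h7
    have e3 : 2 ≤ (126 : ℕ).factorization 3 :=
      (Nat.prime_three.pow_dvd_iff_le_factorization (by norm_num)).1 (by norm_num)
    have e7 : 1 ≤ (126 : ℕ).factorization 7 :=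
      ((by norm_num : Nat.Prime 7).pow_dvd_iff_le_factorization (by norm_num)).1 (by norm_num)
    exact no_idx (P.L x) (P.L' x x') hL L'_le_L (twoTr_L' F hx') (e3.trans h3) (e7.trans h7)
  · have htp : P.tp y = !P.tp x := P.tp_adj hxy
    rw [htp] at hk
    obtain ⟨hn, h128⟩ := num N hq hk
    rw [h128] at hk
    obtain ⟨y', hy'⟩ := F.exists_opp y
    have hc := F.count_opp hy'
    rw [hn, htp, Bool.not_not, hq, hk] at hc
    norm_num only [_root_.Subgroup.mem_inf, _root_.MulAction.mem_stabilizer_iff] at hc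
    obtain ⟨c, hcK⟩ : Nat.card ↥(P.K y ⊓ P.S y') ∣ Nat.card ↥(P.K y) := card_dvd_of_le inf_le_left
    have hκ : 0 < Nat.card ↥(P.K y ⊓ P.S y') := Nat.card_pos
    have h1 : P.idx y y' * c = 128 * 126 ^ 2 := by
      rw [hcK] at hc
      apply Nat.eq_of_mul_eq_mul_right hκ
      calc P.idx y y' * c * Nat.card ↥(P.K y ⊓ P.S y') = P.idx y y' * (Nat.card ↥(P.K y ⊓ P.S y') * c) := by ring
        _ = _ := hc
        _ = _ := by norm_num only [_root_.Subgroup.mem_inf, _root_.MulAction.mem_stabilizer_iff]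
    have hc0 : c ≠ 0 := by
      rintro rfl
      norm_num at h1
    have hi0 : P.idx y y' ≠ 0 := by
      intro h
      rw [h] at h1
      norm_num at h1
    obtain ⟨e, he⟩ := card_K_dvd hStar F hA hxy hq
    have h2 : c ∣ 2 ^ e * 126 := (Dvd.intro_left _ hcK.symm).trans he
    have h3 : c.factorization 3 ≤ 2 := by
      by_contra hcon
      push Not at hcon
      have h4 : 3 ^ 3 ∣ 2 ^ e * 126 := ((Nat.prime_three.pow_dvd_iff_le_factorization hc0).2 hcon).trans h2
      have h5 : Nat.Coprime (3 ^ 3) (2 ^ e) := by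
        apply Nat.Coprime.pow
        norm_num
      have := h5.dvd_of_dvd_mul_left h4
      norm_num at this
    have h4 : (P.idx y y').factorization 3 + c.factorization 3 = (128 * 126 ^ 2).factorization 3 := by
      rw [← h1, Nat.factorization_mul hi0 hc0, Finsupp.add_apply]
    have h5 : 4 ≤ (128 * 126 ^ 2).factorization 3 :=
      (Nat.prime_three.pow_dvd_iff_le_factorization (by norm_num)).1 (by norm_num)
    have h6 : P.idx y y' ≤ 128 * 126 ^ 2 := by
      rw [← h1]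
      exact Nat.le_mul_of_pos_right _ (Nat.pos_of_ne_zero hc0)
    have hΩ := P.card_nb y
    rw [htp, hk] at hΩ
    exact no_idx129 (twoTr_L F y) L'_le_L (twoTr_L' F hy') hΩ (by
      change 2 ≤ (P.idx y y').factorization 3
      omega) h6

end Cfsg.Agent.H270.Tits
end

-- part: H592/E4/Final
section
/-!
# S3414 [E4] (helper592): `st_e4`
-/

set_option autoImplicit false

namespace Cfsg.Agent.H592.E4

open Cfsg.Agent.H873.Tits

universe u v

/-- **E4.** -/
theorem st_e4 : StE4.{u, v} := e4_of_tab.{u, v} Cfsg.Agent.H361.Tits.st_tab1a.{v}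

end Cfsg.Agent.H592.E4
end

-- part: H332/Tits/Out
section
/-!
# S3414 [E-OUT] : the outer automorphism group at the end step (helper332, task 5197)
-/

set_option autoImplicit false

namespace Cfsg.Agent.H332.Tits

universe u v

section

variable {G : Type u} [Group G] (T : Subgroup G) [T.Normal]

/-- the homomorphism `G → Out T` -/
def outHom : G →* Cfsg.Out ↥T := (QuotientGroup.mk' (Cfsg.Inn ↥T)).comp MulAut.conjNormal

theorem ker_outHom (hc : Subgroup.centralizer (T : Set G) = ⊥) : (outHom T).ker = T := by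
  ext g
  constructor
  · intro hg
    have h1 : (QuotientGroup.mk' (Cfsg.Inn ↥T)) (MulAut.conjNormal g) = 1 := hg
    have h2 : (MulAut.conjNormal g : MulAut ↥T) ∈ (MulAut.conj : ↥T →* MulAut ↥T).range :=
      (QuotientGroup.eq_one_iff _).1 h1
    obtain ⟨t, ht⟩ := h2
    have h3 : (t : G)⁻¹ * g ∈ Subgroup.centralizer (T : Set G) := by
      rw [Subgroup.mem_centralizer_iff]
      intro x hx
      have h4 := congrArg (fun f : MulAut ↥T => ((f ⟨x, hx⟩ : ↥T) : G)) ht
      simp only [MulAut.conj_apply, MulAut.conjNormal_apply, Subgroup.coe_mul, Subgroup.coe_inv] at h4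
      calc x * ((t : G)⁻¹ * g) = (t : G)⁻¹ * ((t : G) * x * (t : G)⁻¹) * g := by group
        _ = (t : G)⁻¹ * g * x := by rw [h4]; group
    rw [hc, Subgroup.mem_bot] at h3
    rw [← inv_mul_eq_one.1 h3]
    exact t.2
  · intro hg
    show (QuotientGroup.mk' (Cfsg.Inn ↥T)) (MulAut.conjNormal g) = 1
    refine (QuotientGroup.eq_one_iff _).2 ⟨⟨g, hg⟩, ?_⟩
    ext x
    simp only [MulAut.conj_apply, MulAut.conjNormal_apply, _root_.Subgroup.coe_mul, _root_.InvMemClass.coe_inv]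

end

/-- **[E-OUT]** -/
theorem st_out : H873.Tits.StOut.{u} := by
  intro G _ _ T _ _ hna hc
  have hfin : Finite (MulAut ↥T) :=
    Finite.of_injective (fun f : MulAut ↥T => (f : ↥T → ↥T)) DFunLike.coe_injective
  have hk := ker_outHom T hc
  have hsol : Group.IsSolvable (Cfsg.Out ↥T) := S5758.result
  let e : G ⧸ T ≃* G ⧸ (outHom T).ker := QuotientGroup.quotientMulEquivOfEq hk.symm
  have hinj : Function.Injective ((QuotientGroup.kerLift (outHom T)).comp e.toMonoidHom) :=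
    (QuotientGroup.kerLift_injective (outHom T)).comp e.injective
  refine ⟨Group.isSolvable_of_isSolvable_injective hinj, Nat.card_le_card_of_injective _ hinj, ?_⟩
  intro S hST hS
  have h1 : (S.subgroupOf T) ≠ ⊤ := by
    intro h
    apply hS
    rw [← hST]
    exact (sup_eq_left.2 (Subgroup.subgroupOf_eq_top.1 h)).symm
  have h2 : S.index = S.relIndex T := by
    have e1 := Subgroup.relIndex_mul_index (inf_le_left : S ⊓ T ≤ S)
    have e2 := Subgroup.relIndex_mul_index (inf_le_right : S ⊓ T ≤ T)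
    rw [Subgroup.inf_relIndex_left] at e1
    rw [Subgroup.inf_relIndex_right] at e2
    have e3 : T.relIndex S = T.index := by
      rw [← Subgroup.relIndex_sup_right, hST, Subgroup.relIndex_top_right]
    rw [e3, ← e2, mul_comm] at e1
    exact Nat.eq_of_mul_eq_mul_right (Nat.pos_of_ne_zero T.index_ne_zero_of_finite) e1
  have h3 := H934.OutAll.bd hna (S0000.result (G := ↥T)) (S.subgroupOf T) h1
  rw [h2]
  exact h3

end Cfsg.Agent.H332.Tits
end

-- part: H95/Tits/Psl
section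
/-!
# S3414: groups of type `PSL_d(q)`, `d ≥ 3` (pieces TAB1b and PSL-NUM)

`|L| = (s+1) s T` divides `2 f |PGL_d(q)|`; a primitive prime divisor of `p ^ (f (d-1)) - 1` divides `s`, but not `T`.
-/

set_option autoImplicit false

namespace Cfsg.Agent.H95.Tits

open Subgroup Finset Cfsg.Agent.H873.Tits Cfsg.Agent.H163.PG Cfsg.Agent.H115.Tits

universe u v

/-! ### The order of `L` -/

/-- the order of a group of type `PSL_d(q)` divides `2 f |PGL_d(q)|` -/
theorem card_dvd {Ω : Type v} [Finite Ω] (L : Subgroup (Equiv.Perm Ω)) {p d f : ℕ} (h : PSLType L p d f) :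
    Nat.card L ∣ 2 * f * ((p ^ f) ^ (d * (d - 1) / 2) * ∏ i ∈ range (d - 1), ((p ^ f) ^ (i + 2) - 1)) := by
  obtain ⟨hd, hf, hp, -, X, hXL, hXn, hmin, F, _, _, hF, ⟨e⟩⟩ := h
  have hN := hXn
  have hfact : Fact p.Prime := ⟨hp⟩
  have e' : ↥(X.subgroupOf L) ≃* Matrix.ProjectiveSpecialLinearGroup (Fin d) F := (subgroupOfEquivOfLe hXL).trans e
  have hs : IsSimpleGroup (Matrix.ProjectiveSpecialLinearGroup (Fin d) F) := S0249.result d hd
  have hfin : Finite (Matrix.ProjectiveSpecialLinearGroup (Fin d) F) := finite_psl d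
  have hcent : centralizer ((X.subgroupOf L : Subgroup L) : Set L) = ⊥ := by
    by_contra hne
    have h1 := hmin ((centralizer ((X.subgroupOf L : Subgroup L) : Set L)).map L.subtype) (map_subtype_le _) (by
      rw [← comap_subtype, comap_map_eq_self_of_injective (subtype_injective L)]
      infer_instance) (fun h => hne ((map_eq_bot_iff_of_injective _ (subtype_injective L)).1 h))
    have hcomm : ∀ a b : ↥(X.subgroupOf L), a * b = b * a := by
      intro a b
      apply Subtype.ext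
      obtain ⟨c, hc1, hc2⟩ := h1 (mem_subgroupOf.1 a.2)
      have hca : c = a.1 := subtype_injective L hc2
      have := mem_centralizer_iff.1 hc1 b.1 b.2
      rw [hca] at this
      exact this.symm
    have hcomm' : ∀ a b : Matrix.ProjectiveSpecialLinearGroup (Fin d) F, a * b = b * a := by
      intro a b
      apply e'.symm.injective
      rw [map_mul, map_mul]
      exact hcomm _ _
    let _ : CommGroup (Matrix.ProjectiveSpecialLinearGroup (Fin d) F) := { (inferInstance : Group _) with mul_comm := hcomm' }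
    have hpr := IsSimpleGroup.prime_card (α := Matrix.ProjectiveSpecialLinearGroup (Fin d) F)
    have hpr' : (Nat.card (Matrix.ProjectiveSpecialLinearGroup (Fin d) F)).Prime := hpr
    -- the characteristic and a primitive prime divisor (or the order) divide
    have h2 := card_psl (F := F) (n := d) (by omega)
    rw [hF] at h2
    have hp2 := hp.two_le
    have hq2 : 2 ≤ p ^ f := hp2.trans (Nat.le_self_pow (by omega) p)
    have hpc : p ∣ Nat.card (Matrix.ProjectiveSpecialLinearGroup (Fin d) F) := char_dvd_psl hp hf hF (by omega)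
    have hpe : Nat.card (Matrix.ProjectiveSpecialLinearGroup (Fin d) F) = p :=
      ((Nat.prime_dvd_prime_iff_eq hp hpr').1 hpc).symm
    rw [hpe] at h2
    -- `q ^ 3` divides the right side, `gcd` is prime to `p`
    have h3 : p ^ 2 ∣ Nat.gcd d (p ^ f - 1) * p := by
      rw [h2]
      refine Dvd.dvd.mul_right ?_ _
      rw [← pow_mul]
      apply pow_dvd_pow
      have h4 : 3 ≤ d * (d - 1) / 2 := by
        rw [Nat.le_div_iff_mul_le (by norm_num)]
        calc 3 * 2 ≤ 3 * (d - 1) := Nat.mul_le_mul_left _ (by omega)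
          _ ≤ d * (d - 1) := Nat.mul_le_mul_right _ hd
      calc 2 ≤ 3 := by norm_num
        _ ≤ d * (d - 1) / 2 := h4
        _ ≤ f * (d * (d - 1) / 2) := Nat.le_mul_of_pos_left _ hf
    have h4 : p ∣ Nat.gcd d (p ^ f - 1) := by
      rw [sq] at h3
      exact Nat.dvd_of_mul_dvd_mul_right hp.pos h3
    have h5 : p ∣ p ^ f - 1 := h4.trans (Nat.gcd_dvd_right _ _)
    have h6 : p ∣ p ^ f := dvd_pow_self p (by omega)
    have h7 : p ∣ 1 := by
      have := Nat.dvd_sub h6 h5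
      rwa [Nat.sub_sub_self (by omega)] at this
    exact hp.one_lt.ne' (Nat.dvd_one.1 h7)
  have h2 := Cfsg.Agent.Omega.TwoF.Rk.card_dvd (X.subgroupOf L) e' hcent
  rw [S0813.result p f hf hF d (by omega) (fun h => by omega), if_neg (by omega), card_pgl (by omega),
    card_psl (by omega), hF] at h2
  exact h2

/-- the order of a 2-transitive group -/
theorem card_stb {Ω : Type v} [Finite Ω] {L : Subgroup (Equiv.Perm Ω)} (h : TwoTr L) {s : ℕ} (hΩ : Nat.card Ω = s + 1)
    {a b : Ω} (hab : a ≠ b) : Nat.card L = (s + 1) * s * Nat.card ↥(Stb L a ⊓ Stb L b) := by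
  classical
  have h1 := (MulAction.stabilizer L (a, b)).card_mul_index
  have h2 : MulAction.orbit L (a, b) = {x : Ω × Ω | x.1 ≠ x.2} := by
    ext ⟨x, y⟩
    constructor
    · rintro ⟨g, hg⟩
      have e1 : g • a = x := congrArg Prod.fst hg
      have e2 : g • b = y := congrArg Prod.snd hg
      intro h3
      have h4 : x = y := h3
      rw [← e1, ← e2] at h4
      exact hab (smul_left_cancel g h4)
    · intro hxy
      obtain ⟨g, hg, h4, h5⟩ := h a b x y hab hxy
      exact ⟨⟨g, hg⟩, Prod.ext h4 h5⟩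
  have h3 : ({x : Ω × Ω | x.1 ≠ x.2} : Set (Ω × Ω)).ncard = (s + 1) * s := by
    have h4 : ({x : Ω × Ω | x.1 ≠ x.2} : Set (Ω × Ω)) = (Set.range fun x : Ω => (x, x))ᶜ := by
      ext ⟨x, y⟩
      constructor
      · rintro hxy ⟨z, hz⟩
        exact hxy ((congrArg Prod.fst hz).symm.trans (congrArg Prod.snd hz))
      · intro hxy h5
        have h6 : x = y := h5
        exact hxy ⟨x, by rw [h6]⟩
    have h5 : (Set.range fun x : Ω => (x, x)).ncard = s + 1 := by
      rw [← Set.image_univ, Set.ncard_image_of_injective _ (fun x y hxy => congrArg Prod.fst hxy), Set.ncard_univ, hΩ]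
    rw [h4, Set.ncard_compl, h5, Nat.card_prod, hΩ]
    rw [Nat.mul_succ, Nat.add_sub_cancel]
  have h4 : (MulAction.stabilizer L (a, b)).map L.subtype = Stb L a ⊓ Stb L b := by
    ext g
    constructor
    · rintro ⟨⟨g, hg⟩, hgs, rfl⟩
      have h5 := MulAction.mem_stabilizer_iff.1 hgs
      exact ⟨⟨hg, congrArg Prod.fst h5⟩, ⟨hg, congrArg Prod.snd h5⟩⟩
    · rintro ⟨⟨hg, h5⟩, ⟨-, h6⟩⟩
      exact ⟨⟨g, hg⟩, MulAction.mem_stabilizer_iff.2 (Prod.ext h5 h6), rfl⟩
  have h5 : Nat.card ↥((MulAction.stabilizer L (a, b)).map L.subtype) = Nat.card (MulAction.stabilizer L (a, b)) :=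
    Nat.card_congr ((MulAction.stabilizer L (a, b)).equivMapOfInjective L.subtype L.subtype_injective).toEquiv.symm
  rw [← h4, h5, ← h1, MulAction.index_stabilizer, h2, h3, mul_comm]

/-! ### Arithmetic -/

theorem num {p f d q s T : ℕ} (hp : p.Prime) (hf : 1 ≤ f) (hq : q = p ^ f) (hd : 3 ≤ d)
    (hs : (s + 1) * (q - 1) = q ^ d - 1)
    (h : (s + 1) * s * T ∣ 2 * f * (q ^ (d * (d - 1) / 2) * ∏ i ∈ range (d - 1), (q ^ (i + 2) - 1))) :
    (∃ r : ℕ, r.Prime ∧ r ≠ p ∧ r ≠ 2 ∧ r ∣ s ∧ ¬ r ∣ T) ∨ (d = 3 ∧ f = 1 ∧ ∃ k, p + 1 = 2 ^ k) ∨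
      (d = 3 ∧ f = 3 ∧ p = 2 ∧ s = 72 ∧ T.factorization 3 ≤ 1) ∨ (d = 7 ∧ f = 1 ∧ p = 2) := by
  have hp2 := hp.two_le
  have hq2 : 2 ≤ q := by
    rw [hq]
    calc 2 ≤ p := hp2
      _ = p ^ 1 := (pow_one p).symm
      _ ≤ p ^ f := Nat.pow_le_pow_right (by omega) hf
  have hpow : ∀ k, 1 ≤ k → 2 ≤ q ^ k := fun k hk =>
    hq2.trans (Nat.le_self_pow (by omega) q)
  have hsq : s * (q - 1) = q * (q ^ (d - 1) - 1) := by
    have h1 : q * q ^ (d - 1) = q ^ d := by rw [← pow_succ', Nat.sub_add_cancel (by omega)]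
    have h2 := hpow d (by omega)
    have h3 := hpow (d - 1) (by omega)
    have h4 : q * (q ^ (d - 1) - 1) = q ^ d - q := by rw [Nat.mul_sub, h1, mul_one]
    rw [h4]
    rw [add_mul, one_mul] at hs
    omega
  have hs0 : s ≠ 0 := by
    rintro rfl
    have h3 := hpow (d - 1) (by omega)
    rw [zero_mul] at hsq
    have : 0 < q * (q ^ (d - 1) - 1) := Nat.mul_pos (by omega) (by omega)
    omega
  have hss : s * T ∣ 2 * f * (q ^ (d * (d - 1) / 2) * ∏ i ∈ range (d - 1), (q ^ (i + 2) - 1)) := by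
    refine Dvd.dvd.trans ?_ h
    rw [mul_assoc]
    exact Dvd.intro_left _ rfl
  have hprod0 : ∀ i, q ^ (i + 2) - 1 ≠ 0 := fun i => by
    have := hpow (i + 2) (by omega)
    omega
  have hN0 : 2 * f * (q ^ (d * (d - 1) / 2) * ∏ i ∈ range (d - 1), (q ^ (i + 2) - 1)) ≠ 0 :=
    mul_ne_zero (by omega) (mul_ne_zero (pow_ne_zero _ (by omega)) (Finset.prod_ne_zero_iff.2 fun i _ => hprod0 i))
  have hT0 : T ≠ 0 := by
    rintro rfl
    rw [mul_zero, zero_dvd_iff] at hss
    exact hN0 hss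
  -- the case with a primitive prime divisor
  by_cases hr : ∃ r, Ppd p (f * (d - 1)) r
  · left
    obtain ⟨r, hr⟩ := hr
    have hfd : 2 ≤ f * (d - 1) := le_trans (by omega) (Nat.le_mul_of_pos_left (d - 1) hf)
    have hrq : ¬ r ∣ q := by
      rw [hq]
      exact fun h' => hr.not_dvd (by omega) (hr.prime.dvd_of_dvd_pow h')
    have hiff : ∀ k, r ∣ q ^ k - 1 ↔ (d - 1) ∣ k := by
      intro k
      rw [hq, ← pow_mul, hr.dvd_iff (by omega)]
      exact Nat.mul_dvd_mul_iff_left hf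
    have h1 : r ∣ q ^ (d - 1) - 1 := (hiff _).2 dvd_rfl
    have hq1 : ¬ r ∣ q - 1 := by
      have := (hiff 1).not.2 (fun h' => by
        have := Nat.le_of_dvd one_pos h'
        omega)
      rwa [pow_one] at this
    have h2 : s.factorization r = (q ^ (d - 1) - 1).factorization r := by
      have h3 := congrArg (fun n => Nat.factorization n r) hsq
      have h4 := hpow (d - 1) (by omega)
      rw [Nat.factorization_mul hs0 (by omega), Nat.factorization_mul (by omega) (by omega), Finsupp.add_apply,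
        Finsupp.add_apply, Nat.factorization_eq_zero_of_not_dvd hq1, Nat.factorization_eq_zero_of_not_dvd hrq] at h3
      omega
    have hrs : r ∣ s := by
      have h3 : r ∣ s * (q - 1) := by
        rw [hsq]
        exact h1.mul_left _
      exact (hr.prime.dvd_mul.1 h3).resolve_right hq1
    refine ⟨r, hr.prime, hr.ne (by omega), hr.ne_two hfd, hrs, ?_⟩
    intro hrT
    have hr2 : ¬ r ∣ 2 * f := by
      intro h'
      rcases hr.prime.dvd_mul.1 h' with h' | h'
      · exact hr.ne_two hfd ((Nat.prime_dvd_prime_iff_eq hr.prime Nat.prime_two).1 h')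
      · exact hr.not_dvd_mul (Nat.le_mul_of_pos_right f (by omega)) hf h'
    have h3 : (s * T).factorization r ≤ (2 * f * (q ^ (d * (d - 1) / 2) * ∏ i ∈ range (d - 1), (q ^ (i + 2) - 1))).factorization r :=
      (Nat.factorization_le_iff_dvd (mul_ne_zero hs0 hT0) hN0).2 hss r
    rw [Nat.factorization_mul hs0 hT0, Finsupp.add_apply, h2, Nat.factorization_mul (by omega)
      (mul_ne_zero (pow_ne_zero _ (by omega)) (Finset.prod_ne_zero_iff.2 fun i _ => hprod0 i)),
      Nat.factorization_mul (pow_ne_zero _ (by omega)) (Finset.prod_ne_zero_iff.2 fun i _ => hprod0 i),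
      Finsupp.add_apply, Finsupp.add_apply, Nat.factorization_eq_zero_of_not_dvd hr2,
      Nat.factorization_eq_zero_of_not_dvd (fun h' => hrq (hr.prime.dvd_of_dvd_pow h')), zero_add, zero_add] at h3
    have h5 := factorization_prod_le (r := r) (k := d - 1) (j := d - 3) (fun i => q ^ (i + 2) - 1) hprod0 (by
      intro i hi hij h'
      rw [hiff] at h'
      rw [Finset.mem_range] at hi
      obtain ⟨c, hc⟩ := h'
      have hc0 : c ≠ 0 := by
        rintro rfl
        omega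
      have hc1 : c = 1 := by
        by_contra hc1
        have : (d - 1) * 2 ≤ (d - 1) * c := Nat.mul_le_mul_left _ (by omega)
        (clear * - hd hi hc this; omega)
      subst hc1
      omega)
    rw [show d - 3 + 2 = d - 1 by omega] at h5
    have h6 : 1 ≤ T.factorization r := (hr.prime.dvd_iff_one_le_factorization hT0).1 hrT
    omega
  · -- the exceptions
    by_cases h3 : 3 ≤ f * (d - 1)
    · have h6 : p = 2 ∧ f * (d - 1) = 6 := by
        by_contra h6
        exact hr (Ppd.exists hp2 h3 h6)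
      obtain ⟨rfl, h6⟩ := h6
      have hd6 : d - 1 ∣ 6 := Dvd.intro_left _ h6
      have hd7 : d - 1 ≤ 6 := Nat.le_of_dvd (by norm_num) hd6
      have hd4 : d - 1 = 2 ∨ d - 1 = 3 ∨ d - 1 = 6 := by
        have h7 : 2 ≤ d - 1 := by omega
        generalize d - 1 = e at *
        interval_cases e <;> simp_all only [_root_.ne_eq, _root_.Std.le_refl, _root_.OfNat.ofNat_ne_zero, _root_.not_false_eq_true, _root_.mul_div_cancel_right₀, _root_.mul_eq_zero, _root_.false_or, _root_.Nat.pow_eq_zero, _root_.false_and, _root_.not_or, _root_.Nat.reduceLeDiff, _root_.not_exists, _root_.Nat.reduceDvd, _root_.Nat.reduceEqDiff, _root_.or_self, _root_.or_false, _root_.Nat.div_eq_zero_iff, _root_.Order.lt_two_iff, _root_.not_le, _root_.Nat.succ_ne_self, _root_.or_true, _root_.mul_eq_right₀, _root_.one_mul, _root_.dvd_refl]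
      rcases hd4 with hd4 | hd4 | hd4
      · right; right; left
        have hf3 : f = 3 := by rw [hd4] at h6; omega
        have hd' : d = 3 := by omega
        subst hf3 hd' hq
        have hs72 : s = 72 := by norm_num at hsq; omega
        subst hs72
        refine ⟨rfl, rfl, rfl, rfl, ?_⟩
        have h7 : 72 * T ∣ 2 ^ 10 * (189 * 511) := by
          refine dvd_trans hss (dvd_of_eq ?_)
          simp only [Finset.prod_range_succ, Finset.prod_range_zero]
          norm_num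
        by_contra hcon
        have h9 : 3 ^ 2 ∣ T := (Nat.prime_three.pow_dvd_iff_le_factorization hT0).2 (by omega)
        obtain ⟨c, rfl⟩ := h9
        have h10 : 3 ^ 4 ∣ 2 ^ 10 * (189 * 511) := by
          refine dvd_trans ?_ h7
          exact ⟨8 * c, by ring⟩
        norm_num at h10
      · left
        have hf3 : f = 2 := by rw [hd4] at h6; omega
        have hd' : d = 4 := by omega
        subst hf3 hd' hq
        have hs72 : s = 84 := by norm_num at hsq; omega
        subst hs72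
        refine ⟨7, by norm_num, by norm_num, by norm_num, by norm_num, ?_⟩
        rintro ⟨c, rfl⟩
        have h7 : 84 * (7 * c) ∣ 2 * 2 * ((2 ^ 2) ^ 6 * (15 * 63 * 255)) := by
          refine dvd_trans hss (dvd_of_eq ?_)
          simp only [Finset.prod_range_succ, Finset.prod_range_zero]
          norm_num
        have h10 : 7 ^ 2 ∣ 2 * 2 * ((2 ^ 2) ^ 6 * (15 * 63 * 255)) := by
          refine dvd_trans ?_ h7
          exact ⟨12 * c, by ring⟩
        norm_num at h10
      · right; right; right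
        have hf3 : f = 1 := by rw [hd4] at h6; omega
        exact ⟨by omega, hf3, rfl⟩
    · right; left
      have hfd : f * (d - 1) = 2 := by
        have := Nat.le_mul_of_pos_left (d - 1) hf
        omega
      have hd' : d = 3 := by
        have := Nat.le_mul_of_pos_left (d - 1) hf
        omega
      subst hd'
      have hf1 : f = 1 := by omega
      subst hf1
      refine ⟨rfl, rfl, ?_⟩
      by_contra hm
      exact hr (Ppd.exists_two hp2 hm)

/-! ### The pieces -/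

theorem main {Ω : Type v} [Finite Ω] {L : Subgroup (Equiv.Perm Ω)} (h2 : TwoTr L) {s : ℕ} (hΩ : Nat.card Ω = s + 1)
    {a b : Ω} (hab : a ≠ b) {p d f : ℕ} (h : PSLType L p d f) :
    (∃ r : ℕ, r.Prime ∧ r ≠ p ∧ r ≠ 2 ∧ r ∣ s ∧ ¬ r ∣ Nat.card ↥(Stb L a ⊓ Stb L b)) ∨
      (d = 3 ∧ f = 1 ∧ ∃ k, p + 1 = 2 ^ k) ∨
      (d = 3 ∧ f = 3 ∧ p = 2 ∧ s = 72 ∧ (Nat.card ↥(Stb L a ⊓ Stb L b)).factorization 3 ≤ 1) ∨
      (d = 7 ∧ f = 1 ∧ p = 2) := by
  have hc := h.2.2.2.1
  rw [hΩ] at hc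
  refine num h.2.2.1 h.2.1 rfl h.1 hc ?_
  rw [← card_stb h2 hΩ hab]
  exact card_dvd L h

/-- **TAB1b** -/
theorem st_tab1b : StTab1b.{v} := by
  intro Ω _ L s p a b Q hQ d f hP hv
  have hs0 : s ≠ 0 := by
    have := hQ.two_le
    omega
  rcases main hQ.two hQ.card hQ.ne hP with ⟨r, h1, h2, h3, h4, h5⟩ | h1 | ⟨-, -, h2, h3, h4⟩ | h1
  · exfalso
    have h6 := hv r h1 h2 h3
    rw [Nat.factorization_eq_zero_of_not_dvd h5] at h6
    have h7 := (h1.dvd_iff_one_le_factorization hs0).1 h4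
    omega
  · exact Or.inl h1
  · exfalso
    have h6 := hv 3 Nat.prime_three (by omega) (by omega)
    have h7 : 2 ≤ s.factorization 3 := by
      rw [← Nat.prime_three.pow_dvd_iff_le_factorization hs0, h3]
      norm_num
    omega
  · exact Or.inr h1

end Cfsg.Agent.H95.Tits
end

-- part: H873/Tits/Fin0
section
set_option autoImplicit false

namespace Cfsg.Agent.H873.Tits

universe u v

theorem st_caseA_fin (hE1 : StE1.{u, v}) (hE3 : StE3.{u, v}) : StCaseA.{u, v} :=
  st_caseA_of H523.KA.st_key_aff H803.RK.st_key_nonaff H523.KA.st_key_easy (H927.Tits.st_zstar H272.TP.st_star)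
    H361.Tits.st_tab1a H95.Tits.st_tab1b H482.Tab.st_tab1c H361.Tits.st_tab2 H354.PP.st_pslpsl hE1 (H270.Tits.st_e2 H523.KA.st_key_aff H272.TP.st_star) hE3
    H592.E4.st_e4

theorem st_end_fin (hS : StSmall.{u}) : StEnd.{u, v} :=
  st_end_of H332.Tits.st_out H736.Tits.st_path H813.TT.st_loc H63.NumE.st_numE hS

end Cfsg.Agent.H873.Tits
end
end
end
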